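import Cfsg.Agent.Fi22Mult.Main

/-!
The double cover of Fi22 is unique.
-/

set_option autoImplicit false
set_option maxRecDepth 100000
set_option maxHeartbeats 2000000

namespace Cfsg.Agent.Fi24Rec

open Cfsg.Spor Cfsg.Agent.CosetCert Cfsg.Agent.Fi22Mult

universe u w

/-- The cover maps onto a double cover, with the same kernel for all of them. -/
theorem exists_from_cover {Γ : Type u} [Group Γ] [Finite Γ] (σ : Γ →* Fi22) (hs : Function.Surjective σ)
    (hc : σ.ker ≤ Subgroup.center Γ) (h2 : Nat.card σ.ker = 2) (hperf : commutator Γ = ⊤) :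
    ∃ ψ : PresentedGroup RQ →* Γ, Function.Surjective ψ ∧ (∀ g, σ (ψ g) = cover g) ∧
      ∀ g, ψ g = 1 ↔ g ∈ cover.ker ∧ g ^ 3 = 1 := by
  obtain ⟨L, hsigma, hrel, hA⟩ := exists_lift hs hc
  have hsq : ∀ x, L x * L x = 1 := fun x => by
    have := hrel x x; rwa [show lab x x = 1 by simp [lab, coxLabel], pow_one] at this
  have hr : ∀ r ∈ RQ, FreeGroup.lift L r = 1 := by
    intro r hr
    obtain ⟨l, hl, rfl⟩ := List.mem_map.1 hr
    have hcw : ∀ W x, (W = UW ∨ W = SW) →
        FreeGroup.lift L (FreeGroup.mk (comWord W x)) = 1 := by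
      intro W x hW
      refine (lift_com hsq W x).2 ?_
      have hW1 : (W.map L).prod ∈ σ.ker := by
        rw [MonoidHom.mem_ker, sigma_prod σ hsigma]
        rcases hW with rfl | rfl
        · exact G_word_U
        · exact G_word_S
      exact (Subgroup.mem_center_iff.1 (hc hW1) (L x)).symm
    rcases RLQ_cases hl with hl | ⟨W, x, hW, rfl⟩
    · have h : (RL0.all fun l => decide (l ∈ (pairsOf genList).map (fun p =>
          powPair p.1 p.2 (lab p.1 p.2)) ∨ l = sgn AW ∨ l = comWord UW .i)) = true := by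
        decide +kernel
      rcases of_decide_eq_true (List.all_eq_true.1 h l hl) with h | rfl | rfl
      · obtain ⟨p, -, rfl⟩ := List.mem_map.1 h
        rw [mk_powPair, map_pow, map_mul, FreeGroup.lift_apply_of, FreeGroup.lift_apply_of]
        exact hrel p.1 p.2
      · rw [lift_sgn, hA]
      · exact hcw UW .i (Or.inl rfl)
    · exact hcw W x hW
  let ψ : PresentedGroup RQ →* Γ := PresentedGroup.toGroup hr
  have hψ : ∀ g, σ (ψ g) = cover g := by
    have : σ.comp ψ = cover := PresentedGroup.ext fun x => by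
      rw [MonoidHom.comp_apply, cover_of, PresentedGroup.toGroup.of, hsigma]
    exact fun g => DFunLike.congr_fun this g
  obtain ⟨hfin, -⟩ := card_bound
  obtain ⟨z, hz, hzK, ho⟩ := ker_cover
  have hψsur : Function.Surjective ψ := by
    intro γ
    have hs' : Function.Surjective (σ.comp ψ) := fun y => by
      obtain ⟨g, hg⟩ := cover_surjective y
      exact ⟨g, (hψ g).trans hg⟩
    obtain ⟨g, -, hg⟩ := ProjExt.Schur.commutator_le_range ψ hc hs' (hperf ▸ Subgroup.mem_top γ)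
    exact ⟨g, hg⟩
  refine ⟨ψ, hψsur, hψ, fun g => ?_⟩
  -- the image of the kernel has order two and contains the image of the generator
  have hzc : ψ z ∈ σ.ker := by rw [MonoidHom.mem_ker, hψ]; exact hz
  have hz2 : ψ z * ψ z = 1 := by
    have h : orderOf (⟨ψ z, hzc⟩ : σ.ker) ∣ 2 := h2 ▸ orderOf_dvd_natCard _
    have h' := orderOf_dvd_iff_pow_eq_one.1 h
    rw [pow_two] at h'
    exact congrArg Subtype.val h'
  have hz1 : ψ z ≠ 1 := fun h1 => by
    have hbot : σ.ker = ⊥ := by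
      rw [eq_bot_iff]
      intro x hx
      obtain ⟨g, rfl⟩ := hψsur x
      rw [MonoidHom.mem_ker, hψ] at hx
      obtain ⟨j, rfl⟩ := hzK (MonoidHom.mem_ker.2 hx)
      rw [Subgroup.mem_bot, map_zpow, h1, one_zpow]
    rw [hbot, Subgroup.card_bot] at h2
    omega
  constructor
  · intro hg
    have hgk : g ∈ cover.ker := by rw [MonoidHom.mem_ker, ← hψ, hg, map_one]
    refine ⟨hgk, ?_⟩
    obtain ⟨j, rfl⟩ := hzK hgk
    rw [map_zpow] at hg
    have hdvd : (orderOf (ψ z) : ℤ) ∣ j := orderOf_dvd_iff_zpow_eq_one.2 hg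
    rw [orderOf_eq_prime (by rw [pow_two]; exact hz2) hz1] at hdvd
    obtain ⟨i, rfl⟩ := hdvd
    show (z ^ (((2 : ℕ) : ℤ) * i)) ^ 3 = 1
    rw [← zpow_natCast (z ^ (((2 : ℕ) : ℤ) * i)), ← zpow_mul,
      show ((2 : ℕ) : ℤ) * i * ((3 : ℕ) : ℤ) = (6 : ℕ) * i by push_cast; ring, zpow_mul, zpow_natCast,
      ← ho, pow_orderOf_eq_one, one_zpow]
  · rintro ⟨hgk, h3⟩
    have h : σ (ψ g) = 1 := by rw [hψ]; exact hgk
    have h' : orderOf (⟨ψ g, h⟩ : σ.ker) ∣ 2 := h2 ▸ orderOf_dvd_natCard _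
    have h2' : (ψ g) ^ 2 = 1 := congrArg Subtype.val (orderOf_dvd_iff_pow_eq_one.1 h')
    have h3' : (ψ g) ^ 3 = 1 := by rw [← map_pow, h3, map_one]
    rw [pow_succ, h2', one_mul] at h3'
    exact h3'

/-- Two double covers are isomorphic over Fi22. -/
theorem cover_unique {Γ : Type u} [Group Γ] [Finite Γ] {Δ : Type w} [Group Δ] [Finite Δ]
    (σ : Γ →* Fi22) (hs : Function.Surjective σ) (hc : σ.ker ≤ Subgroup.center Γ)
    (h2 : Nat.card σ.ker = 2) (hperf : commutator Γ = ⊤)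
    (τ : Δ →* Fi22) (ts : Function.Surjective τ) (tc : τ.ker ≤ Subgroup.center Δ)
    (t2 : Nat.card τ.ker = 2) (tperf : commutator Δ = ⊤) :
    ∃ e : Γ ≃* Δ, ∀ x, τ (e x) = σ x := by
  obtain ⟨p, hp, hpc, hpk⟩ := exists_from_cover σ hs hc h2 hperf
  obtain ⟨q, hq, hqc, hqk⟩ := exists_from_cover τ ts tc t2 tperf
  have hle : p.ker ≤ q.ker := fun g hg => (hqk g).2 ((hpk g).1 hg)
  let f : Γ →* Δ := p.liftOfSurjective hp ⟨q, hle⟩
  have hf : ∀ g, f (p g) = q g := fun g => MonoidHom.liftOfRightInverse_comp_apply _ _ _ _ g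
  have hinj : Function.Injective f := by
    rw [← MonoidHom.ker_eq_bot_iff, eq_bot_iff]
    intro x hx
    obtain ⟨g, rfl⟩ := hp x
    rw [MonoidHom.mem_ker, hf] at hx
    exact Subgroup.mem_bot.2 ((hpk g).2 ((hqk g).1 hx))
  have hsur : Function.Surjective f := fun y => by
    obtain ⟨g, rfl⟩ := hq y
    exact ⟨p g, hf g⟩
  refine ⟨MulEquiv.ofBijective f ⟨hinj, hsur⟩, fun x => ?_⟩
  obtain ⟨g, rfl⟩ := hp x
  show τ (f (p g)) = σ (p g)
  rw [hf, hqc, hpc]

end Cfsg.Agent.Fi24Rec
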