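import Cfsg.Prelude.Def_KGroupFacts
import Mathlib

/-!
Automorphisms of a perfect double cover are realised by conjugation in an ambient group whose
quotient by the centre is the whole automorphism group of the simple quotient.
-/

set_option autoImplicit false

namespace Cfsg.Agent.Fi24Rec

open scoped commutatorElement

universe u w

/-- Two homomorphisms from a perfect group agreeing modulo a central subgroup are equal. -/
theorem eq_of_agree_mod {P : Type*} [Group P] {C : Type*} [Group C] (hP : commutator P = ⊤)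
    {Z : Subgroup C} (hZ : Z ≤ Subgroup.center C) (f g : P →* C) (h : ∀ k, f k * (g k)⁻¹ ∈ Z) : f = g := by
  let δ : P →* Z := MonoidHom.mk' (fun k => ⟨f k * (g k)⁻¹, h k⟩) fun a b => Subtype.ext (by
    have hc := Subgroup.mem_center_iff.1 (hZ (h b)) (f a)
    show f (a * b) * (g (a * b))⁻¹ = f a * (g a)⁻¹ * (f b * (g b)⁻¹)
    have hc' := Subgroup.mem_center_iff.1 (hZ (h b)) (g a)⁻¹
    rw [map_mul, map_mul, mul_inv_rev, mul_assoc (f a) (g a)⁻¹, hc']
    simp only [mul_assoc])
  have hker : δ.ker = ⊤ := by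
    rw [eq_top_iff, ← hP, commutator_def, Subgroup.commutator_le]
    intro a _ b _
    rw [MonoidHom.mem_ker, map_commutatorElement, commutatorElement_eq_one_iff_mul_comm]
    exact Subtype.ext (Subgroup.mem_center_iff.1 (hZ (δ b).2) _)
  refine MonoidHom.ext fun k => ?_
  have h1 : δ k = 1 := MonoidHom.mem_ker.1 (hker ▸ Subgroup.mem_top k)
  exact mul_inv_eq_one.1 (congrArg Subtype.val h1)

variable {C : Type u} [Group C] [Finite C] {S : Type w} [Group S] [Finite S]

/-- A perfect subgroup of index two maps onto the inner automorphisms. -/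
theorem image_eq_inn (hout : Nat.card (Cfsg.Out S) = 2) {Z K : Subgroup C} [Z.Normal] (hZK : Z ≤ K)
    (hidx : K.index = 2) (hK : commutator ↥K = ⊤) (e : C ⧸ Z ≃* MulAut S) :
    (K.map (QuotientGroup.mk' Z)).map e.toMonoidHom = Cfsg.Inn S := by
  set P := (K.map (QuotientGroup.mk' Z)).map e.toMonoidHom with hP
  have hle : P ≤ Cfsg.Inn S := by
    let f : ↥K →* Cfsg.Out S :=
      ((QuotientGroup.mk' (Cfsg.Inn S)).comp (e.toMonoidHom.comp (QuotientGroup.mk' Z))).comp K.subtype
    have hcomm : ∀ a b : Cfsg.Out S, a * b = b * a := by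
      haveI : Fact (Nat.Prime 2) := ⟨Nat.prime_two⟩
      haveI := isCyclic_of_prime_card hout
      letI := IsCyclic.commGroup (α := Cfsg.Out S)
      exact fun a b => mul_comm a b
    have hker : f.ker = ⊤ := by
      rw [eq_top_iff, ← hK, commutator_def, Subgroup.commutator_le]
      intro a _ b _
      rw [MonoidHom.mem_ker, map_commutatorElement, commutatorElement_eq_one_iff_mul_comm]
      exact hcomm _ _
    rintro _ ⟨_, ⟨k, hk, rfl⟩, rfl⟩
    have h := MonoidHom.mem_ker.1 (hker ▸ Subgroup.mem_top (⟨k, hk⟩ : ↥K))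
    exact (QuotientGroup.eq_one_iff _).1 h
  have hi : P.index = 2 := by
    rw [hP, Subgroup.index_map_of_bijective e.bijective,
      Subgroup.index_map_eq _ (QuotientGroup.mk'_surjective Z) (by rwa [QuotientGroup.ker_mk']), hidx]
  exact Subgroup.eq_of_le_of_card_ge hle (Nat.le_of_eq (by
    have h1 := (Cfsg.Inn S).card_mul_index
    have h2 := P.card_mul_index
    rw [Subgroup.index_eq_card, hout] at h1
    rw [hi] at h2
    omega))

/-- Every automorphism of the cover fixing the centre is a conjugation. -/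
theorem exists_realise (hS : Subgroup.center S = ⊥) (hout : Nat.card (Cfsg.Out S) = 2) {Z K : Subgroup C}
    [Z.Normal] (hZc : Z ≤ Subgroup.center C) (hZK : Z ≤ K) (hidx : K.index = 2) (hK : commutator ↥K = ⊤)
    (e : C ⧸ Z ≃* MulAut S) (α : MulAut ↥K) (hα : ∀ k : ↥K, (k : C) ∈ Z → ((α k : ↥K) : C) ∈ Z) :
    ∃ x : C, ∀ k : ↥K, x * (k : C) * x⁻¹ = ((α k : ↥K) : C) := by
  classical
  haveI hKn : K.Normal := Subgroup.normal_of_index_eq_two hidx
  have hinn : ∀ {s t : S}, MulAut.conj s = MulAut.conj t → s = t := by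
    intro s t h
    have hc : s⁻¹ * t ∈ Subgroup.center S := by
      refine Subgroup.mem_center_iff.2 fun y => ?_
      have h1 : s * y * s⁻¹ = t * y * t⁻¹ := DFunLike.congr_fun h y
      calc y * (s⁻¹ * t) = s⁻¹ * (s * y * s⁻¹) * t := by group
        _ = s⁻¹ * t * y := by rw [h1]; group
    rw [hS, Subgroup.mem_bot] at hc
    exact inv_mul_eq_one.1 hc
  have himg := image_eq_inn hout hZK hidx hK e
  have hex : ∀ k : ↥K, ∃ s : S, MulAut.conj s = e (QuotientGroup.mk' Z (k : C)) := fun k => by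
    have hm : e.toMonoidHom (QuotientGroup.mk' Z (k : C)) ∈ Cfsg.Inn S :=
      himg ▸ ⟨_, ⟨k, k.2, rfl⟩, rfl⟩
    exact hm
  choose p hp using hex
  let π : ↥K →* S := MonoidHom.mk' p fun a b => hinn (by rw [map_mul, hp, hp, hp, Subgroup.coe_mul, map_mul, map_mul])
  have hπ : ∀ k : ↥K, MulAut.conj (π k) = e (QuotientGroup.mk' Z (k : C)) := hp
  have hπs : Function.Surjective π := fun s => by
    have hm : MulAut.conj s ∈ (K.map (QuotientGroup.mk' Z)).map e.toMonoidHom := himg ▸ ⟨s, rfl⟩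
    obtain ⟨_, ⟨k, hk, rfl⟩, he⟩ := hm
    exact ⟨⟨k, hk⟩, hinn ((hπ _).trans he)⟩
  have hπk : ∀ k : ↥K, π k = 1 ↔ (k : C) ∈ Z := fun k => by
    rw [← QuotientGroup.eq_one_iff (N := Z), ← QuotientGroup.mk'_apply, ← e.map_eq_one_iff, ← hπ,
      ← map_one MulAut.conj]
    exact ⟨congrArg _, hinn⟩
  have hαK : π.ker ≤ (π.comp α.toMonoidHom).ker := fun k hk => by
    rw [MonoidHom.mem_ker] at hk ⊢
    exact (hπk _).2 (hα k ((hπk k).1 hk))
  let σ₀ : S →* S := π.liftOfSurjective hπs ⟨π.comp α.toMonoidHom, hαK⟩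
  have hσ : ∀ k, σ₀ (π k) = π (α k) := fun k => MonoidHom.liftOfRightInverse_comp_apply _ _ _ _ k
  have hsur : Function.Surjective σ₀ := fun s => by
    obtain ⟨k, rfl⟩ := hπs s
    exact ⟨π (α.symm k), by rw [hσ, α.apply_symm_apply]⟩
  let σ : MulAut S := MulEquiv.ofBijective σ₀ ⟨Finite.injective_iff_surjective.2 hsur, hsur⟩
  obtain ⟨x, hx⟩ := QuotientGroup.mk'_surjective Z (e.symm σ)
  refine ⟨x, fun k => ?_⟩
  refine DFunLike.congr_fun (eq_of_agree_mod hK hZc ((MulAut.conj x).toMonoidHom.comp K.subtype)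
    (K.subtype.comp α.toMonoidHom) fun k => ?_) k
  show x * (k : C) * x⁻¹ * ((α k : ↥K) : C)⁻¹ ∈ Z
  rw [← QuotientGroup.eq_one_iff (N := Z), ← QuotientGroup.mk'_apply, map_mul, map_inv, mul_inv_eq_one]
  refine e.injective ?_
  simp only [map_mul, map_inv, hx, MulEquiv.apply_symm_apply]
  rw [← hπ k, ← hπ (α k), ← hσ]
  refine MulEquiv.ext fun s => ?_
  simp only [MulAut.mul_apply, MulAut.conj_apply]
  show σ₀ _ = _
  rw [map_mul, map_mul, map_inv, show σ₀ ((σ⁻¹ : MulAut S) s) = s from σ.apply_symm_apply s]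

end Cfsg.Agent.Fi24Rec
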