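import Cfsg.Agent.Fi24Rec.Top
import Cfsg.Agent.Fi24Rec.Realise
import Cfsg.Agent.M23Cent.Facts
import Cfsg.Agent.ThreeTrans.TripleAut24
import Cfsg.Agent.FischerTypes.M24

/-!
# `Fi₂₃` inside `Fi₂₄'` as the centraliser of a transposition: the model facts of the gluing
-/

set_option autoImplicit false
set_option maxRecDepth 20000
set_option linter.style.haveILetI false

namespace Cfsg.Agent.Fi24Rec

open Cfsg Cfsg.Agent Cfsg.Agent.ThreeTrans Cfsg.Agent.M23Cent
open scoped commutatorElement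

attribute [local instance] finite_X23

/-- the centraliser of an element of the presented `Fi₂₃` -/
abbrev C23 (v : X23) : Subgroup X23 := Subgroup.centralizer ({v} : Set X23)

theorem mem_C23 {v x : X23} : x ∈ C23 v ↔ Commute x v :=
  Subgroup.mem_centralizer_singleton_iff

theorem self_mem_C23 (v : X23) : v ∈ C23 v := mem_C23.2 (Commute.refl v)

theorem T_inv {v : X23} (hv : v ∈ T) : v⁻¹ = v := inv_eq T_group.1 hv

theorem T_sq {v : X23} (hv : v ∈ T) : v * v = 1 := mul_self T_group.1 hv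

theorem L_mem_D : Fi24.L ∈ Fi24.D := Fi24.mem_D.2 ⟨1, by group⟩

theorem L_sq : Fi24.L * Fi24.L = 1 := by
  have h := pow_orderOf_eq_one Fi24.L
  rwa [Fi24.orderOf_D L_mem_D, sq] at h

/-- the image of `ξ` -/
theorem xi_range : Fi24.ξ.range = Fi24Mult.K Fi24.L := by
  have hle : Fi24.ξ.range ≤ Fi24Mult.K Fi24.L := fun g hg =>
    ⟨(Fi24.centralizer_L ▸ (Fi24.ξ_range hg).1 : g ∈ Subgroup.centralizer ({Fi24.L} : Set GF)),
      (Fi24.ξ_range hg).2⟩
  refine Subgroup.eq_of_le_of_card_ge hle ?_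
  obtain ⟨e⟩ := Fi24Mult.exists_iso
  rw [← Nat.card_congr e.toEquiv, ← Nat.card_congr (MonoidHom.ofInjective Fi24.ξ_injective).toEquiv]

theorem xi_comm_L (x : X23) : Commute (Fi24.ξ x) Fi24.L :=
  Fi24.L_comm (Fi24.ξ_range ⟨x, rfl⟩).1

theorem xi_ker (x : X23) : Fi24.ξ x ∈ Fi24.sign.ker := (Fi24.ξ_range ⟨x, rfl⟩).2

/-- an element of the centraliser of `L` is an image, or an image times `L` -/
theorem H_cases {h : GF} (hh : h ∈ Fi24.H) : ∃ c, Fi24.ξ c = h ∨ Fi24.ξ c = h * Fi24.L := by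
  have hC : ∀ g ∈ Fi24.H, Fi24.sign g = 1 → g ∈ Fi24.ξ.range := fun g hg hs => by
    rw [xi_range]
    exact ⟨(Fi24.centralizer_L ▸ hg : g ∈ Subgroup.centralizer ({Fi24.L} : Set GF)), hs⟩
  rcases sign_cases h with hs | hs
  · obtain ⟨c, hc⟩ := hC h hh hs
    exact ⟨c, Or.inl hc⟩
  · obtain ⟨c, hc⟩ := hC (h * Fi24.L) (mul_mem hh Fi24.L_mem) (by
      rw [map_mul, hs, Fi24Mult.sign_L]; decide)
    exact ⟨c, Or.inr hc⟩

/-- a transposition is an image of a transposition commuting with `L` -/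
theorem exists_lift {v : X23} (hv : v ∈ T) :
    ∃ u ∈ Fi24.D, u ≠ Fi24.L ∧ Commute Fi24.L u ∧ Fi24.ξ v = u * Fi24.L := by
  obtain ⟨c, rfl⟩ := isConj_iff.1
    ((show IsConj Fi23Out.z (PresentedGroup.of Spor.Fi23.Gen.a) from T_gen).symm.trans hv)
  obtain ⟨haD, hane, hac⟩ := FischerTypes.F24.gen_partner (x := .a) (by decide) (by decide)
  set k := Fi24.ξ c with hk
  have hkL : Commute k Fi24.L := xi_comm_L c
  have hkc : k * Fi24.L * k⁻¹ = Fi24.L := by rw [hkL.eq, mul_inv_cancel_right]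
  refine ⟨k * Fi24.gen .a * k⁻¹, ?_, fun h => hane ?_, ?_, ?_⟩
  · obtain ⟨g, hg⟩ := Fi24.mem_D.1 haD
    exact Fi24.mem_D.2 ⟨k * g, by rw [← hg]; group⟩
  · exact mul_left_cancel (mul_right_cancel (h.trans hkc.symm))
  · have := hac.map (MulAut.conj k).toMonoidHom
    simp only [MulEquiv.coe_toMonoidHom, MulAut.conj_apply, hkc] at this
    exact this
  · rw [map_mul, map_mul, map_inv, Fi24.ξ_of, ← hk, show Fi24.node Spor.Fi23.Gen.a = .a from rfl,
      mul_assoc k, mul_assoc (Fi24.gen .a), hkL.inv_left.eq.symm]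
    group

/-- and conversely -/
theorem exists_unlift {u : GF} (hu : u ∈ Fi24.D) (hne : u ≠ Fi24.L) (hc : Commute Fi24.L u) :
    ∃ v ∈ T, Fi24.ξ v = u * Fi24.L := by
  obtain ⟨h, hh, rfl⟩ := partner hu hne hc.symm
  obtain ⟨c, hc'⟩ := H_cases hh
  refine ⟨c * PresentedGroup.of Spor.Fi23.Gen.a * c⁻¹, T_group.2.1 c _ T_gen, ?_⟩
  have haL : Commute Fi24.L (Fi24.gen .a) :=
    (FischerTypes.F24.gen_partner (x := .a) (by decide) (by decide)).2.2
  have hhL : Commute h Fi24.L := Fi24.L_comm hh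
  have hLi : Fi24.L⁻¹ = Fi24.L := inv_eq_of_mul_eq_one_right L_sq
  rw [map_mul, map_mul, map_inv, Fi24.ξ_of, show Fi24.node Spor.Fi23.Gen.a = .a from rfl]
  rcases hc' with e | e <;> rw [e]
  · rw [mul_assoc h, mul_assoc (Fi24.gen .a), hhL.inv_left.eq.symm]
    group
  · rw [mul_inv_rev, hLi, show h * Fi24.L * (Fi24.gen .a * Fi24.L) * (Fi24.L * h⁻¹) =
        h * (Fi24.L * Fi24.gen .a) * (Fi24.L * Fi24.L) * h⁻¹ by group, L_sq, mul_one, haL.eq,
      mul_assoc h, mul_assoc (Fi24.gen .a), hhL.inv_left.eq.symm]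
    group

/-- the centraliser of a transposition goes onto `M u` -/
theorem xi_map_C23 {v : X23} {u : GF} (he : Fi24.ξ v = u * Fi24.L) :
    (C23 v).map Fi24.ξ = M u := by
  have hcomm : ∀ x : X23, Commute x v ↔ Commute (Fi24.ξ x) u := fun x => by
    constructor
    · intro h
      have h1 : Commute (Fi24.ξ x) (u * Fi24.L * Fi24.L) :=
        (he ▸ h.map Fi24.ξ : Commute (Fi24.ξ x) (u * Fi24.L)).mul_right (xi_comm_L x)
      rwa [mul_assoc, L_sq, mul_one] at h1
    · intro h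
      refine Fi24.ξ_injective ?_
      rw [map_mul, map_mul, he]
      exact (h.mul_right (xi_comm_L x)).eq
  ext g
  constructor
  · rintro ⟨x, hx, rfl⟩
    have h1 : Fi24.ξ x ∈ Fi24Mult.K Fi24.L := xi_range ▸ ⟨x, rfl⟩
    exact ⟨h1, Subgroup.mem_centralizer_singleton_iff.2 ((hcomm x).1 (mem_C23.1 hx)).eq, h1.2⟩
  · intro hg
    obtain ⟨x, rfl⟩ := (xi_range ▸ hg.1 : g ∈ Fi24.ξ.range)
    exact ⟨x, mem_C23.2 ((hcomm x).2 (Subgroup.mem_centralizer_singleton_iff.1 hg.2.1)), rfl⟩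

/-- the centraliser of a transposition as `M u` -/
theorem exists_equivM {v : X23} {u : GF} (he : Fi24.ξ v = u * Fi24.L) :
    ∃ e : ↥(C23 v) ≃* ↥(M u), ∀ x, (e x : GF) = Fi24.ξ (x : X23) :=
  ⟨((C23 v).equivMapOfInjective Fi24.ξ Fi24.ξ_injective).trans
    (MulEquiv.subgroupCongr (xi_map_C23 he)), fun _ => rfl⟩

/-! ### Pairs -/

theorem pair_normal {v v' : X23} (hv : v ∈ T) (hv' : v' ∈ dperp T v) :
    ((Subgroup.closure ({v, v'} : Set X23)).subgroupOf
      (Subgroup.centralizer ({v * v'} : Set X23))).Normal := by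
  refine ⟨fun w hw g => ?_⟩
  have hg : Commute (g : X23) (v * v') := Subgroup.mem_centralizer_singleton_iff.1 g.2
  have h2 : (g : X23) * v' * (g : X23)⁻¹ = v ∨ (g : X23) * v' * (g : X23)⁻¹ = v' := by
    rcases pair_conj hv'.1 (dperp_symm hv hv') (g := (g : X23)) (by rwa [← hv'.2.2.eq]) with h | h
    · exact Or.inr h
    · exact Or.inl h
  have hle : (Subgroup.closure ({v, v'} : Set X23)).map (MulAut.conj (g : X23)).toMonoidHom ≤
      Subgroup.closure ({v, v'} : Set X23) := by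
    rw [MonoidHom.map_closure, Subgroup.closure_le]
    rintro _ ⟨z, rfl | rfl, rfl⟩
    · exact Subgroup.subset_closure (pair_conj hv hv' hg)
    · exact Subgroup.subset_closure h2
  rw [Subgroup.mem_subgroupOf] at hw ⊢
  exact hle ⟨_, hw, rfl⟩

theorem pair_facts {v v' : X23} (hv : v ∈ T) (hv' : v' ∈ dperp T v) :
    IsQuasisimple ↥(pairCen v v') ∧
      (Subgroup.center ↥(pairCen v v')).map (pairCen v v').subtype = Subgroup.closure ({v, v'} : Set X23) ∧
      Nat.card ↥(pairCen v v') = 9196830720 * Nat.card ↥(Subgroup.closure ({v, v'} : Set X23)) := by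
  haveI := pair_normal hv hv'
  obtain ⟨-, -, hcen, hqs, ⟨F, hFld, hFt, hF, ⟨e⟩⟩, -⟩ := pair_centralizer23 T_group T_prim T_type hv hv'
  refine ⟨hqs, hcen, ?_⟩
  rw [← hcen, Subgroup.card_map_of_injective (pairCen v v').subtype_injective,
    Subgroup.card_eq_card_quotient_mul_card_subgroup (Subgroup.center ↥(pairCen v v')),
    Nat.card_congr e.toEquiv, card_psu_six hF]

theorem pair_le_left (v v' : X23) : pairCen v v' ≤ C23 v := inf_le_left

theorem pair_le_right (v v' : X23) : pairCen v v' ≤ C23 v' := inf_le_right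

theorem pair_perfect {v v' : X23} (hv : v ∈ T) (hv' : v' ∈ dperp T v) :
    commutator ↥(pairCen v v') = ⊤ :=
  (pair_facts hv hv').1.1.commutator_eq_top

theorem left_mem_pair {v v' : X23} (hv' : v' ∈ dperp T v) : v ∈ pairCen v v' :=
  mem_pairCen.2 ⟨Commute.refl v, hv'.2.2⟩

theorem right_mem_pair {v v' : X23} (hv' : v' ∈ dperp T v) : v' ∈ pairCen v v' :=
  mem_pairCen.2 ⟨hv'.2.2.symm, Commute.refl v'⟩

/-- an element of order 11 in the pair -/
theorem pair_eleven {v v' : X23} (hv : v ∈ T) (hv' : v' ∈ dperp T v) :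
    ∃ x ∈ pairCen v v', orderOf x = 11 := by
  haveI : Fact (Nat.Prime 11) := ⟨by norm_num⟩
  obtain ⟨x, hx⟩ := exists_prime_orderOf_dvd_card' (G := ↥(pairCen v v')) 11
    ((pair_facts hv hv').2.2 ▸ Dvd.dvd.mul_right (by norm_num) _)
  exact ⟨x, x.2, (Subgroup.orderOf_coe x).trans hx⟩

/-- automorphisms of a perfect group are faithful on the central quotient -/
theorem card_mulAut_le {K : Type*} [Group K] [Finite K] (hK : commutator K = ⊤) :
    Nat.card (MulAut K) ≤ Nat.card (MulAut (K ⧸ Subgroup.center K)) := by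
  refine Nat.card_le_card_of_injective (fun α => QuotientGroup.congr _ _ α
    (Subgroup.characteristic_iff_map_eq.1 inferInstance α)) fun α β h => ?_
  refine MulEquiv.ext fun k => DFunLike.congr_fun (eq_of_agree_mod hK le_rfl α.toMonoidHom β.toMonoidHom
    fun k => ?_) k
  have h1 : ((α k : K) : K ⧸ Subgroup.center K) = (β k : K) :=
    DFunLike.congr_fun h (k : K ⧸ Subgroup.center K)
  rw [← QuotientGroup.eq_one_iff, QuotientGroup.mk_mul, QuotientGroup.mk_inv]
  exact mul_inv_eq_one.2 h1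

/-- an automorphism of a pair fixing both members is inner -/
theorem pair_aut {v v' : X23} (hv : v ∈ T) (hv' : v' ∈ dperp T v) (α : MulAut ↥(pairCen v v'))
    (hα : (α ⟨v, left_mem_pair hv'⟩ : X23) = v) (hα' : (α ⟨v', right_mem_pair hv'⟩ : X23) = v') :
    ∃ o ∈ pairCen v v', ∀ x : ↥(pairCen v v'), (α x : X23) = o * x * o⁻¹ := by
  classical
  obtain ⟨hqs, hcen, hcard⟩ := pair_facts hv hv'
  obtain ⟨u, huD, hune, huL, hue⟩ := exists_lift hv
  obtain ⟨u', huD', hune', huL', hue'⟩ := exists_lift hv'.1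
  have hu2 : ∀ {x : GF}, x ∈ Fi24.D → x * x = 1 := fun hx => by
    rw [← sq, ← Fi24.orderOf_D hx]; exact pow_orderOf_eq_one _
  have hne : u ≠ u' := fun h => hv'.2.1 (Fi24.ξ_injective (by rw [hue, hue', h]))
  have hcu : Commute u u' := by
    have h1 : Commute (u * Fi24.L) u' := by
      have := (hue ▸ hue' ▸ hv'.2.2.map Fi24.ξ : Commute (u * Fi24.L) (u' * Fi24.L)).mul_right
        (huL.symm.mul_left (Commute.refl Fi24.L))
      rwa [mul_assoc, L_sq, mul_one] at this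
    have := h1.mul_left huL'
    rwa [mul_assoc, L_sq, mul_one] at this
  set V := Subgroup.closure ({Fi24.L * u, Fi24.L * u'} : Set GF) with hV
  obtain ⟨CL, hCL⟩ : ∃ CL, CL = commutator GF ⊓
      Subgroup.centralizer ({Fi24.L * u * u'} : Set GF) := ⟨_, rfl⟩
  obtain ⟨K, hKdef⟩ : ∃ K, K = (generalizedFittingSubgroup ↥CL).map CL.subtype := ⟨_, rfl⟩
  obtain ⟨hKqs, hKcen, hKeq, ⟨hVK, F, hFld, hFt, hF, ⟨eK⟩⟩, hKn, -, hVCL, hVn, F', hFld', hFt', hF',
      ⟨eCL⟩⟩ :=
    triple_main24 (class_toGroup Fi24.three_class) FischerTypes.F24.primitive FischerTypes.F24.isM24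
      L_mem_D huD huD' hune.symm hune'.symm hne huL huL' hcu V CL K hV hCL hKdef
  have hcomm : commutator GF = Fi24.sign.ker := Fi24.commutator_eq
  have hVmap : (Subgroup.closure ({v, v'} : Set X23)).map Fi24.ξ = V := by
    rw [MonoidHom.map_closure, Set.image_pair, hue, hue', ← huL.eq, ← huL'.eq]
  have hVc : V.subgroupOf K = Subgroup.center ↥K := by
    conv_lhs => rw [← hKcen]
    exact Subgroup.comap_map_eq_self_of_injective K.subtype_injective _
  have hmapP : (pairCen v v').map Fi24.ξ = K := by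
    refine Subgroup.eq_of_le_of_card_ge ?_ ?_
    · rintro _ ⟨x, hx, rfl⟩
      obtain ⟨h1, h2⟩ := mem_pairCen.1 hx
      rw [hKeq]
      refine ⟨hcomm ▸ xi_ker x, ?_⟩
      rw [← hVmap, SetLike.mem_coe]
      refine Subgroup.mem_centralizer_iff.2 ?_
      rintro _ ⟨y, hy, rfl⟩
      rw [← map_mul, ← map_mul]
      congr 1
      refine (Subgroup.mem_centralizer_singleton_iff.1 (?_ : y ∈ C23 x))
      refine (Subgroup.closure_le (C23 x)).2 ?_ hy
      rintro w (rfl | rfl)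
      exacts [mem_C23.2 h1.symm, mem_C23.2 h2.symm]
    · refine le_of_eq ?_
      rw [Subgroup.card_map_of_injective Fi24.ξ_injective, hcard,
        Subgroup.card_eq_card_quotient_mul_card_subgroup (V.subgroupOf K), Nat.card_congr eK.toEquiv,
        card_psu_six hF, hVc, ← Subgroup.card_map_of_injective K.subtype_injective, hKcen, ← hVmap,
        Subgroup.card_map_of_injective Fi24.ξ_injective]
  have hKperf : commutator ↥K = ⊤ := hKqs.1.commutator_eq_top
  have hKCL : K ≤ CL := hKdef ▸ Subgroup.map_subtype_le _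
  haveI := hKn
  haveI := hVn
  set K' := K.subgroupOf CL with hK'
  let ι : ↥(pairCen v v') ≃* ↥K' := (((pairCen v v').equivMapOfInjective Fi24.ξ Fi24.ξ_injective).trans
    (MulEquiv.subgroupCongr hmapP)).trans (Subgroup.subgroupOfEquivOfLe hKCL).symm
  have hι : ∀ x : ↥(pairCen v v'), ((ι x : CL) : GF) = Fi24.ξ (x : X23) := fun x => rfl
  let Φ : CL →* MulAut ↥K' := MulAut.conjNormal
  -- the action is onto
  have hker : Φ.ker ≤ V.subgroupOf CL := by
    intro g hg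
    have hgk : ∀ k ∈ K, Commute (g : GF) k := fun k hk => by
      have h := congrArg (fun a : MulAut ↥K' => (((a ⟨⟨k, hKCL hk⟩, hk⟩ : ↥K') : CL) : GF))
        (MonoidHom.mem_ker.1 hg)
      simp only [Φ, MulAut.conjNormal_apply, Subgroup.coe_mul, Subgroup.coe_inv, MulAut.one_apply] at h
      exact mul_inv_eq_iff_eq_mul.1 h
    have hVleK : V ≤ K := hKcen ▸ Subgroup.map_subtype_le _
    have hgK : (g : GF) ∈ K := by
      rw [hKeq]
      refine ⟨(Subgroup.mem_inf.1 (hCL.le g.2)).1, Subgroup.mem_centralizer_iff.2 fun w hw => ?_⟩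
      exact (hgk w (hVleK hw)).eq.symm
    rw [Subgroup.mem_subgroupOf, ← hKcen]
    exact ⟨⟨g, hgK⟩, Subgroup.mem_center_iff.2 fun k => Subtype.ext (hgk k k.2).eq.symm, rfl⟩
  have hsurj : Function.Surjective Φ := by
    rw [← MonoidHom.range_eq_top]
    refine Subgroup.eq_top_of_le_card _ ?_
    have hperf' : commutator ↥K' = ⊤ := by
      have e := congrArg (Subgroup.map (Subgroup.subgroupOfEquivOfLe hKCL).symm.toMonoidHom) hKperf
      rwa [_root_.commutator_def, Subgroup.map_commutator,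
        Subgroup.map_top_of_surjective _ (Subgroup.subgroupOfEquivOfLe hKCL).symm.surjective,
        ← _root_.commutator_def] at e
    refine (card_mulAut_le hperf').trans ?_
    have e1 : ↥K' ⧸ Subgroup.center ↥K' ≃* PSU 6 F 2 :=
      ((QuotientGroup.congr _ _ (Subgroup.subgroupOfEquivOfLe hKCL)
        (map_center_equiv_eq _)).trans (QuotientGroup.quotientMulEquivOfEq hVc.symm)).trans eK
    rw [Nat.card_congr (MulAut.congr e1).toEquiv, card_mulAut_psu_six hF, card_psu_six hF, ← card_psu_six hF', ← card_mulAut_psu_six hF',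
      ← Nat.card_congr eCL.toEquiv, ← Nat.card_congr (QuotientGroup.quotientKerEquivRange Φ).toEquiv,
      ← Subgroup.index_eq_card, ← Subgroup.index_eq_card]
    exact Nat.le_of_dvd (Nat.pos_of_ne_zero Subgroup.index_ne_zero_of_finite) (Subgroup.index_dvd_of_le hker)
  obtain ⟨g, hg⟩ := hsurj ((ι.symm.trans α).trans ι)
  have hact : ∀ x : ↥(pairCen v v'),
      (g : GF) * Fi24.ξ (x : X23) * (g : GF)⁻¹ = Fi24.ξ (α x : X23) := fun x => by
    have h := congrArg (fun a : MulAut ↥K' => (((a (ι x) : ↥K') : CL) : GF)) hg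
    simp only [Φ, MulAut.conjNormal_apply, Subgroup.coe_mul, Subgroup.coe_inv, MulEquiv.trans_apply,
      MulEquiv.symm_apply_apply, hι] at h
    exact h
  have hgK : (g : GF) ∈ K := by
    rw [hKeq]
    refine ⟨(Subgroup.mem_inf.1 (hCL.le g.2)).1, ?_⟩
    have h1 := hact ⟨v, left_mem_pair hv'⟩
    have h2 := hact ⟨v', right_mem_pair hv'⟩
    rw [hα, hue, ← huL.eq] at h1
    rw [hα', hue', ← huL'.eq] at h2
    rw [hV, Subgroup.centralizer_closure]
    refine Subgroup.mem_centralizer_iff.2 ?_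
    rintro w (rfl | rfl)
    exacts [(mul_inv_eq_iff_eq_mul.1 h1).symm, (mul_inv_eq_iff_eq_mul.1 h2).symm]
  rw [← hmapP] at hgK
  obtain ⟨o, ho, hoe⟩ := hgK
  refine ⟨o, ho, fun x => Fi24.ξ_injective ?_⟩
  rw [map_mul, map_mul, map_inv, hoe]
  exact (hact x).symm

/-! ### Inside the centraliser of one transposition -/

/-- the centraliser of `v` is transitive on the transpositions commuting with it -/
theorem layer_trans {v u u' : X23} (hv : v ∈ T) (hu : u ∈ dperp T v) (hu' : u' ∈ dperp T v) :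
    ∃ c ∈ C23 v, c * u * c⁻¹ = u' := by
  obtain ⟨X₀, _, _, E₀, hE₀, hcls₀, h22₀, hcov₀⟩ := exists_cover23 T_group T_prim T_type
  obtain ⟨χ, ψ, hχ, hker, hagree, hiso⟩ := (hcov₀ v hv).maps
  have hm : ∀ {x}, x ∈ dperp T v → x ∈ C23 v := fun hx => mem_C23.2 hx.2.2.symm
  obtain ⟨g, hg⟩ := class_isConj hcls₀ (hiso.bij.mapsTo hu) (hiso.bij.mapsTo hu')
  obtain ⟨c, rfl⟩ := hχ g
  refine ⟨c, c.2, ?_⟩
  have hmem : (c : X23) * u * (c : X23)⁻¹ ∈ dperp T v := by
    have := dperp_conj T_group.2.1 (c : X23) hu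
    rwa [(mem_C23.1 c.2).eq, mul_inv_cancel_right] at this
  refine hiso.bij.injOn hmem hu' ?_
  rw [show (c : X23) * u * (c : X23)⁻¹ = ((c * ⟨u, hm hu⟩ * c⁻¹ : ↥(C23 v)) : X23) from rfl, hagree,
    map_mul, map_mul, map_inv, ← hagree ⟨u, hm hu⟩]
  exact hg

/-- an involution commuting with an element of order 11 -/
theorem eleven_cases {v : X23} (hv : v ∈ T) {q x : X23} (hq : q ∈ C23 v) (hq2 : q * q = 1)
    (hq1 : q ≠ 1) (hqv : q ≠ v) (hx : x ∈ C23 v) (hx11 : orderOf x = 11) (hqx : Commute q x) :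
    ∃ u ∈ dperp T v, q = u ∨ q = u * v := by
  obtain ⟨X₀, _, _, E₀, hE₀, hcls₀, h22₀, hcov₀⟩ := exists_cover23 T_group T_prim T_type
  obtain ⟨χ, ψ, hχ, hker, hagree, hiso⟩ := (hcov₀ v hv).maps
  haveI : Fact (Nat.Prime 11) := ⟨by norm_num⟩
  set xb := χ ⟨x, hx⟩ with hxb
  set qb := χ ⟨q, hq⟩ with hqb
  have hxb11 : orderOf xb = 11 := by
    refine orderOf_eq_prime ?_ fun h => ?_
    · rw [hxb, ← map_pow, show (⟨x, hx⟩ : ↥(C23 v)) ^ 11 = 1 from Subtype.ext (hx11 ▸ pow_orderOf_eq_one x),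
        map_one]
    · rcases (hker _).1 h with e | e
      · rw [show x = 1 from e, orderOf_one] at hx11; omega
      · rw [show x = v from e, T_group.1.1 v hv] at hx11; omega
  have hqb2 : qb * qb = 1 := by
    rw [hqb, ← map_mul, show (⟨q, hq⟩ : ↥(C23 v)) * ⟨q, hq⟩ = 1 from Subtype.ext hq2, map_one]
  have hqb1 : qb ≠ 1 := fun h => by
    rcases (hker _).1 h with e | e
    exacts [hq1 e, hqv e]
  have hqbx : Commute qb xb := (show Commute (⟨q, hq⟩ : ↥(C23 v)) ⟨x, hx⟩ from Subtype.ext hqx.eq).map χ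
  obtain ⟨d, hd, hfix, hcard⟩ := eleven_M22 hE₀ (primeData hE₀ hcls₀ h22₀) hxb11
  have hdx : Commute xb d := (hfix.symm ▸ Set.mem_singleton d : d ∈ fixSet E₀ xb).2
  have hd2 : d * d = 1 := mul_self hE₀.1 hd
  -- the involution of the centraliser is unique
  have hqd : qb = d := by
    set C := Subgroup.centralizer ({xb} : Set X₀)
    have hidx : ((Subgroup.zpowers xb).subgroupOf C).index = 2 := by
      have h := ((Subgroup.zpowers xb).subgroupOf C).card_mul_index
      rw [Nat.card_congr (Subgroup.subgroupOfEquivOfLe (Subgroup.zpowers_le.2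
        (Subgroup.mem_centralizer_singleton_iff.2 rfl))).toEquiv, Nat.card_zpowers, hxb11, hcard] at h
      omega
    have hnot : ∀ y : X₀, y * y = 1 → y ≠ 1 → y ∉ Subgroup.zpowers xb := fun y h2 h1 hy => by
      have h := orderOf_dvd_of_mem_zpowers hy
      rw [hxb11, orderOf_eq_prime (p := 2) (by rwa [sq]) h1] at h
      omega
    have hd1 : d ≠ 1 := ne_one hE₀.1 hd
    have hmul := (Subgroup.mul_mem_iff_of_index_two hidx
      (a := ⟨qb, Subgroup.mem_centralizer_singleton_iff.2 hqbx.eq⟩)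
      (b := ⟨d, Subgroup.mem_centralizer_singleton_iff.2 hdx.symm.eq⟩)).2
      (iff_of_false (fun h => hnot _ hqb2 hqb1 (Subgroup.mem_subgroupOf.1 h))
        (fun h => hnot _ hd2 hd1 (Subgroup.mem_subgroupOf.1 h)))
    rw [Subgroup.mem_subgroupOf] at hmul
    obtain ⟨k, hk⟩ := Subgroup.mem_zpowers_iff.1 hmul
    have hq' : qb = xb ^ k * d := by
      rw [hk]
      show qb = qb * d * d
      rw [mul_assoc, hd2, mul_one]
    have hc : Commute (xb ^ k) d := hdx.zpow_left k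
    by_contra hne
    refine hnot (xb ^ k) ?_ (fun h => hne (by rw [hq', h, one_mul])) (Subgroup.zpow_mem_zpowers _ _)
    have h := hqb2
    rwa [hq', hc.symm.mul_mul_mul_comm, hd2, mul_one] at h
  obtain ⟨u, hu, hud⟩ := hiso.bij.surjOn hd
  have huC : u ∈ C23 v := mem_C23.2 hu.2.2.symm
  refine ⟨u, hu, ?_⟩
  have h1 : χ ((⟨u, huC⟩ : ↥(C23 v))⁻¹ * ⟨q, hq⟩) = 1 := by
    rw [map_mul, map_inv, ← hagree ⟨u, huC⟩, ← hqb, hqd, hud, inv_mul_cancel]
  rcases (hker _).1 h1 with e | e <;> simp only [Subgroup.coe_mul, Subgroup.coe_inv] at e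
  · exact Or.inl (inv_mul_eq_one.1 e).symm
  · exact Or.inr (inv_mul_eq_iff_eq_mul.1 e)

/-- an automorphism of the centraliser of `v` fixing it, turning a member into a member times `v` -/
theorem exists_switch {v w : X23} (hv : v ∈ T) (hw : w ∈ dperp T v) :
    ∃ ν : MulAut ↥(C23 v), ν ⟨v, self_mem_C23 v⟩ = ⟨v, self_mem_C23 v⟩ ∧
      ∃ w' ∈ dperp T v, (ν ⟨w, mem_C23.2 hw.2.2.symm⟩ : X23) = w' * v := by
  obtain ⟨u, huD, hune, huL, hue⟩ := exists_lift hv
  obtain ⟨x, hxD, hxne, hxL, hxe⟩ := exists_lift hw.1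
  obtain ⟨g0, hg0, hgL, hgj⟩ := exists_swap
  obtain ⟨h, hh, hhu⟩ := partner huD hune huL.symm
  obtain ⟨h', hh', hhj⟩ := partner j_mem_D j_ne_L gen_j_comm
  set s := h * h'⁻¹ with hs
  have hsH : s ∈ Fi24.H := mul_mem hh (inv_mem hh')
  have hsL : s * Fi24.L * s⁻¹ = Fi24.L := by rw [Fi24.L_comm hsH, mul_inv_cancel_right]
  have hsj : s * Fi24.gen .j * s⁻¹ = u := by rw [hs, ← hhj, ← hhu]; group
  set g := s * g0 * s⁻¹ with hg
  have hgker : g ∈ Fi24.sign.ker := (inferInstance : Fi24.sign.ker.Normal).conj_mem _ hg0 s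
  have hsL' : s⁻¹ * Fi24.L * s = Fi24.L := by
    conv_lhs => rw [← hsL]
    group
  have g1 : g * Fi24.L * g⁻¹ = u := by
    rw [hg, show s * g0 * s⁻¹ * Fi24.L * (s * g0 * s⁻¹)⁻¹ =
      s * (g0 * (s⁻¹ * Fi24.L * s) * g0⁻¹) * s⁻¹ by group, hsL', hgL, hsj]
  have g2 : g * u * g⁻¹ = Fi24.L := by
    rw [hg, ← hsj, show s * g0 * s⁻¹ * (s * Fi24.gen .j * s⁻¹) * (s * g0 * s⁻¹)⁻¹ =
      s * (g0 * Fi24.gen .j * g0⁻¹) * s⁻¹ by group, hgj, hsL]
  set Mu := M u with hMu
  have hmap : Mu.map (MulAut.conj g).toMonoidHom = Mu := by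
    refine Subgroup.eq_of_le_of_card_ge ?_
      (le_of_eq (Subgroup.card_map_of_injective (MulAut.conj g).injective).symm)
    rintro _ ⟨y, hy, rfl⟩
    have hsig : g * y * g⁻¹ ∈ Fi24.sign.ker := mul_mem (mul_mem hgker hy.1.2) (inv_mem hgker)
    have c1 : Commute (g * y * g⁻¹) u := by
      rw [← g1]; exact (commute_conj g y Fi24.L).2 (Subgroup.mem_centralizer_singleton_iff.1 hy.1.1)
    have c2 : Commute (g * y * g⁻¹) Fi24.L := by
      rw [← g2]; exact (commute_conj g y u).2 (Subgroup.mem_centralizer_singleton_iff.1 hy.2.1)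
    exact ⟨⟨Subgroup.mem_centralizer_singleton_iff.2 c2.eq, hsig⟩,
      ⟨Subgroup.mem_centralizer_singleton_iff.2 c1.eq, hsig⟩⟩
  obtain ⟨e, he⟩ := exists_equivM hue
  let μ : ↥Mu ≃* ↥Mu := (MulEquiv.subgroupMap (MulAut.conj g) Mu).trans (MulEquiv.subgroupCongr hmap)
  have hμ : ∀ y : ↥Mu, (μ y : GF) = g * y * g⁻¹ := fun y => rfl
  let ν : MulAut ↥(C23 v) := (e.trans μ).trans e.symm
  have hν : ∀ y : ↥(C23 v), Fi24.ξ (ν y : X23) = g * Fi24.ξ (y : X23) * g⁻¹ := fun y => by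
    rw [← he, ← he]
    show ((e (e.symm (μ (e y)))) : GF) = _
    rw [e.apply_symm_apply, hμ]
  refine ⟨ν, Subtype.ext (Fi24.ξ_injective ?_), ?_⟩
  · rw [hν, hue, show g * (u * Fi24.L) * g⁻¹ = g * u * g⁻¹ * (g * Fi24.L * g⁻¹) by group, g1, g2,
      huL.eq]
  -- the new member
  have hxu : Commute x u := by
    have h1 : Commute (x * Fi24.L) u := by
      have := (hue ▸ hxe ▸ (hw.2.2.map Fi24.ξ).symm :
        Commute (x * Fi24.L) (u * Fi24.L)).mul_right (hxL.symm.mul_left (Commute.refl Fi24.L))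
      rwa [mul_assoc, L_sq, mul_one] at this
    have := h1.mul_left huL
    rwa [mul_assoc, L_sq, mul_one] at this
  have hinj : ∀ {y y' : GF}, g * y * g⁻¹ = g * y' * g⁻¹ → y = y' := fun hh =>
    mul_left_cancel (mul_right_cancel hh)
  set x' := g * x * g⁻¹ with hx'
  have hx'D : x' ∈ Fi24.D := by
    obtain ⟨k, hk⟩ := Fi24.mem_D.1 hxD
    exact Fi24.mem_D.2 ⟨g * k, by rw [hx', ← hk]; group⟩
  have hx'L : Commute Fi24.L x' := by
    rw [hx', ← g2]; exact (commute_conj g u x).2 hxu.symm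
  have hx'u : Commute u x' := by
    rw [hx', ← g1]; exact (commute_conj g Fi24.L x).2 hxL
  have hx'ne : x' ≠ Fi24.L := fun hh => hw.2.1 (Fi24.ξ_injective (by
    rw [hxe, hue, hinj (hh.trans g2.symm)]))
  have hx'ne' : x' ≠ u := fun hh => hxne (hinj (hh.trans g1.symm))
  obtain ⟨w', hw', hw'e⟩ := exists_unlift hx'D hx'ne hx'L
  refine ⟨w', ⟨hw', fun hh => hx'ne' ?_, ?_⟩, Fi24.ξ_injective ?_⟩
  · have := congrArg Fi24.ξ hh
    rw [hw'e, hue] at this
    exact mul_right_cancel this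
  · have h2 : Commute (u * Fi24.L) (x' * Fi24.L) :=
      (hx'u.mul_right huL.symm).mul_left (hx'L.mul_right (Commute.refl Fi24.L))
    rw [← hue, ← hw'e] at h2
    exact Fi24.ξ_injective (by rw [map_mul, map_mul]; exact h2.eq)
  · rw [map_mul, hw'e, hue, hν, hxe, show g * (x * Fi24.L) * g⁻¹ = g * x * g⁻¹ * (g * Fi24.L * g⁻¹) by group,
      g1, ← hx', mul_assoc x' Fi24.L, ← mul_assoc Fi24.L u, huL.eq, mul_assoc u Fi24.L, L_sq, mul_one]

/-- adjusting a member to an involution of the centraliser commuting with an element of order 11 -/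
theorem exists_aut_to {v w q : X23} (hv : v ∈ T) (hw : w ∈ dperp T v)
    (hq : ∃ u ∈ dperp T v, q = u ∨ q = u * v) :
    ∃ φ : MulAut ↥(C23 v), φ ⟨v, self_mem_C23 v⟩ = ⟨v, self_mem_C23 v⟩ ∧
      (φ ⟨w, mem_C23.2 hw.2.2.symm⟩ : X23) = q := by
  have hconj : ∀ c : ↥(C23 v), MulAut.conj c ⟨v, self_mem_C23 v⟩ = ⟨v, self_mem_C23 v⟩ := fun c =>
    Subtype.ext (show (c : X23) * v * (c : X23)⁻¹ = v by rw [(mem_C23.1 c.2).eq, mul_inv_cancel_right])
  obtain ⟨u, hu, hq | hq⟩ := hq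
  · obtain ⟨c, hc, hce⟩ := layer_trans hv hw hu
    exact ⟨MulAut.conj ⟨c, hc⟩, hconj _, hce.trans hq.symm⟩
  · obtain ⟨ν, hνv, w', hw', hνw⟩ := exists_switch hv hw
    obtain ⟨c, hc, hce⟩ := layer_trans hv hw' hu
    refine ⟨ν.trans (MulAut.conj ⟨c, hc⟩), ?_, ?_⟩
    · rw [MulEquiv.trans_apply, hνv, hconj]
    · show c * (ν ⟨w, _⟩ : X23) * c⁻¹ = q
      rw [hνw, hq, ← hce, mul_assoc c (w' * v), mul_assoc w',
        (mem_C23.1 hc).symm.inv_right.eq]
      group

/-- two members not commuting determine their line in a second layer -/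
theorem hyp_layer2 {a d : X23} (ha : a ∈ T) (hd : d ∈ dperp T a) : Hyp (dperp (dperp T a) d) := by
  obtain ⟨X₀, _, _, E₀, hE₀, hcls₀, h22₀, hcov₀⟩ := exists_cover23 T_group T_prim T_type
  obtain ⟨χ, ψ, hχ, hker, hagree, hiso⟩ := (hcov₀ a ha).maps
  exact (hiso.restrict hd).hyp (((closedSet_of_group T_group).dperp a).dperp d)
    ((m22Full hE₀ h22₀).links _ (hiso.bij.mapsTo hd)).hyp

/-! ### The named members -/

/-- the transposition commuting with all generators but `j` -/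
noncomputable abbrev z23 : X23 := Fi23Out.z

/-- the generators -/
abbrev g23 (x : Spor.Fi23.Gen) : X23 := PresentedGroup.of x

theorem g23_mem (x : Spor.Fi23.Gen) : g23 x ∈ T := by
  obtain ⟨n, hn, rfl⟩ := Fi23Out.letter_surj x
  show Fi23Out.gen n ∈ T
  rw [Fi23Out.gen_eq_tau n hn]
  exact FischerTypes.F23.tau_mem (Fi23Out.pt_lt n hn)

theorem z23_mem : z23 ∈ T := FischerTypes.F23.z_mem

theorem g23_rel (x y : Spor.Fi23.Gen) :
    (g23 x * g23 y) ^ Spor.coxLabel Spor.Fi23.edges x y = 1 := by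
  have hn : ∀ z : Spor.Fi23.Gen, z ∈ Spor.coxNodes Spor.Fi23.edges := by intro z; cases z <;> decide
  have h := PresentedGroup.one_of_mem (rels := Spor.coxRelators Spor.Fi23.edges ∪ {r | r ∈ Spor.Fi23.extra})
    (x := (FreeGroup.of x * FreeGroup.of y) ^ Spor.coxLabel Spor.Fi23.edges x y)
    (Or.inl ⟨x, hn _, y, hn _, rfl⟩)
  rwa [map_pow, map_mul] at h

theorem g23_comm {x y : Spor.Fi23.Gen} (h : Spor.coxLabel Spor.Fi23.edges x y = 2) :
    Commute (g23 x) (g23 y) := by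
  have e := g23_rel x y
  rw [h, sq] at e
  have := inv_eq_of_mul_eq_one_left e
  rw [mul_inv_rev, T_inv (g23_mem x), T_inv (g23_mem y)] at this
  exact this.symm

theorem z23_comm {x : Spor.Fi23.Gen} (hx : x ≠ .j) : Commute (g23 x) z23 := by
  obtain ⟨n, hn, rfl⟩ := Fi23Out.letter_surj x
  exact FischerTypes.F23.H_comm (FischerTypes.F23.gen_mem_H n hn fun e => hx (by subst e; rfl))

theorem z23_not_comm : ¬ Commute z23 (g23 .j) := by
  have h := FischerTypes.F23.pt_facts.2.1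
  rwa [← Fi23Out.gen_eq_tau 7 (by decide)] at h

theorem g23_ne {x : Spor.Fi23.Gen} (hx : x ≠ .j) (h : Commute (g23 x) (g23 .j)) : z23 ≠ g23 x :=
  fun e => z23_not_comm (e ▸ h)

theorem ad_ne : g23 .d ≠ g23 .a := fun e => by
  have h : Fi23Out.gen 3 = Fi23Out.gen 0 := e
  rw [Fi23Out.gen_eq_tau 3 (by decide), Fi23Out.gen_eq_tau 0 (by decide)] at h
  exact absurd (Fi23Out.tau_inj (Fi23Out.pt_lt 3 (by decide)) (Fi23Out.pt_lt 0 (by decide)) h)
    (by decide)

theorem aw : g23 .a ∈ dperp T z23 :=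
  ⟨g23_mem _, (g23_ne (by decide) (g23_comm (by decide))).symm, (z23_comm (by decide)).symm⟩

theorem dw : g23 .d ∈ dperp T z23 :=
  ⟨g23_mem _, (g23_ne (by decide) (g23_comm (by decide))).symm, (z23_comm (by decide)).symm⟩

theorem da : g23 .d ∈ dperp T (g23 .a) := ⟨g23_mem _, ad_ne, g23_comm (by decide)⟩

end Cfsg.Agent.Fi24Rec
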