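import Cfsg.Agent.Fi24Rec.Cover22
import Cfsg.Agent.Fi24Rec.DoubleCover
import Cfsg.Agent.Fi24Rec.Model23
import Cfsg.Agent.Fi23Transp.Main

/-!
Each part `M u` of the model is the derived subgroup of the centraliser of a conjugate of `t`.
-/

set_option autoImplicit false
set_option maxRecDepth 20000

namespace Cfsg.Agent.Fi24Rec

open Cfsg Cfsg.Agent Cfsg.Agent.ThreeTrans Cfsg.Agent.M23Cent
open scoped commutatorElement

attribute [local instance] finite_X23

theorem C23_z : C23 z23 = Fi23Centralizer.H := by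
  rw [C23, (T_centralizer z23_mem).1]
  exact FischerTypes.F23.closure_partners

/-- The centraliser of a transposition of `Fi₂₃` is perfect with centre of order two over `Fi₂₂`. -/
theorem C23_cover {v : X23} (hv : v ∈ T) :
    commutator ↥(C23 v) = ⊤ ∧ IsNonsplitDoubleCover ↥(C23 v) Spor.Fi22 := by
  constructor
  · have h := (T_centralizer hv).2
    apply Subgroup.map_injective (C23 v).subtype_injective
    rw [commutator_def, Subgroup.map_commutator, ← MonoidHom.range_eq_map, Subgroup.range_subtype]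
    exact h
  · obtain ⟨g, rfl⟩ := isConj_iff.1 (show IsConj z23 v from hv)
    have hmap : Fi23Centralizer.H.map (MulAut.conj g).toMonoidHom = C23 (g * z23 * g⁻¹) := by
      rw [← C23_z]
      exact map_centralizer_singleton (MulAut.conj g) z23
    exact Fi23Transp.nonsplit_congr ((Fi23Centralizer.H.equivMapOfInjective _
      (MulAut.conj g).injective).trans (MulEquiv.subgroupCongr hmap))
      Fi23Centralizer.nonsplit_double

/-- The derived subgroup as a double cover of `Fi₂₂`. -/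
theorem Cent22.exists_cover {G : Type*} [Group G] [Finite G] {y : G} (h : Cent22 y) :
    ∃ τ : ↥(dCent y) →* Spor.Fi22, Function.Surjective τ ∧
      τ.ker = Subgroup.center ↥(dCent y) := by
  obtain ⟨hn, ⟨e⟩⟩ := h.quot
  haveI := hn
  set C := Subgroup.centralizer ({y} : Set G)
  set Z := (Subgroup.zpowers y).subgroupOf C
  have hK : commutator ↥((dCent y).subgroupOf C) = ⊤ :=
    (isQuasisimple_congr (Subgroup.subgroupOfEquivOfLe h.le_cent).symm h.qs).1.commutator_eq_top
  haveI := fi22_finite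
  have himg := image_eq_inn Fi22Out.card_out
    (show Z ≤ (dCent y).subgroupOf C from Subgroup.comap_mono (Subgroup.zpowers_le.2 h.der))
    h.relIndex hK e
  have hinj : Function.Injective (MulAut.conj : Spor.Fi22 →* MulAut Spor.Fi22) := by
    refine (injective_iff_map_eq_one _).2 fun s hs => ?_
    rw [← Subgroup.mem_bot, ← fi22_center]
    refine Subgroup.mem_center_iff.2 fun w => ?_
    have h1 : s * w * s⁻¹ = w := DFunLike.congr_fun hs w
    exact (mul_inv_eq_iff_eq_mul.1 h1).symm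
  let f : ↥(dCent y) →* MulAut Spor.Fi22 :=
    (e.toMonoidHom.comp (QuotientGroup.mk' Z)).comp (Subgroup.inclusion h.le_cent)
  have hf : ∀ k, f k ∈ Cfsg.Inn Spor.Fi22 := fun k => himg ▸
    ⟨_, ⟨Subgroup.inclusion h.le_cent k, k.2, rfl⟩, rfl⟩
  let j : Spor.Fi22 ≃* ↥(Cfsg.Inn Spor.Fi22) := MonoidHom.ofInjective hinj
  refine ⟨j.symm.toMonoidHom.comp (f.codRestrict _ hf), fun s => ?_, ?_⟩
  · have hs : MulAut.conj s ∈ (((dCent y).subgroupOf C).map (QuotientGroup.mk' Z)).map e.toMonoidHom :=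
      himg ▸ ⟨s, rfl⟩
    obtain ⟨_, ⟨k, hk, rfl⟩, hks⟩ := hs
    refine ⟨⟨(k : G), Subgroup.mem_subgroupOf.1 hk⟩, j.symm_apply_eq.2 (Subtype.ext ?_)⟩
    exact hks
  · ext k
    rw [MonoidHom.mem_ker, MonoidHom.comp_apply]
    show j.symm (f.codRestrict _ hf k) = 1 ↔ _
    rw [MulEquiv.map_eq_one_iff, Subtype.ext_iff]
    show e (QuotientGroup.mk' Z (Subgroup.inclusion h.le_cent k)) = 1 ↔ _
    rw [MulEquiv.map_eq_one_iff]
    show ((Subgroup.inclusion h.le_cent k : ↥C) : ↥C ⧸ Z) = 1 ↔ _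
    rw [QuotientGroup.eq_one_iff, Subgroup.mem_subgroupOf]
    show (k : G) ∈ Subgroup.zpowers y ↔ _
    rw [← h.center_map]
    exact ⟨fun ⟨c, hc, hck⟩ => (Subtype.ext hck : c = k) ▸ hc, fun hk => ⟨k, hk, rfl⟩⟩

/-- `M u` is the derived subgroup of the centraliser of a conjugate of `t`, `u L` going to it. -/
theorem exists_chart {G : Type*} [Group G] [Finite G] {t z : G} {Q : Subgroup G} (B : Base t z Q)
    {y : G} (hy : IsConj t y) {u : GF} (hu : u ∈ Fi24.D) (hne : u ≠ Fi24.L) (hc : Commute Fi24.L u) :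
    ∃ e : ↥(M u) ≃* ↥(dCent y), ∀ x : ↥(M u), (x : GF) = u * Fi24.L → (e x : G) = y := by
  have h := B.cent22 hy
  obtain ⟨v, hv, hve⟩ := exists_unlift hu hne hc
  obtain ⟨hperf, hcard, ⟨E⟩, -⟩ := C23_cover hv
  obtain ⟨τ, hτ, hτk⟩ := h.exists_cover
  let σ : ↥(C23 v) →* Spor.Fi22 := E.toMonoidHom.comp (QuotientGroup.mk' (Subgroup.center ↥(C23 v)))
  have hσ : Function.Surjective σ := E.surjective.comp (QuotientGroup.mk'_surjective _)
  have hσk : σ.ker = Subgroup.center ↥(C23 v) := by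
    ext x
    simp [σ, MonoidHom.mem_ker]
  obtain ⟨e, -⟩ := cover_unique σ hσ hσk.le (hσk ▸ hcard) hperf τ hτ hτk.le
    (hτk ▸ h.card_center) h.qs.1.commutator_eq_top
  obtain ⟨ε, hε⟩ := exists_equivM hve
  refine ⟨ε.symm.trans e, fun x hx => ?_⟩
  have hxv : ε.symm x = ⟨v, self_mem_C23 v⟩ := ε.symm_apply_eq.2 (Subtype.ext (by rw [hx, hε, hve]))
  rw [MulEquiv.trans_apply, hxv]
  set k := e ⟨v, self_mem_C23 v⟩ with hk
  have hkc : k ∈ Subgroup.center ↥(dCent y) := Subgroup.mem_center_iff.2 fun w => by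
    obtain ⟨w, rfl⟩ := e.surjective w
    rw [hk, ← map_mul, ← map_mul]
    exact congrArg e (Subtype.ext (mem_C23.1 w.2).eq)
  have hk1 : k ≠ 1 := fun he => ne_one T_group.1 hv
    (congrArg Subtype.val ((MulEquiv.map_eq_one_iff e).1 he))
  have hmem : (k : G) ∈ Subgroup.zpowers y := h.center_map ▸ ⟨k, hkc, rfl⟩
  obtain ⟨i, hi⟩ := Subgroup.mem_zpowers_iff.1 hmem
  rcases Int.even_or_odd' i with ⟨m, rfl | rfl⟩
  · refine absurd (Subtype.ext ?_) hk1
    rw [← hi, zpow_mul, zpow_two, h.y_sq, one_zpow, OneMemClass.coe_one]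
  · rw [← hi, zpow_add, zpow_mul, zpow_two, h.y_sq, one_zpow, one_mul, zpow_one]

end Cfsg.Agent.Fi24Rec
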