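import Cfsg.Agent.Fi24Rec.Rels
import Cfsg.Agent.Fi24Rec.Chart22

/-!
The section over `l` extends to a copy of `Fi₂₄'` in the group.
-/

set_option autoImplicit false

namespace Cfsg.Agent.Fi24Rec

open Cfsg Cfsg.Agent

variable {G : Type*} [Group G] [Finite G] {t z : G} {Q : Subgroup G}

/-- A copy of `Fi₂₃` over `l`, with `jL` going to `t`, extends to the even part. -/
theorem exists_hom (B : Base t z Q) (phi : ↥(Fi24Mult.K Fi24.L) →* G) (hinj : Function.Injective phi)
    (hj : phi jL = t) :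
    ∃ chi : ↥Fi24.sign.ker →* G, Function.Injective chi ∧ chi jL' = t := by
  refine Setup.exists_hom (z := z) (Q := Q) ⟨B, hinj, hj, fun v hv => ?_⟩
  obtain ⟨e, -⟩ := exists_chart B (IsConj.refl t) hv.mem hv.ne hv.comm.symm
  exact ⟨e⟩

end Cfsg.Agent.Fi24Rec
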