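import Cfsg.Agent.Fi24Rec.Base
import Cfsg.Agent.Fi22Aut.Result
import Cfsg.Agent.LargeFischer.PairMain
import Cfsg.Agent.ThreeTrans.CountM22

/-! Two involutions of the class of `t` with product `t`, centralising an element of order 11. -/

set_option autoImplicit false
set_option maxRecDepth 20000
set_option Elab.async false
set_option linter.style.haveILetI false

namespace Cfsg.Agent.Fi24Rec

open Cfsg Cfsg.Agent Cfsg.Agent.LargeFischer

universe v

variable {G : Type v} [Group G] [Finite G]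

/-- conjugation carries `dCent` to `dCent` -/
theorem dCent_conj {y : G} (g : G) {x : G} (hx : x ∈ dCent y) :
    g * x * g⁻¹ ∈ dCent (g * y * g⁻¹) := by
  have hle : (Subgroup.centralizer ({y} : Set G)).map (MulAut.conj g).toMonoidHom ≤
      Subgroup.centralizer ({g * y * g⁻¹} : Set G) := by
    rintro _ ⟨c, hc, rfl⟩
    exact Subgroup.mem_centralizer_singleton_iff.2
      ((Commute.conj_iff g).2 (Subgroup.mem_centralizer_singleton_iff.1 hc : Commute c y)).eq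
  have h := Subgroup.mem_map_of_mem (MulAut.conj g).toMonoidHom hx
  rw [Subgroup.map_commutator] at h
  exact Subgroup.commutator_mono hle hle h

/-- a perfect subgroup of the centraliser lies in the derived subgroup -/
theorem perfect_le_dCent {H : Subgroup G} (hH : commutator ↥H = ⊤) {y : G} (hc : ∀ x ∈ H, Commute x y) :
    H ≤ dCent y := by
  have hle : H ≤ Subgroup.centralizer ({y} : Set G) := fun x hx =>
    Subgroup.mem_centralizer_singleton_iff.2 (hc x hx).eq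
  have h := congrArg (Subgroup.map H.subtype) hH
  rw [Subgroup.map_subtype_commutator, ← MonoidHom.range_eq_map, Subgroup.range_subtype] at h
  rw [← h]
  exact Subgroup.commutator_mono hle hle

variable {t z : G} {Q : Subgroup G}

/-- the involutions of `Q` outside the class of `z` form one class -/
theorem isConj_base {Q₀ : Subgroup (Subgroup.centralizer ({z} : Set G))} [Q₀.Normal]
    (hF : IsOfLargeFischerTypeAt z Q₀) (X : Fi22Aut.Setup z Q₀) {x : G}
    (hxQ : x ∈ Q₀.map (Subgroup.centralizer ({z} : Set G)).subtype) (h2 : x * x = 1) (h1 : x ≠ 1)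
    (hx : ¬ IsConj z x) : IsConj X.tG x := by
  obtain ⟨⟨x', hxc⟩, hxq, rfl⟩ := hxQ
  obtain ⟨w, hw, hp, hmk⟩ := X.D.mem_class (x := ⟨x', hxc⟩) hxq h2 h1
    (fun e => hx (isConj_iff.2 ⟨1, by rw [one_mul, inv_one, mul_one]; exact e.symm⟩))
  have hA : InA X.D.c w := by
    by_contra h
    exact hx (X.D.conj_of_not_inA hF hmk hw hp h)
  have hv0 : srep 0 ≠ 0 ∧ par (srep 0) = 0 := by decide +kernel
  obtain ⟨h, hh⟩ := X.D.orbit_conj
    ((X.D.orb_iff (srep 0) hv0.1 hv0.2 w).2 ⟨hw, hp, iff_of_true hA (Or.inl (sc_srep 0))⟩)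
    hw X.ht hmk
  exact isConj_iff.2 ⟨(h : G), congrArg Subtype.val hh⟩

/-- two involutions of the class of `t` with product `t` and a centralised element of order 11 -/
theorem exists_split (B : Base t z Q) :
    ∃ U ∈ dCent t, U * U = 1 ∧ U ≠ 1 ∧ U ≠ t ∧ IsConj t U ∧ IsConj t (U * t) ∧
      ∃ x ∈ dCent t, orderOf x = 11 ∧ Commute x U := by
  classical
  obtain ⟨Q₀, hn, hF, rfl⟩ := B.large
  obtain ⟨X⟩ := Fi22Aut.exists_setup hF
  obtain ⟨D, hc⟩ := exists_data_param hF 1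
  obtain ⟨MD⟩ := D.exists_maxData hF hc
  obtain ⟨R⟩ := MD.exists_pairs hF hc
  obtain ⟨K⟩ := MD.exists_four hc R
  obtain ⟨hqs, hnE, ⟨eE⟩⟩ := K.main hF hc
  obtain ⟨h1, h2, h3, -⟩ := ev_vals K.a K.b K.c
  set E := fun p => R.ψ (ev K.a K.b K.c p) with hE
  have hsq : ∀ p, E p * E p = 1 := fun p => by rw [hE, ← R.hom, self11, MD.psi_zero]
  have hgood : ∀ p, IsDuad (ev K.a K.b K.c p) → IsConj X.tG (E p) ∧ E p ≠ 1 := fun p hp =>
    ⟨isConj_base hF X ⟨_, (K.q p).2, K.hq p⟩ (hsq p) ((R.duad _).2 hp).1 ((R.duad _).2 hp).2,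
      ((R.duad _).2 hp).1⟩
  obtain ⟨ha, ha1⟩ := hgood (1, 0) ⟨_, _, K.ab, h1⟩
  obtain ⟨hb, hb1⟩ := hgood (0, 1) ⟨_, _, K.ac, h2⟩
  obtain ⟨hab, hab1⟩ := hgood (1, 1) ⟨_, _, K.bc, h3⟩
  have hprod : E (0, 1) * E (1, 0) = E (1, 1) := by
    show R.ψ _ * R.ψ _ = R.ψ _
    rw [← R.hom, ← ev_add]
    rfl
  have ht0 : IsConj X.tG t :=
    isConj_base hF X B.t_mem B.t_sq B.t_ne fun h => B.not_conj h.symm
  obtain ⟨g, hg⟩ := isConj_iff.1 (ha.symm.trans ht0)
  set C := Subgroup.centralizer (K.E : Set G) with hC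
  have hperf : commutator ↥C = ⊤ := hqs.1.commutator_eq_top
  have hCd : C ≤ dCent (E (1, 0)) := perfect_le_dCent hperf fun x hx =>
    (Subgroup.mem_centralizer_iff.1 hx _ ⟨(1, 0), rfl⟩).symm
  have hbC : E (0, 1) ∈ C := Subgroup.mem_centralizer_iff.2 fun y hy =>
    congrArg Subtype.val (K.el_E.1.is_comm.comm (⟨y, hy⟩ : ↥K.E) ⟨_, (0, 1), rfl⟩)
  haveI : Fact (Nat.Prime 11) := ⟨by norm_num⟩
  obtain ⟨x, hx⟩ := exists_prime_orderOf_dvd_card' (G := ↥C) 11 (by
    rw [Subgroup.card_eq_card_quotient_mul_card_subgroup (K.E.subgroupOf C), Nat.card_congr eE.toEquiv,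
      ThreeTrans.card_psu_six ThreeTrans.SU32.F4.card_eq]
    exact Dvd.dvd.mul_right (by norm_num) _)
  refine ⟨g * E (0, 1) * g⁻¹, hg ▸ dCent_conj g (hCd hbC), ?_, fun h => hb1 (conj_eq_one_iff.1 h),
    fun h => ?_, ?_, ?_, g * (x : G) * g⁻¹, hg ▸ dCent_conj g (hCd x.2), ?_, ?_⟩
  · rw [show g * E (0, 1) * g⁻¹ * (g * E (0, 1) * g⁻¹) = g * (E (0, 1) * E (0, 1)) * g⁻¹ by group,
      hsq, mul_one, mul_inv_cancel]
  · have e : E (0, 1) = E (1, 0) := mul_left_cancel (mul_right_cancel (h.trans hg.symm))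
    exact hab1 (by rw [← hprod, e, hsq])
  · exact (ht0.symm.trans hb).trans (isConj_iff.2 ⟨g, rfl⟩)
  · rw [← hg, show g * E (0, 1) * g⁻¹ * (g * E (1, 0) * g⁻¹) = g * (E (0, 1) * E (1, 0)) * g⁻¹ by group,
      hprod, hg]
    exact (ht0.symm.trans hab).trans (isConj_iff.2 ⟨g, rfl⟩)
  · rw [← MulAut.conj_apply, MulEquiv.orderOf_eq, Subgroup.orderOf_coe, hx]
  · exact (Commute.conj_iff g).2 (Subgroup.mem_centralizer_iff.1 x.2 _ ⟨(0, 1), rfl⟩).symm

/-- the same at any element of the class -/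
theorem exists_split_at (B : Base t z Q) {y : G} (hy : IsConj t y) :
    ∃ U ∈ dCent y, U * U = 1 ∧ U ≠ 1 ∧ U ≠ y ∧ IsConj t U ∧ IsConj t (U * y) ∧
      ∃ x ∈ dCent y, orderOf x = 11 ∧ Commute x U := by
  obtain ⟨g, rfl⟩ := isConj_iff.1 hy
  obtain ⟨U, hU, h2, h1, hne, hc, hc', x, hx, hx11, hxU⟩ := exists_split B
  refine ⟨g * U * g⁻¹, dCent_conj g hU, ?_, fun h => h1 (conj_eq_one_iff.1 h),
    fun h => hne (mul_left_cancel (mul_right_cancel h)), hc.trans (isConj_iff.2 ⟨g, rfl⟩), ?_,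
    g * x * g⁻¹, dCent_conj g hx, ?_, (Commute.conj_iff g).2 hxU⟩
  · rw [show g * U * g⁻¹ * (g * U * g⁻¹) = g * (U * U) * g⁻¹ by group, h2, mul_one, mul_inv_cancel]
  · exact hc'.trans (isConj_iff.2 ⟨g, by group⟩)
  · rw [← MulAut.conj_apply, MulEquiv.orderOf_eq, hx11]

end Cfsg.Agent.Fi24Rec
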