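import Cfsg.Agent.Fi24Rec.Chart22
import Cfsg.Agent.Fi24Rec.Split

/-! The copy of `Fi₂₃` at `t`, glued from charts of the centralisers of transpositions. -/

set_option autoImplicit false
set_option maxRecDepth 20000
set_option Elab.async false

namespace Cfsg.Agent.Fi24Rec

open Cfsg Cfsg.Agent Cfsg.Agent.ThreeTrans Cfsg.Agent.M23Cent

attribute [local instance] finite_X23

universe v

variable {G : Type v} [Group G] [Finite G] {t z : G} {Q : Subgroup G}

/-- charts of the centralisers of transpositions at every element of the class of `t` -/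
def HasCharts (t : G) : Prop :=
  ∀ v ∈ T, ∀ y : G, IsConj t y → ∃ f : ↥(C23 v) →* G,
    Function.Injective f ∧ f.range = dCent y ∧ f ⟨v, self_mem_C23 v⟩ = y

/-- in a chart the transpositions commuting with the base, and their products with it, go to the class of `t` -/
theorem chart_class (B : Base t z Q) {v : X23} (hv : v ∈ T) {y : G} (hy : IsConj t y)
    {f : ↥(C23 v) →* G} (hinj : Function.Injective f) (hrange : f.range = dCent y)
    (hfv : f ⟨v, self_mem_C23 v⟩ = y) {u : X23} (hu : u ∈ dperp T v) :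
    IsConj t (f ⟨u, mem_C23.2 hu.2.2.symm⟩) ∧
      IsConj t (f (⟨u, mem_C23.2 hu.2.2.symm⟩ * ⟨v, self_mem_C23 v⟩)) := by
  obtain ⟨U, hU, hU2, hU1, hUy, hc, hc', x, hx, hx11, hxU⟩ := exists_split_at B hy
  rw [← hrange] at hU hx
  obtain ⟨q, rfl⟩ := hU
  obtain ⟨x', rfl⟩ := hx
  have hq2 : q * q = 1 := hinj (by rw [map_mul, map_one]; exact hU2)
  obtain ⟨u₀, hu₀, hq⟩ := eleven_cases hv q.2 (congrArg Subtype.val hq2)
    (fun h => hU1 (by rw [show q = 1 from Subtype.ext h, map_one]))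
    (fun h => hUy (by rw [show q = ⟨v, self_mem_C23 v⟩ from Subtype.ext h, hfv]))
    x'.2 (by rw [Subgroup.orderOf_coe, ← orderOf_injective f hinj]; exact hx11)
    (congrArg Subtype.val (hinj (by rw [map_mul, map_mul]; exact hxU.symm.eq) :
      q * x' = x' * q))
  set u₁ : ↥(C23 v) := ⟨u₀, mem_C23.2 hu₀.2.2.symm⟩ with hu₁
  set v₁ : ↥(C23 v) := ⟨v, self_mem_C23 v⟩ with hv₁
  have hvv : v₁ * v₁ = 1 := Subtype.ext (T_sq hv)
  have hbase : IsConj t (f u₁) ∧ IsConj t (f (u₁ * v₁)) := by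
    rcases hq with h | h
    · rw [show q = u₁ from Subtype.ext h, ← hfv, ← map_mul] at hc'
      exact ⟨(show q = u₁ from Subtype.ext h) ▸ hc, hc'⟩
    · rw [show q = u₁ * v₁ from Subtype.ext h, ← hfv, ← map_mul, mul_assoc, hvv, mul_one] at hc'
      exact ⟨hc', (show q = u₁ * v₁ from Subtype.ext h) ▸ hc⟩
  obtain ⟨c, hcC, hce⟩ := layer_trans hv hu₀ hu
  set c₁ : ↥(C23 v) := ⟨c, hcC⟩
  have e1 : (⟨u, mem_C23.2 hu.2.2.symm⟩ : ↥(C23 v)) = c₁ * u₁ * c₁⁻¹ := Subtype.ext hce.symm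
  have e2 : c₁ * v₁ * c₁⁻¹ = v₁ := Subtype.ext (show c * v * c⁻¹ = v by
    rw [(mem_C23.1 hcC).eq, mul_inv_cancel_right])
  refine ⟨hbase.1.trans (isConj_iff.2 ⟨f c₁, ?_⟩), hbase.2.trans (isConj_iff.2 ⟨f c₁, ?_⟩)⟩
  · rw [e1, map_mul, map_mul, map_inv]
  · rw [e1]
    conv_rhs => rw [← e2]
    rw [← map_inv, ← map_mul, ← map_mul]
    exact congrArg f (by group)

/-- images of perfect groups centralising `y` lie in `dCent y` -/
theorem perfect_map_mem {P : Type*} [Group P] (hP : commutator P = ⊤) (g : P →* G) {y : G}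
    (hc : ∀ x, Commute (g x) y) (x : P) : g x ∈ dCent y := by
  have hle : (⊤ : Subgroup P).map g ≤ Subgroup.centralizer ({y} : Set G) := by
    rintro _ ⟨p, -, rfl⟩
    exact Subgroup.mem_centralizer_singleton_iff.2 (hc p).eq
  have h : g x ∈ (commutator P).map g := Subgroup.mem_map_of_mem g (hP ▸ Subgroup.mem_top x)
  rw [_root_.commutator_def, Subgroup.map_commutator] at h
  exact Subgroup.commutator_mono hle hle h

/-- two charts with the same image of a common part differ by an automorphism of it -/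
theorem exists_match {P A A' : Subgroup X23} (h1 : P ≤ A) (h2 : P ≤ A') {f : ↥A →* G} {f' : ↥A' →* G}
    (hf : Function.Injective f) (hf' : Function.Injective f')
    (h : ∀ x : ↥P, ∃ x' : ↥P, f (Subgroup.inclusion h1 x) = f' (Subgroup.inclusion h2 x')) :
    ∃ α : MulAut ↥P, ∀ x, f (Subgroup.inclusion h1 x) = f' (Subgroup.inclusion h2 (α x)) := by
  choose a ha using h
  have hg : Function.Injective fun x => f' (Subgroup.inclusion h2 x) :=
    hf'.comp (Subgroup.inclusion_injective _)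
  let α₀ : ↥P →* ↥P := MonoidHom.mk' a fun x x' => hg (by
    show f' (Subgroup.inclusion h2 (a (x * x'))) = f' (Subgroup.inclusion h2 (a x * a x'))
    rw [map_mul (Subgroup.inclusion h2), map_mul f', ← ha, ← ha, ← ha, map_mul, map_mul])
  have hinj : Function.Injective α₀ := fun x x' e => Subgroup.inclusion_injective h1 (hf (by
    rw [ha, ha, show a x = a x' from e]))
  exact ⟨MulEquiv.ofBijective α₀ (Finite.injective_iff_bijective.1 hinj), fun x => ha x⟩

/-- a chart at `v`, agreeing with a given one at `w` on their common part -/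
theorem exists_adj (B : Base t z Q) (hch : HasCharts t) {w v : X23} (hw : w ∈ T) (hv : v ∈ dperp T w)
    {fw : ↥(C23 w) →* G} (hinj : Function.Injective fw) (hrange : fw.range = dCent t)
    (hfw : fw ⟨w, self_mem_C23 w⟩ = t) :
    ∃ f : ↥(C23 v) →* G, Function.Injective f ∧
      IsConj t (fw ⟨v, mem_C23.2 hv.2.2.symm⟩) ∧
      f.range = dCent (fw ⟨v, mem_C23.2 hv.2.2.symm⟩) ∧
      f ⟨v, self_mem_C23 v⟩ = fw ⟨v, mem_C23.2 hv.2.2.symm⟩ ∧
      ∀ (x : X23) (h1 : x ∈ C23 v) (h2 : x ∈ C23 w), f ⟨x, h1⟩ = fw ⟨x, h2⟩ := by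
  have hwv : w ∈ dperp T v := dperp_symm hw hv
  set y₀ := fw ⟨v, mem_C23.2 hv.2.2.symm⟩ with hy₀
  have hy : IsConj t y₀ := (chart_class B hw (IsConj.refl t) hinj hrange hfw hv).1
  obtain ⟨f, hfi, hfr, hfv⟩ := hch v hv.1 y₀ hy
  set P := pairCen v w with hP
  have hPv : P ≤ C23 v := pair_le_left v w
  have hPw : P ≤ C23 w := pair_le_right v w
  have hmem : ∀ x : ↥P, fw (Subgroup.inclusion hPw x) ∈ dCent y₀ :=
    perfect_map_mem (pair_perfect hv.1 hwv) (fw.comp (Subgroup.inclusion hPw)) fun x =>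
      (show Commute (Subgroup.inclusion hPw x) ⟨v, mem_C23.2 hv.2.2.symm⟩ from
        Subtype.ext (mem_pairCen.1 x.2).1.eq).map fw
  rw [← hfr] at hmem
  obtain ⟨q, hq⟩ := hmem ⟨w, right_mem_pair hwv⟩
  obtain ⟨x₀, hx₀, hx₀11⟩ := pair_eleven hv.1 hwv
  obtain ⟨x₁, hx₁⟩ := hmem ⟨x₀, hx₀⟩
  have hwo : (⟨w, self_mem_C23 w⟩ : ↥(C23 w)) * ⟨w, self_mem_C23 w⟩ = 1 := Subtype.ext (T_sq hw)
  have hqcase := eleven_cases hv.1 q.2
    (congrArg Subtype.val (hfi (by rw [map_mul, map_one, hq, ← map_mul, ← map_one fw]; exact congrArg fw hwo) :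
      q * q = 1))
    (fun h => B.t_ne (by
      rw [← hfw]
      exact (hq.symm.trans (by rw [show q = 1 from Subtype.ext h, map_one]))))
    (fun h => hv.2.1 (congrArg Subtype.val (hinj (by
      rw [← hy₀, ← hfv, ← show q = ⟨v, self_mem_C23 v⟩ from Subtype.ext h]
      exact hq) : (⟨v, mem_C23.2 hv.2.2.symm⟩ : ↥(C23 w)) = ⟨w, self_mem_C23 w⟩)))
    x₁.2 (by
      rw [Subgroup.orderOf_coe, ← orderOf_injective f hfi, hx₁, orderOf_injective fw hinj,
        ← Subgroup.orderOf_coe]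
      exact hx₀11)
    (congrArg Subtype.val (hfi (by
      rw [map_mul, map_mul, hq, hx₁]
      exact ((show Commute (Subgroup.inclusion hPw ⟨x₀, hx₀⟩) (Subgroup.inclusion hPw ⟨w, right_mem_pair hwv⟩)
        from Subtype.ext (mem_pairCen.1 hx₀).2.eq).map fw).symm.eq) : q * x₁ = x₁ * q))
  obtain ⟨φ, hφv, hφw⟩ := exists_aut_to hv.1 hwv hqcase
  set f₁ := f.comp φ.toMonoidHom with hf₁
  have h₁i : Function.Injective f₁ := hfi.comp φ.injective
  have h₁v : f₁ ⟨v, self_mem_C23 v⟩ = y₀ := (congrArg f hφv).trans hfv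
  have h₁w : f₁ ⟨w, mem_C23.2 hwv.2.2.symm⟩ = t :=
    (congrArg f (Subtype.ext hφw : φ ⟨w, _⟩ = q)).trans (hq.trans hfw)
  have h₁r : f₁.range = dCent y₀ := by
    rw [hf₁, MonoidHom.range_comp, MonoidHom.range_eq_top.2 φ.surjective, ← MonoidHom.range_eq_map, hfr]
  rw [hfr, ← h₁r] at hmem
  obtain ⟨α, hα⟩ := exists_match hPw hPv hinj h₁i fun x => by
    obtain ⟨x', hx'⟩ := hmem x
    have hc : Commute x' ⟨w, mem_C23.2 hwv.2.2.symm⟩ := h₁i (by
      rw [map_mul, map_mul, hx', h₁w, ← hfw, ← map_mul, ← map_mul]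
      exact congrArg fw (Subtype.ext (mem_pairCen.1 x.2).2.eq))
    exact ⟨⟨x', mem_pairCen.2 ⟨mem_C23.1 x'.2, hc.map (C23 v).subtype⟩⟩, hx'.symm⟩
  have hαv : (α ⟨v, left_mem_pair hwv⟩ : X23) = v := congrArg Subtype.val (h₁i (by
    rw [← hα]; exact h₁v.symm) : Subgroup.inclusion hPv (α ⟨v, left_mem_pair hwv⟩) = ⟨v, self_mem_C23 v⟩)
  have hαw : (α ⟨w, right_mem_pair hwv⟩ : X23) = w := congrArg Subtype.val (h₁i (by
    rw [← hα]; exact hfw.trans h₁w.symm) :
    Subgroup.inclusion hPv (α ⟨w, right_mem_pair hwv⟩) = ⟨w, mem_C23.2 hwv.2.2.symm⟩)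
  obtain ⟨o, ho, hoα⟩ := pair_aut hv.1 hwv α hαv hαw
  set κ : MulAut ↥(C23 v) := MulAut.conj ⟨o, hPv ho⟩ with hκ
  refine ⟨f₁.comp κ.toMonoidHom, h₁i.comp κ.injective, hy, ?_, ?_, fun x h1 h2 => ?_⟩
  · rw [MonoidHom.range_comp, MonoidHom.range_eq_top.2 κ.surjective, ← MonoidHom.range_eq_map, h₁r]
  · refine (congrArg f₁ (Subtype.ext ?_ : κ ⟨v, self_mem_C23 v⟩ = ⟨v, self_mem_C23 v⟩)).trans h₁v
    show o * v * o⁻¹ = v
    rw [(mem_pairCen.1 ho).1.eq, mul_inv_cancel_right]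
  · rw [show fw ⟨x, h2⟩ = fw (Subgroup.inclusion hPw ⟨x, mem_pairCen.2 ⟨mem_C23.1 h1, mem_C23.1 h2⟩⟩)
      from rfl, hα]
    exact congrArg f₁ (Subtype.ext (hoα ⟨x, _⟩).symm)

/-- the label of `j` with the generators commuting with `a` -/
theorem a_comm {x : Spor.Fi23.Gen} (hj : x ≠ .j) (hb : x ≠ .b) : g23 x ∈ C23 (g23 .a) := by
  rcases (show ∀ x : Spor.Fi23.Gen, x = .j ∨ x = .b ∨ x = .a ∨
      Spor.coxLabel Spor.Fi23.edges x .a = 2 by intro x; cases x <;> decide) x with h | h | h | h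
  exacts [absurd h hj, absurd h hb, h ▸ self_mem_C23 _, mem_C23.2 (g23_comm h)]

/-- the copy of the presented `Fi₂₃` -/
theorem exists_hom23 (B : Base t z Q) (hch : HasCharts t) :
    ∃ Φ : X23 →* G, Function.Injective Φ ∧ IsConj t (Φ (g23 .j)) := by
  classical
  set a := g23 .a with ha
  set d := g23 .d with hd
  set j := g23 .j with hj
  obtain ⟨fw, hwi, hwr, hww⟩ := hch z23 z23_mem t (IsConj.refl t)
  obtain ⟨fa, hai, -, har, haa, haw⟩ := exists_adj B hch z23_mem aw hwi hwr hww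
  obtain ⟨fd, hdi, hy3, hdr, hdd, hdw⟩ := exists_adj B hch z23_mem dw hwi hwr hww
  have haj : Commute a j := g23_comm (by decide)
  have hdj : Commute d j := g23_comm (by decide)
  have hza : Commute z23 a := aw.2.2
  have hzd : Commute z23 d := dw.2.2
  have had : Commute a d := da.2.2
  have haT : a ∈ T := g23_mem _
  set R := pairCen a d with hR
  have hRa : R ≤ C23 a := pair_le_left a d
  have hRd : R ≤ C23 d := pair_le_right a d
  have haC : a ∈ C23 z23 := mem_C23.2 hza.symm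
  have hdC : d ∈ C23 z23 := mem_C23.2 hzd.symm
  -- the two charts on the second layer
  have hmem : ∀ x : ↥R, fd (Subgroup.inclusion hRd x) ∈ dCent (fw ⟨a, haC⟩) :=
    perfect_map_mem (pair_perfect haT da) (fd.comp (Subgroup.inclusion hRd)) fun x => by
      rw [← hdw a (mem_C23.2 had) haC]
      exact (show Commute (Subgroup.inclusion hRd x) ⟨a, mem_C23.2 had⟩ from
        Subtype.ext (mem_pairCen.1 x.2).1.eq).map fd
  rw [← har] at hmem
  obtain ⟨α, hα⟩ := exists_match hRd hRa hdi hai fun x => by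
    obtain ⟨x', hx'⟩ := hmem x
    have hc : Commute x' ⟨d, mem_C23.2 had.symm⟩ := hai (by
      rw [map_mul, map_mul, hx', haw d (mem_C23.2 had.symm) hdC, ← hdd, ← map_mul, ← map_mul]
      exact congrArg fd (Subtype.ext (mem_pairCen.1 x.2).2.eq))
    exact ⟨⟨x', mem_pairCen.2 ⟨mem_C23.1 x'.2, hc.map (C23 a).subtype⟩⟩, hx'.symm⟩
  have hαa : (α ⟨a, left_mem_pair da⟩ : X23) = a := congrArg Subtype.val (hai (by
    rw [← hα]
    exact (hdw a (mem_C23.2 had) haC).trans haa.symm) :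
    Subgroup.inclusion hRa (α ⟨a, left_mem_pair da⟩) = ⟨a, self_mem_C23 a⟩)
  have hαd : (α ⟨d, right_mem_pair da⟩ : X23) = d := congrArg Subtype.val (hai (by
    rw [← hα]
    exact hdd.trans (haw d (mem_C23.2 had.symm) hdC).symm) :
    Subgroup.inclusion hRa (α ⟨d, right_mem_pair da⟩) = ⟨d, mem_C23.2 had.symm⟩)
  obtain ⟨o, ho, hoα⟩ := pair_aut haT da α hαa hαd
  obtain ⟨hoa, hod⟩ := mem_pairCen.1 ho
  -- `o` centralises what commutes with `z`
  have hoc : ∀ y, y ∈ R → Commute y z23 → Commute o y := fun y hy hyz => by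
    have h := hα ⟨y, hy⟩
    rw [show fd (Subgroup.inclusion hRd ⟨y, hy⟩) = fw ⟨y, mem_C23.2 hyz⟩ from hdw y _ _,
      ← haw y (hRa hy) (mem_C23.2 hyz)] at h
    have h' : y = (α ⟨y, hy⟩ : X23) := congrArg Subtype.val (hai h)
    rw [hoα] at h'
    exact mul_inv_eq_iff_eq_mul.1 h'.symm
  set r := o * j * o⁻¹ with hr
  set S := dperp (dperp T a) d with hS
  have hne : ∀ {y : X23}, Commute y z23 → j ≠ y := fun h e => z23_not_comm (show Commute z23 j by rw [e]; exact h.symm)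
  have hjS : j ∈ S := ⟨⟨g23_mem _, hne hza.symm, haj⟩, hne hzd.symm, hdj⟩
  have hwS : z23 ∈ S := ⟨⟨z23_mem, aw.2.1.symm, hza.symm⟩, dw.2.1.symm, hzd.symm⟩
  have hinS : ∀ {y}, y ∈ S → y ∈ R := fun hy => mem_pairCen.2 ⟨hy.1.2.2.symm, hy.2.2.symm⟩
  have hjR : j ∈ R := hinS hjS
  have hrR : r ∈ R := mul_mem (mul_mem ho hjR) (inv_mem ho)
  have hrS : r ∈ S := by
    have hca : o * a * o⁻¹ = a := by rw [hoa.eq, mul_inv_cancel_right]
    have hcd : o * d * o⁻¹ = d := by rw [hod.eq, mul_inv_cancel_right]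
    refine ⟨⟨T_group.2.1 o j (g23_mem _), fun e => hjS.1.2.1 ?_, (mem_pairCen.1 hrR).1.symm⟩,
      fun e => hjS.2.1 ?_, (mem_pairCen.1 hrR).2.symm⟩
    · exact mul_left_cancel (mul_right_cancel (e.trans hca.symm))
    · exact mul_left_cancel (mul_right_cancel (e.trans hcd.symm))
  have how : Commute o z23 := hoc z23 (hinS hwS) (Commute.refl _)
  have hline : r = j ∨ r = z23 * j * z23 := by
    rcases hyp_layer2 haT da z23 hwS j hjS r hrS z23_not_comm (fun y hy hyz hyj => by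
      have h1 := hoc y (hinS hy) hyz
      exact (h1.symm.mul_right hyj).mul_right h1.symm.inv_right) with h | h | h
    · exfalso
      refine hne (Commute.refl z23) ?_
      calc j = o⁻¹ * (o * j * o⁻¹) * o := by group
        _ = o⁻¹ * z23 * o := by rw [← hr, h]
        _ = z23 := by rw [mul_assoc, ← how.eq, inv_mul_cancel_left]
    · exact Or.inl h
    · exact Or.inr h
  have hww2 := T_sq z23_mem
  have hrel : ∀ {x : X23} {n : ℕ}, Commute x z23 →
      ((j * x) ^ n = 1 → (r * x) ^ n = 1) ∧ ((x * j) ^ n = 1 → (x * r) ^ n = 1) := by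
    intro x n hx
    rcases hline with e | e <;> rw [e]
    · exact ⟨id, id⟩
    have hzi : z23⁻¹ = z23 := T_inv z23_mem
    constructor <;> intro h
    · rw [show z23 * j * z23 * x = z23 * (j * x) * z23⁻¹ by
        rw [hzi, mul_assoc (z23 * j), ← hx.eq]; simp only [mul_assoc], conj_pow, h, mul_one, mul_inv_cancel]
    · rw [show x * (z23 * j * z23) = z23 * (x * j) * z23⁻¹ by
        rw [hzi, ← mul_assoc x, ← mul_assoc x, hx.eq]; simp only [mul_assoc], conj_pow, h, mul_one,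
        mul_inv_cancel]
  -- the images of the generators
  set Xj := fd ⟨j, hRd hjR⟩ with hXj
  have hXj' : Xj = fa ⟨r, hRa hrR⟩ := by
    rw [hXj, show (⟨j, hRd hjR⟩ : ↥(C23 d)) = Subgroup.inclusion hRd ⟨j, hjR⟩ from rfl, hα]
    exact congrArg fa (Subtype.ext (hoα ⟨j, hjR⟩))
  let val : Spor.Fi23.Gen → G := fun x =>
    if h : x = .j then Xj else fw ⟨g23 x, mem_C23.2 (z23_comm h)⟩
  have hvalj : val .j = Xj := dif_pos rfl
  have hval : ∀ {x} (h : x ≠ .j), val x = fw ⟨g23 x, mem_C23.2 (z23_comm h)⟩ := fun h => dif_neg h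
  have hpair : ∀ x y : Spor.Fi23.Gen,
      (val x * val y) ^ Spor.coxLabel Spor.Fi23.edges x y = 1 := by
    intro x y
    have hg := g23_rel x y
    by_cases hx : x = .j <;> by_cases hy : y = .j
    · subst hx hy
      rw [hvalj, hXj, ← map_mul, ← map_pow,
        show ((⟨j, hRd hjR⟩ : ↥(C23 d)) * ⟨j, hRd hjR⟩) ^ _ = 1 from Subtype.ext hg, map_one]
    · subst hx
      rw [hvalj, hval hy]
      by_cases hb : y = .b
      · subst hb
        have hbd : g23 .b ∈ C23 d := mem_C23.2 (g23_comm (by decide))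
        rw [← hdw (g23 .b) hbd, hXj, ← map_mul, ← map_pow,
          show ((⟨j, hRd hjR⟩ : ↥(C23 d)) * ⟨g23 .b, hbd⟩) ^ _ = 1 from Subtype.ext hg, map_one]
      · rw [← haw (g23 y) (a_comm hy hb), hXj', ← map_mul, ← map_pow,
          show ((⟨r, hRa hrR⟩ : ↥(C23 a)) * ⟨g23 y, a_comm hy hb⟩) ^ _ = 1 from
            Subtype.ext ((hrel (z23_comm hy)).1 hg), map_one]
    · subst hy
      rw [hvalj, hval hx]
      by_cases hb : x = .b
      · subst hb
        have hbd : g23 .b ∈ C23 d := mem_C23.2 (g23_comm (by decide))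
        rw [← hdw (g23 .b) hbd, hXj, ← map_mul, ← map_pow,
          show ((⟨g23 .b, hbd⟩ : ↥(C23 d)) * ⟨j, hRd hjR⟩) ^ _ = 1 from Subtype.ext hg, map_one]
      · rw [← haw (g23 x) (a_comm hx hb), hXj', ← map_mul, ← map_pow,
          show ((⟨g23 x, a_comm hx hb⟩ : ↥(C23 a)) * ⟨r, hRa hrR⟩) ^ _ = 1 from
            Subtype.ext ((hrel (z23_comm hx)).2 hg), map_one]
    · rw [hval hx, hval hy, ← map_mul, ← map_pow,
        show ((⟨g23 x, mem_C23.2 (z23_comm hx)⟩ : ↥(C23 z23)) * ⟨g23 y, mem_C23.2 (z23_comm hy)⟩) ^ _ = 1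
          from Subtype.ext hg, map_one]
  have hrels : ∀ r' ∈ Spor.coxRelators Spor.Fi23.edges ∪ {r' | r' ∈ Spor.Fi23.extra},
      FreeGroup.lift val r' = 1 := by
    rintro r' (⟨x, -, y, -, rfl⟩ | hr')
    · rw [map_pow, map_mul, FreeGroup.lift_apply_of, FreeGroup.lift_apply_of]
      exact hpair x y
    · have h1 : PresentedGroup.mk (Spor.coxRelators Spor.Fi23.edges ∪ {r' | r' ∈ Spor.Fi23.extra}) r' = 1 :=
        PresentedGroup.one_of_mem (Or.inr hr')
      simp only [Spor.Fi23.extra, List.mem_cons, List.not_mem_nil, or_false, Set.mem_ofPred_eq] at hr'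
      rcases hr' with rfl | rfl <;>
      · simp only [map_pow, map_mul] at h1
        simp only [map_pow, map_mul, FreeGroup.lift_apply_of]
        simp (disch := decide) only [hval]
        simp only [← map_mul, ← map_pow]
        rw [← map_one fw]
        exact congrArg fw (Subtype.ext h1)
  set Φ := PresentedGroup.toGroup hrels with hΦ
  have hΦof : ∀ x, Φ (g23 x) = val x := fun x => PresentedGroup.toGroup.of hrels
  haveI : IsSimpleGroup Spor.Fi23 := CosetCert.Fi23Order.order_and_simple.1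
  refine ⟨Φ, ?_, ?_⟩
  · rw [← MonoidHom.ker_eq_bot_iff]
    refine (Φ.normal_ker.eq_bot_or_eq_top).resolve_right fun h => ?_
    have h' : Φ (g23 .a) = 1 := MonoidHom.mem_ker.1 (h ▸ Subgroup.mem_top _)
    rw [hΦof, hval (by decide), ← map_one fw] at h'
    exact ne_one T_group.1 haT (congrArg Subtype.val (hwi h'))
  · rw [hΦof, hvalj]
    exact (chart_class B dw.1 hy3 hdi hdr hdd (u := j) ⟨g23_mem _, hjS.2.1, hdj⟩).1

/-- the copy of `Fi₂₃` with `jL` going to `t` -/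
theorem exists_phi_of_charts (B : Base t z Q) (hch : HasCharts t) :
    ∃ phi : ↥(Fi24Mult.K Fi24.L) →* G, Function.Injective phi ∧ phi jL = t := by
  obtain ⟨Φ, hΦ, hj⟩ := exists_hom23 B hch
  obtain ⟨c, hc⟩ := isConj_iff.1 hj.symm
  let e : X23 ≃* ↥(Fi24Mult.K Fi24.L) :=
    (MonoidHom.ofInjective Fi24.ξ_injective).trans (MulEquiv.subgroupCongr xi_range)
  have he : e (g23 .j) = jL := Subtype.ext (Fi24.ξ_of .j)
  refine ⟨((MulAut.conj c).toMonoidHom.comp Φ).comp e.symm.toMonoidHom,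
    ((MulAut.conj c).injective.comp hΦ).comp e.symm.injective, ?_⟩
  show c * Φ (e.symm jL) * c⁻¹ = t
  rw [← he, e.symm_apply_apply, hc]

/-- charts on the subgroups `M u` give charts in the presented `Fi₂₃` -/
theorem hasCharts_of
    (h : ∀ u ∈ Fi24.D, u ≠ Fi24.L → Commute Fi24.L u → ∀ y : G, IsConj t y →
      ∃ e : ↥(M u) ≃* ↥(dCent y), ∀ hm : u * Fi24.L ∈ M u, (e ⟨u * Fi24.L, hm⟩ : G) = y) :
    HasCharts t := by
  intro v hv y hy
  obtain ⟨u, huD, hune, huL, hue⟩ := exists_lift hv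
  obtain ⟨e, he⟩ := h u huD hune huL y hy
  obtain ⟨ι, hι⟩ := exists_equivM hue
  refine ⟨(dCent y).subtype.comp (ι.trans e).toMonoidHom,
    (dCent y).subtype_injective.comp (ι.trans e).injective, ?_, ?_⟩
  · rw [MonoidHom.range_comp, MonoidHom.range_eq_top.2 (ι.trans e).surjective, ← MonoidHom.range_eq_map,
      Subgroup.range_subtype]
  · have hm : u * Fi24.L ∈ M u := hue ▸ (xi_map_C23 hue ▸ Subgroup.mem_map_of_mem Fi24.ξ (self_mem_C23 v) :
      Fi24.ξ v ∈ M u)
    show (e (ι ⟨v, self_mem_C23 v⟩) : G) = y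
    rw [show ι ⟨v, self_mem_C23 v⟩ = ⟨u * Fi24.L, hm⟩ from Subtype.ext ((hι _).trans hue)]
    exact he hm

/-- the copy of `Fi₂₃` with `jL` going to `t` -/
theorem exists_phi (B : Base t z Q) :
    ∃ phi : ↥(Fi24Mult.K Fi24.L) →* G, Function.Injective phi ∧ phi jL = t :=
  exists_phi_of_charts B (hasCharts_of fun _ hu hne hc _ hy =>
    let ⟨e, he⟩ := exists_chart B hy hu hne hc
    ⟨e, fun hm => he ⟨_, hm⟩ rfl⟩)

end Cfsg.Agent.Fi24Rec
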