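import Cfsg.Agent.Fi24Rec.Base
import Cfsg.Agent.ThreeTrans.InvolM24
import Cfsg.Agent.ThreeTrans.BaseM24
import Cfsg.Agent.FischerTypes.M24
import Cfsg.Agent.Invol.Pair

/-! An image of `Fi₂₄'` with the transposition pair going to `t` is everything. -/

set_option autoImplicit false
set_option maxRecDepth 20000
set_option Elab.async false

namespace Cfsg.Agent.Fi24Rec

open Cfsg Cfsg.Agent Cfsg.Agent.ThreeTrans

theorem j_ne_L : Fi24.gen .j ≠ Fi24.L := by
  have hL : Fi24.el [11] = Fi24.L := Fi24.el_single (by norm_num)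
  have hJ : Fi24.el [10] = Fi24.gen .j := Fi24.el_single (by norm_num)
  intro h
  refine Fi24.ne_of_fwd (u := [10]) (v := [11]) (c := 3) (by decide) (by decide) (by norm_num)
    (by decide +kernel) ?_
  rw [hJ, hL, h]

theorem j_mem_D : Fi24.gen .j ∈ Fi24.D := Fi24.isConj_L .j

/-- a transposition commuting with `L` other than `L` is a conjugate of `a` under the centraliser of `L` -/
theorem partner {v : GF} (hv : v ∈ Fi24.D) (hne : v ≠ Fi24.L) (hc : Commute v Fi24.L) :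
    ∃ h ∈ Fi24.H, h * Fi24.gen .a * h⁻¹ = v := by
  rcases Fi24.D_cases hv with h | h | ⟨h, hh, he⟩
  · exact absurd h hne
  · exact h
  · exfalso
    refine Fi24.k_not_comm ?_
    have e : h⁻¹ * Fi24.L * h = Fi24.L := by
      rw [mul_assoc, ← Fi24.L_comm hh, inv_mul_cancel_left]
    have hc' := hc.map (MulAut.conj h⁻¹).toMonoidHom
    simp only [MulEquiv.coe_toMonoidHom, MulAut.conj_apply, inv_inv] at hc'
    rw [e, ← he, show h⁻¹ * (h * Fi24.gen .k * h⁻¹) * h = Fi24.gen .k by group] at hc'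
    exact hc'

theorem sign_cases (g : GF) : Fi24.sign g = 1 ∨ Fi24.sign g = Multiplicative.ofAdd 1 := by
  generalize Fi24.sign g = v
  revert v
  decide

/-- an even element exchanging `L` and `j` -/
theorem exists_swap : ∃ g ∈ Fi24.sign.ker, g * Fi24.L * g⁻¹ = Fi24.gen .j ∧
    g * Fi24.gen .j * g⁻¹ = Fi24.L := by
  obtain ⟨g0, hg0⟩ := isConj_iff.1 (Fi24.isConj_L .j)
  set v := g0⁻¹ * Fi24.L * g0 with hv
  have hvD : v ∈ Fi24.D := Fi24.mem_D.2 ⟨g0⁻¹, by rw [inv_inv]⟩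
  have hvne : v ≠ Fi24.L := fun h => j_ne_L (by
    rw [← hg0]
    conv_lhs => rw [← h, hv]
    group)
  have hvc : Commute v Fi24.L := by
    have hc := (show Commute Fi24.L (Fi24.gen .j) from gen_j_comm.symm).map (MulAut.conj g0⁻¹).toMonoidHom
    simp only [MulEquiv.coe_toMonoidHom, MulAut.conj_apply, inv_inv] at hc
    rwa [← hg0, show g0⁻¹ * (g0 * Fi24.L * g0⁻¹) * g0 = Fi24.L by group] at hc
  obtain ⟨h, hh, hhv⟩ := partner hvD hvne hvc
  obtain ⟨h', hh', hhj⟩ := partner j_mem_D j_ne_L gen_j_comm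
  set g := g0 * (h * h'⁻¹) with hg
  have h1 : g * Fi24.L * g⁻¹ = Fi24.gen .j := by
    rw [hg, ← hg0, show g0 * (h * h'⁻¹) * Fi24.L * (g0 * (h * h'⁻¹))⁻¹ =
      g0 * (h * h'⁻¹ * Fi24.L * (h * h'⁻¹)⁻¹) * g0⁻¹ by group, Fi24.L_comm (mul_mem hh (inv_mem hh')),
      mul_inv_cancel_right]
  have h2 : g * Fi24.gen .j * g⁻¹ = Fi24.L := by
    rw [hg, show g0 * (h * h'⁻¹) * Fi24.gen .j * (g0 * (h * h'⁻¹))⁻¹ =
      g0 * (h * (h'⁻¹ * Fi24.gen .j * h') * h⁻¹) * g0⁻¹ by group, ← hhj,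
      show h'⁻¹ * (h' * Fi24.gen .a * h'⁻¹) * h' = Fi24.gen .a by group, hhv, hv]
    group
  rcases sign_cases g with hs | hs
  · exact ⟨g, hs, h1, h2⟩
  · refine ⟨g * Fi24.L, ?_, ?_, ?_⟩
    · rw [MonoidHom.mem_ker, map_mul, hs, Fi24Mult.sign_L]; decide
    · rw [show g * Fi24.L * Fi24.L * (g * Fi24.L)⁻¹ = g * Fi24.L * g⁻¹ by group]; exact h1
    · rw [show g * Fi24.L * Fi24.gen .j * (g * Fi24.L)⁻¹ = g * (Fi24.L * Fi24.gen .j * Fi24.L⁻¹) * g⁻¹ by group,
        ← gen_j_comm, mul_inv_cancel_right]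
      exact h2

theorem sign_D {v : GF} (hv : v ∈ Fi24.D) : Fi24.sign v = Multiplicative.ofAdd 1 := by
  obtain ⟨g, rfl⟩ := Fi24.mem_D.1 hv
  rw [map_mul, map_mul, Fi24Mult.sign_L, map_inv, mul_comm (Fi24.sign g), mul_inv_cancel_right]

theorem sign_factor {n : ℕ} {y : GF} {l : List GF} (h : Factor Fi24.D n y l) :
    Fi24.sign y = Multiplicative.ofAdd (n : ZMod 2) := by
  obtain ⟨-, hlen, hmem, -, hp⟩ := h
  subst hp hlen
  induction l with
  | nil => simp
  | cons v l ih =>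
    rw [List.prod_cons, map_mul, sign_D (hmem v (List.mem_cons_self ..)),
      ih fun w hw => hmem w (List.mem_cons_of_mem _ hw), List.length_cons, Nat.cast_succ, add_comm,
      ofAdd_add]

theorem jL_factor : Factor Fi24.D 2 (Fi24.gen .j * Fi24.L) [Fi24.gen .j, Fi24.L] :=
  factor_two j_mem_D ⟨Fi24.mem_D.2 ⟨1, by group⟩, j_ne_L.symm, gen_j_comm⟩

/-- two involutions of the even part in one class are conjugate there -/
theorem even_conj {n : ℕ} (hn : 1 ≤ n) {x y : GF} (hxy : IsConj x y) (hl : ∃ l, Factor Fi24.D n x l) :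
    ∃ g ∈ Fi24.sign.ker, g * x * g⁻¹ = y := by
  obtain ⟨g, hg⟩ := isConj_iff.1 hxy
  rcases sign_cases g with hs | hs
  · exact ⟨g, hs, hg⟩
  obtain ⟨l, -, hlen, hmem, hcomm, hp⟩ := hl
  obtain ⟨v, hv⟩ := List.exists_mem_of_length_pos (l := l) (by omega)
  have hvx : Commute v x := by
    rw [← hp]
    exact Commute.list_prod_right _ _ fun w hw => hcomm v hv w hw
  refine ⟨g * v, ?_, ?_⟩
  · rw [MonoidHom.mem_ker, map_mul, hs, sign_D (hmem v hv)]; decide
  · rw [show g * v * x * (g * v)⁻¹ = g * (v * x * v⁻¹) * g⁻¹ by group, hvx.eq, mul_inv_cancel_right, hg]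

/-- the involutions of the even part: the class of `jL` and one further class -/
theorem even_invol : (∀ y ∈ Fi24.sign.ker, y * y = 1 → y ≠ 1 →
      (∃ g ∈ Fi24.sign.ker, g * y * g⁻¹ = Fi24.gen .j * Fi24.L) ∨ ∃ l, Factor Fi24.D 4 y l) ∧
    ∀ x y : GF, (∃ l, Factor Fi24.D 4 x l) → (∃ l, Factor Fi24.D 4 y l) →
      ∃ g ∈ Fi24.sign.ker, g * x * g⁻¹ = y := by
  have := FischerTypes.F24.center_bot
  obtain ⟨Y, _, _, E', hB⟩ := exists_base24 (class_toGroup Fi24.three_class) FischerTypes.F24.primitive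
    FischerTypes.F24.isM24
  have hT := class_toGroup Fi24.three_class
  obtain ⟨hone, -⟩ := involution_classes_M24 hT FischerTypes.F24.center_bot hB
  refine ⟨fun y hy h2 h1 => ?_, fun x y hx hy =>
    even_conj (n := 4) (by norm_num) ((hone 4 (by norm_num) le_rfl).2 x y hx hy) hx⟩
  obtain ⟨m, hm1, hm4, l, hl⟩ := involution_M24 hT FischerTypes.F24.center_bot hB h2 h1
  have h := (sign_factor hl).symm.trans (MonoidHom.mem_ker.1 hy)
  interval_cases m
  · exact absurd h (by decide)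
  · left
    obtain ⟨g, hg, he⟩ := even_conj (n := 2) (by norm_num)
      ((hone 2 (by norm_num) (by norm_num)).2 _ _ ⟨l, hl⟩ ⟨_, jL_factor⟩) ⟨l, hl⟩
    exact ⟨g, hg, he⟩
  · exact absurd h (by decide)
  · exact Or.inr ⟨l, hl⟩

variable {G : Type*} [Group G] [Finite G] {t z : G} {Q : Subgroup G}

/-- the centraliser of `t` is covered -/
theorem cent_le (B : Base t z Q) (e : ↥(M (Fi24.gen .j)) ≃* ↥(dCent t)) (chi : ↥Fi24.sign.ker →* G)
    (hinj : Function.Injective chi) (hj : chi jL' = t) :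
    Subgroup.centralizer ({t} : Set G) ≤ chi.range := by
  set Ct := Subgroup.centralizer ({t} : Set G) with hCt
  have hMker : M (Fi24.gen .j) ≤ Fi24.sign.ker := fun g hg => hg.1.2
  set f : ↥(M (Fi24.gen .j)) →* G := chi.comp (Subgroup.inclusion hMker) with hf
  have hfi : Function.Injective f := hinj.comp (Subgroup.inclusion_injective _)
  have hfC : ∀ g, f g ∈ Ct := fun g => by
    rw [hCt, Subgroup.mem_centralizer_singleton_iff, ← hj, hf, MonoidHom.comp_apply, ← map_mul, ← map_mul]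
    refine congrArg chi (Subtype.ext ?_)
    show (g : GF) * (Fi24.gen .j * Fi24.L) = Fi24.gen .j * Fi24.L * (g : GF)
    have h1 : (g : GF) * Fi24.L = Fi24.L * g := Subgroup.mem_centralizer_singleton_iff.1 g.2.1.1
    have h2 : (g : GF) * Fi24.gen .j = Fi24.gen .j * g := Subgroup.mem_centralizer_singleton_iff.1 g.2.2.1
    rw [← mul_assoc, h2, mul_assoc, h1, ← mul_assoc]
  have hperf : commutator ↥(M (Fi24.gen .j)) = ⊤ := by
    have h := B.qs.1.commutator_eq_top
    have h2 := congrArg (Subgroup.map e.symm.toMonoidHom) h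
    rwa [_root_.commutator_def, Subgroup.map_commutator, Subgroup.map_top_of_surjective _ e.symm.surjective,
      ← _root_.commutator_def] at h2
  have hle : f.range ≤ dCent t := by
    rw [MonoidHom.range_eq_map, ← hperf, _root_.commutator_def, Subgroup.map_commutator]
    have hC : (⊤ : Subgroup ↥(M (Fi24.gen .j))).map f ≤ Ct := by
      rintro _ ⟨g, -, rfl⟩; exact hfC g
    exact Subgroup.commutator_mono hC hC
  have heq : f.range = dCent t := by
    refine Subgroup.eq_of_le_of_card_ge hle (le_of_eq ?_)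
    rw [← Nat.card_congr e.toEquiv, Nat.card_congr (MonoidHom.ofInjective hfi).toEquiv]
  obtain ⟨g, hg, hgL, hgj⟩ := exists_swap
  set w : G := chi ⟨g, hg⟩ with hw
  have hgc : g * (Fi24.gen .j * Fi24.L) * g⁻¹ = Fi24.gen .j * Fi24.L := by
    rw [show g * (Fi24.gen .j * Fi24.L) * g⁻¹ = g * Fi24.gen .j * g⁻¹ * (g * Fi24.L * g⁻¹) by group,
      hgj, hgL, gen_j_comm]
  have hwC : w ∈ Ct := by
    rw [hCt, Subgroup.mem_centralizer_singleton_iff, ← hj, hw, ← map_mul, ← map_mul]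
    exact congrArg chi (Subtype.ext (mul_inv_eq_iff_eq_mul.1 hgc))
  have hwd : w ∉ dCent t := by
    rw [← heq]
    rintro ⟨g', hg'⟩
    have h1 : (g' : GF) = g := congrArg Subtype.val (hinj hg')
    have h2 : g * Fi24.L = Fi24.L * g := h1 ▸ Subgroup.mem_centralizer_singleton_iff.1 g'.2.1.1
    exact j_ne_L (by rw [← hgL, h2, mul_inv_cancel_right])
  have hDC : dCent t ≤ Ct := Subgroup.commutator_le_self Ct
  intro x hx
  have hrel : ((dCent t).subgroupOf Ct).index = 2 := B.relIndex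
  have hmem := (Subgroup.mul_mem_iff_of_index_two hrel (a := ⟨x, hx⟩) (b := ⟨w, hwC⟩))
  have hin : ∀ y ∈ dCent t, y ∈ chi.range := fun y hy => by
    rw [← heq] at hy
    obtain ⟨g', rfl⟩ := hy
    exact ⟨_, rfl⟩
  by_cases hxd : x ∈ dCent t
  · exact hin x hxd
  · have h : x * w ∈ dCent t := by
      have := hmem.2 (iff_of_false (fun h => hxd (Subgroup.mem_subgroupOf.1 h))
        (fun h => hwd (Subgroup.mem_subgroupOf.1 h)))
      exact Subgroup.mem_subgroupOf.1 this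
    exact (Subgroup.mul_mem_cancel_right chi.range (MonoidHom.mem_range.2 ⟨_, rfl⟩)).1 (hin _ h)

theorem surjective_aux (B : Base t z Q) (e : ↥(M (Fi24.gen .j)) ≃* ↥(dCent t))
    (chi : ↥Fi24.sign.ker →* G) (hinj : Function.Injective chi) (hj : chi jL' = t) :
    Function.Surjective chi := by
  classical
  set S := chi.range with hS
  have hCt : ∀ x, Commute x t → x ∈ S := fun x hx =>
    cent_le B e chi hinj hj (Subgroup.mem_centralizer_singleton_iff.2 hx.eq)
  obtain ⟨hinv, hfour⟩ := even_invol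
  have htS : t ∈ S := ⟨_, hj⟩
  have hzS : z ∈ S := by
    refine hCt z ?_
    rcases B.q_conj z B.z_mem with h | h
    · exact mul_inv_eq_iff_eq_mul.1 h
    · exfalso
      refine B.z_ne ?_
      have h3 : z * t = t := by
        rw [inv_eq_of_mul_eq_one_left B.z_sq] at h
        calc z * t = z * t * z * z := by rw [mul_assoc (z * t), B.z_sq, mul_one]
          _ = t := by rw [h, mul_assoc, B.z_sq, mul_one]
      exact mul_eq_right.1 h3
  obtain ⟨yz, hyz⟩ := hzS
  have hyz2 : (yz : GF) * yz = 1 ∧ (yz : GF) ≠ 1 := by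
    refine ⟨congrArg Subtype.val (hinj (show chi (yz * yz) = chi 1 by rw [map_mul, hyz, B.z_sq, map_one])),
      fun h => B.z_ne ?_⟩
    rw [← hyz, show yz = 1 from Subtype.ext h, map_one]
  have hzfour : ∃ l, Factor Fi24.D 4 (yz : GF) l := by
    refine (hinv _ yz.2 hyz2.1 hyz2.2).resolve_left ?_
    rintro ⟨g, hg, he⟩
    refine B.not_conj (isConj_iff.2 ⟨(chi ⟨g, hg⟩)⁻¹, ?_⟩)
    rw [inv_inv, ← hj, ← hyz, ← map_inv, ← map_mul, ← map_mul]
    refine congrArg chi (Subtype.ext ?_)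
    show g⁻¹ * (Fi24.gen .j * Fi24.L) * g = (yz : GF)
    rw [← he]; group
  have hclass : ∀ {v : G}, v ∈ S → v * v = 1 → v ≠ 1 → ∃ s ∈ S, s * v * s⁻¹ = t ∨ s * v * s⁻¹ = z := by
    rintro v ⟨y, rfl⟩ hv2 hv1
    have hy2 : (y : GF) * y = 1 :=
      congrArg Subtype.val (hinj (show chi (y * y) = chi 1 by rw [map_mul, hv2, map_one]))
    have hy1 : (y : GF) ≠ 1 := fun h => hv1 (by rw [show y = 1 from Subtype.ext h, map_one])
    rcases hinv _ y.2 hy2 hy1 with ⟨g, hg, he⟩ | h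
    · refine ⟨chi ⟨g, hg⟩, ⟨_, rfl⟩, Or.inl ?_⟩
      rw [← hj, ← map_inv, ← map_mul, ← map_mul]
      exact congrArg chi (Subtype.ext he)
    · obtain ⟨g, hg, he⟩ := hfour _ _ h hzfour
      refine ⟨chi ⟨g, hg⟩, ⟨_, rfl⟩, Or.inr ?_⟩
      rw [← hyz, ← map_inv, ← map_mul, ← map_mul]
      exact congrArg chi (Subtype.ext he)
  have hconj2 : ∀ (g v : G), v * v = 1 → g * v * g⁻¹ * (g * v * g⁻¹) = 1 := fun g v h => by
    rw [show g * v * g⁻¹ * (g * v * g⁻¹) = g * (v * v) * g⁻¹ by group, h, mul_one, mul_inv_cancel]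
  have hmove : ∀ x : G, x * t * x⁻¹ ∈ S → x ∈ S := by
    intro x hx
    obtain ⟨s, hs, h | h⟩ := hclass hx (hconj2 x _ B.t_sq) (fun e => B.t_ne (conj_eq_one_iff.1 e))
    · refine (Subgroup.mul_mem_cancel_left S hs).1 (hCt _ ?_)
      refine mul_inv_eq_iff_eq_mul.1 ?_
      conv_rhs => rw [← h]
      group
    · refine absurd (isConj_iff.2 ⟨s * x, ?_⟩) B.not_conj
      rw [← h]; group
  have hzS : z ∈ S := ⟨yz, hyz⟩
  have hQ : Q ≤ S := fun q hq => by
    rcases B.q_conj q hq with h | h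
    · exact hCt q (mul_inv_eq_iff_eq_mul.1 h)
    · exact hmove q (h ▸ mul_mem htS hzS)
  have hCz : ∀ x, Commute x z → x ∈ S := fun x hx => hmove x (hQ (B.norm x hx t B.t_mem))
  have hCv : ∀ {v : G}, v ∈ S → v * v = 1 → v ≠ 1 → ∀ x, Commute x v → x ∈ S := by
    intro v hv h2 h1 x hx
    obtain ⟨s, hsS, h⟩ := hclass hv h2 h1
    have hc : Commute (s * x * s⁻¹) (s * v * s⁻¹) := hx.map (MulAut.conj s).toMonoidHom
    have hm : s * x * s⁻¹ ∈ S := by
      rcases h with h | h <;> rw [h] at hc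
      exacts [hCt _ hc, hCz _ hc]
    exact (Subgroup.mul_mem_cancel_left S hsS).1 ((Subgroup.mul_mem_cancel_right S (S.inv_mem hsS)).1 hm)
  intro g
  refine MonoidHom.mem_range.1 (hmove g ?_)
  by_contra hu
  set u := g * t * g⁻¹ with hudef
  have hu2 : u * u = 1 := hconj2 g _ B.t_sq
  have hu1 : u ≠ 1 := fun e => B.t_ne (conj_eq_one_iff.1 e)
  have hzo : orderOf z = 2 := orderOf_eq_prime (by rw [sq]; exact B.z_sq) B.z_ne
  have huo : orderOf u = 2 := orderOf_eq_prime (by rw [sq]; exact hu2) hu1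
  rcases Nat.even_or_odd (orderOf (z * u)) with hev | hodd
  · obtain ⟨m, hm⟩ := hev
    set v := (z * u) ^ m with hv
    have hpos := orderOf_pos (z * u)
    have hv1 : v ≠ 1 := fun h => by
      have := Nat.le_of_dvd (by omega) (orderOf_dvd_of_pow_eq_one h)
      omega
    have hv2 : v * v = 1 := by rw [hv, ← pow_add, ← hm, pow_orderOf_eq_one]
    have hzv : Commute z v := by
      have h1 : z * (z * u) * z⁻¹ = (z * u)⁻¹ := by
        rw [inv_eq_of_mul_eq_one_left B.z_sq, mul_inv_rev, inv_eq_of_mul_eq_one_left B.z_sq,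
          inv_eq_of_mul_eq_one_left hu2, ← mul_assoc, B.z_sq, one_mul]
      have h2 : z * v * z⁻¹ = v := by
        rw [hv, ← conj_pow, h1, inv_pow]
        exact inv_eq_of_mul_eq_one_left hv2
      exact mul_inv_eq_iff_eq_mul.1 h2
    have huv : Commute u v := by
      have h : Commute (z * u) v := (Commute.refl _).pow_right m
      have := hzv.mul_left h
      rwa [← mul_assoc, B.z_sq, one_mul] at this
    exact hu (hCv (hCz v hzv.symm) hv2 hv1 u huv)
  · obtain ⟨c, -, hc⟩ := Cfsg.Agent.Invol.exists_conj_of_odd hzo huo hodd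
    exact B.not_conj ((isConj_iff.2 ⟨g, rfl⟩ : IsConj t u).trans (isConj_iff.2 ⟨c, hc⟩ : IsConj z u).symm)

end Cfsg.Agent.Fi24Rec
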