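import Cfsg.Agent.Fi24Rec.Facts
import Cfsg.Agent.Fi24Rec.Top
import Cfsg.Agent.Fi24Rec.Phi23
import Cfsg.Agent.Fi24Rec.Hom

/-! The recognition of `Fi₂₄'` from large Fischer type. -/

set_option autoImplicit false
set_option Elab.async false

open Cfsg Cfsg.Agent

namespace Cfsg.Agent.Fi24Rec

theorem iso_of_largeFischer {G : Type*} [Group G] [Finite G] {z : G}
    {Q₀ : Subgroup (Subgroup.centralizer ({z} : Set G))} [Q₀.Normal] (hF : IsOfLargeFischerTypeAt z Q₀) :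
    Spor.IsoFi24' G := by
  obtain ⟨t, B⟩ := exists_base hF
  obtain ⟨phi, hinj, hj⟩ := exists_phi B
  obtain ⟨chi, hcinj, hcj⟩ := exists_hom B phi hinj hj
  obtain ⟨e, -⟩ := exists_chart B (IsConj.refl t) j_mem_D j_ne_L gen_j_comm.symm
  exact ⟨(MulEquiv.ofBijective chi ⟨hcinj, surjective_aux B e chi hcinj hcj⟩).symm.trans
    (MulEquiv.subgroupCongr Fi24.commutator_eq.symm)⟩

end Cfsg.Agent.Fi24Rec

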