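import Cfsg.Prelude.Def_MonsterType
import Cfsg.Prelude.Def_CaseTheorems
import Cfsg.Prelude.Def_Spor_Fi22
import Cfsg.Agent.Fi24Mult.Sections
import Cfsg.Agent.Fi24Mult.Tw

/-! Recognition of `Fi₂₄'` from an inner involution centraliser: what is used of the group, and the
model side notation. -/

set_option autoImplicit false

namespace Cfsg.Agent.Fi24Rec

open Cfsg Cfsg.Agent

/-- the derived subgroup of a centraliser, in the group -/
abbrev dCent {G : Type*} [Group G] (y : G) : Subgroup G :=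
  ⁅Subgroup.centralizer ({y} : Set G), Subgroup.centralizer ({y} : Set G)⁆

/-- What is used of the group: `t` is an involution of `Q` of the class other than that of `z`. -/
structure Base {G : Type*} [Group G] (t z : G) (Q : Subgroup G) : Prop where
  t_sq : t * t = 1
  t_ne : t ≠ 1
  z_sq : z * z = 1
  z_ne : z ≠ 1
  z_mem : z ∈ Q
  t_mem : t ∈ Q
  not_conj : ¬ IsConj t z
  q_conj : ∀ q ∈ Q, q * t * q⁻¹ = t ∨ q * t * q⁻¹ = t * z
  q_move : ∃ q ∈ Q, q * t * q⁻¹ = t * z
  norm : ∀ x : G, Commute x z → ∀ q ∈ Q, x * q * x⁻¹ ∈ Q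
  qs : IsQuasisimple ↥(dCent t)
  relIndex : (dCent t).relIndex (Subgroup.centralizer ({t} : Set G)) = 2
  t_der : t ∈ dCent t
  card_cent : Nat.card ↥(Subgroup.centralizer ({t} : Set G)) = 4 * Nat.card Spor.Fi22
  quot : ∃ _ : ((Subgroup.zpowers t).subgroupOf (Subgroup.centralizer ({t} : Set G))).Normal,
    Nonempty (↥(Subgroup.centralizer ({t} : Set G)) ⧸
      (Subgroup.zpowers t).subgroupOf (Subgroup.centralizer ({t} : Set G)) ≃* MulAut Spor.Fi22)
  large : ∃ (Q₀ : Subgroup ↥(Subgroup.centralizer ({z} : Set G))) (_ : Q₀.Normal),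
    IsOfLargeFischerTypeAt z Q₀ ∧ Q = Q₀.map (Subgroup.centralizer ({z} : Set G)).subtype

/-- the presented group -/
abbrev GF : Type := Fi24.G

/-- the part of the centraliser of two transpositions inside `Fi₂₄'` -/
noncomputable abbrev M (v : GF) : Subgroup GF := Fi24Mult.K Fi24.L ⊓ Fi24Mult.K v

/-- the product of two commuting transpositions, as an element of the even part -/
theorem mul_L_mem {x : GF} (hx : Fi24.sign x = Multiplicative.ofAdd 1) (hc : x * Fi24.L = Fi24.L * x) :
    x * Fi24.L ∈ Fi24Mult.K Fi24.L := by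
  refine ⟨Subgroup.mem_centralizer_singleton_iff.2 ?_, ?_⟩
  · rw [mul_assoc, ← mul_assoc Fi24.L x, ← hc, mul_assoc]
  · show Fi24.sign (x * Fi24.L) = 1
    rw [map_mul, hx, Fi24Mult.sign_L]
    decide

theorem gen_j_comm : Fi24.gen .j * Fi24.L = Fi24.L * Fi24.gen .j :=
  Fi24.L_comm (Fi24.gen_mem (by decide))

/-- the element `jL` -/
noncomputable def jL : ↥(Fi24Mult.K Fi24.L) :=
  ⟨Fi24.gen .j * Fi24.L, mul_L_mem (Fi24.sign_gen _) gen_j_comm⟩

/-- the element `jL` in the even part -/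
noncomputable def jL' : ↥Fi24.sign.ker := ⟨(jL : GF), jL.2.2⟩

end Cfsg.Agent.Fi24Rec
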