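import Cfsg.Agent.Fi24Rec.Base
import Cfsg.Agent.Fi24Rec.Realise
import Cfsg.Agent.Fi22Out.Main

/-!
The centraliser of a conjugate of `t`: its derived subgroup is a perfect double cover of `Fi₂₂`, of
index two, all of whose automorphisms are conjugations.
-/

set_option autoImplicit false

namespace Cfsg.Agent.Fi24Rec

open Cfsg Cfsg.Agent
open scoped commutatorElement

variable {G : Type*} [Group G]

/-- What is known of the centraliser of one involution of the class of `t`. -/
structure Cent22 (y : G) : Prop where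
  y_sq : y * y = 1
  y_ne : y ≠ 1
  qs : IsQuasisimple ↥(dCent y)
  relIndex : (dCent y).relIndex (Subgroup.centralizer ({y} : Set G)) = 2
  der : y ∈ dCent y
  quot : ∃ _ : ((Subgroup.zpowers y).subgroupOf (Subgroup.centralizer ({y} : Set G))).Normal,
    Nonempty (↥(Subgroup.centralizer ({y} : Set G)) ⧸
      (Subgroup.zpowers y).subgroupOf (Subgroup.centralizer ({y} : Set G)) ≃* MulAut Spor.Fi22)

theorem map_centralizer_singleton (f : G ≃* G) (t : G) :
    (Subgroup.centralizer ({t} : Set G)).map f.toMonoidHom = Subgroup.centralizer ({f t} : Set G) := by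
  ext x
  constructor
  · rintro ⟨c, hc, rfl⟩
    exact Subgroup.mem_centralizer_singleton_iff.2
      ((show Commute c t from Subgroup.mem_centralizer_singleton_iff.1 hc).map f.toMonoidHom).eq
  · intro hx
    refine ⟨f.symm x, Subgroup.mem_centralizer_singleton_iff.2 ?_, f.apply_symm_apply x⟩
    have h := (show Commute x (f t) from Subgroup.mem_centralizer_singleton_iff.1 hx).map
      f.symm.toMonoidHom
    simp at h
    exact h.eq

theorem map_dCent (f : G ≃* G) (t : G) : (dCent t).map f.toMonoidHom = dCent (f t) := by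
  rw [Subgroup.map_commutator, map_centralizer_singleton]

theorem isQuasisimple_congr {A B : Type*} [Group A] [Group B] (e : A ≃* B)
    (h : IsQuasisimple A) : IsQuasisimple B := by
  have hc : (Subgroup.center A).map (e : A →* B) = Subgroup.center B := by
    ext b
    constructor
    · rintro ⟨a, ha, rfl⟩
      refine Subgroup.mem_center_iff.2 fun g => ?_
      obtain ⟨g, rfl⟩ := e.surjective g
      show e g * e a = e a * e g
      rw [← map_mul, ← map_mul, Subgroup.mem_center_iff.1 ha g]
    · intro hb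
      refine ⟨e.symm b, Subgroup.mem_center_iff.2 fun g => ?_, e.apply_symm_apply b⟩
      apply e.injective
      rw [map_mul, map_mul, e.apply_symm_apply, Subgroup.mem_center_iff.1 hb (e g)]
  refine ⟨⟨?_⟩, ?_⟩
  · have h1 := h.1.commutator_eq_top
    rw [commutator_def] at h1 ⊢
    have := congrArg (Subgroup.map (e : A →* B)) h1
    rwa [Subgroup.map_commutator, Subgroup.map_top_of_surjective (e : A →* B) e.surjective] at this
  · haveI := h.2
    let q := QuotientGroup.congr _ _ e hc
    haveI : Nontrivial (B ⧸ Subgroup.center B) := q.symm.toEquiv.nontrivial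
    exact IsSimpleGroup.isSimpleGroup_of_surjective q.toMonoidHom q.surjective

theorem Cent22.map {t : G} (h : Cent22 t) (f : G ≃* G) : Cent22 (f t) := by
  set C := Subgroup.centralizer ({t} : Set G) with hC
  have hCm : C.map f.toMonoidHom = Subgroup.centralizer ({f t} : Set G) := map_centralizer_singleton f t
  refine ⟨by rw [← map_mul, h.y_sq, map_one], fun e => h.y_ne (f.injective (e.trans (map_one f).symm)),
    ?_, ?_, ?_, ?_⟩
  · rw [← map_dCent f t]
    exact isQuasisimple_congr ((dCent t).equivMapOfInjective f.toMonoidHom f.injective) h.qs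
  · rw [← map_dCent f t, ← hCm, Subgroup.relIndex_map_map_of_injective _ _ f.injective]
    exact h.relIndex
  · rw [← map_dCent f t]
    exact ⟨t, h.der, rfl⟩
  · obtain ⟨hn, ⟨e⟩⟩ := h.quot
    let E : ↥C ≃* ↥(Subgroup.centralizer ({f t} : Set G)) :=
      (C.equivMapOfInjective f.toMonoidHom f.injective).trans (MulEquiv.subgroupCongr hCm)
    have hE : ((Subgroup.zpowers t).subgroupOf C).map (E : ↥C →* _) =
        (Subgroup.zpowers (f t)).subgroupOf (Subgroup.centralizer ({f t} : Set G)) := by
      ext x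
      obtain ⟨c, rfl⟩ := E.surjective x
      rw [show (E : ↥C →* _) = E.toMonoidHom from rfl, Subgroup.mem_map_equiv, E.symm_apply_apply,
        Subgroup.mem_subgroupOf, Subgroup.mem_subgroupOf,
        show ((E c : _) : G) = f c from rfl, show f t = f.toMonoidHom t from rfl,
        ← MonoidHom.map_zpowers, Subgroup.mem_map_equiv, f.symm_apply_apply]
    haveI : ((Subgroup.zpowers (f t)).subgroupOf (Subgroup.centralizer ({f t} : Set G))).Normal :=
      hE ▸ hn.map _ E.surjective
    exact ⟨inferInstance, ⟨(QuotientGroup.congr _ _ E hE).symm.trans e⟩⟩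

theorem Base.cent22_self {t z : G} {Q : Subgroup G} (B : Base t z Q) : Cent22 t :=
  ⟨B.t_sq, B.t_ne, B.qs, B.relIndex, B.t_der, B.quot⟩

theorem Base.cent22 {t z : G} {Q : Subgroup G} (B : Base t z Q) {y : G} (h : IsConj t y) :
    Cent22 y := by
  obtain ⟨x, rfl⟩ := isConj_iff.1 h
  exact B.cent22_self.map (MulAut.conj x)

theorem fi22_finite : Finite Spor.Fi22 :=
  Nat.finite_of_card_ne_zero (by rw [CosetCert.Fi22Order.order_and_simple.2]; norm_num)

theorem fi22_center : Subgroup.center Spor.Fi22 = ⊥ := by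
  haveI hs := CosetCert.Fi22Order.order_and_simple.1
  refine ((inferInstance : (Subgroup.center Spor.Fi22).Normal).eq_bot_or_eq_top).resolve_right fun h => ?_
  letI : CommGroup Spor.Fi22 :=
    { (inferInstance : Group Spor.Fi22) with
      mul_comm := fun a b => Subgroup.mem_center_iff.1 (h ▸ Subgroup.mem_top b) a }
  have hp := IsSimpleGroup.prime_card (α := Spor.Fi22)
  rw [CosetCert.Fi22Order.order_and_simple.2] at hp
  exact absurd hp (by norm_num)

namespace Cent22

variable [Finite G] {y : G} (h : Cent22 y)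
include h

omit [Finite G] in
theorem le_cent : dCent y ≤ Subgroup.centralizer ({y} : Set G) :=
  Subgroup.commutator_le_self _

/-- Only the powers of `y` centralise the derived subgroup. -/
theorem centralizer_inf :
    Subgroup.centralizer ({y} : Set G) ⊓ Subgroup.centralizer (dCent y : Set G) = Subgroup.zpowers y := by
  refine le_antisymm ?_ ?_
  · rintro c ⟨hc, hcK⟩
    obtain ⟨hn, ⟨e⟩⟩ := h.quot
    haveI := hn
    set C := Subgroup.centralizer ({y} : Set G)
    set Z := (Subgroup.zpowers y).subgroupOf C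
    have hK : commutator ↥((dCent y).subgroupOf C) = ⊤ := by
      have h1 := (isQuasisimple_congr (Subgroup.subgroupOfEquivOfLe h.le_cent).symm h.qs).1
      exact h1.commutator_eq_top
    have hZK : Z ≤ (dCent y).subgroupOf C := Subgroup.comap_mono (Subgroup.zpowers_le.2 h.der)
    haveI := fi22_finite
    have himg := image_eq_inn Fi22Out.card_out hZK h.relIndex hK e
    let σ : MulAut Spor.Fi22 := e (QuotientGroup.mk' Z ⟨c, hc⟩)
    have hσ : σ = 1 := by
      refine MulEquiv.ext fun s => ?_
      have hs : MulAut.conj s ∈ (((dCent y).subgroupOf C).map (QuotientGroup.mk' Z)).map e.toMonoidHom :=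
        himg ▸ ⟨s, rfl⟩
      obtain ⟨_, ⟨k, hk, rfl⟩, hks⟩ := hs
      have hck : (⟨c, hc⟩ : ↥C) * k = k * ⟨c, hc⟩ :=
        Subtype.ext (Subgroup.mem_centralizer_iff.1 hcK k hk).symm
      have h1 : σ * MulAut.conj s = MulAut.conj s * σ := by
        have h2 := congrArg (fun u => e (QuotientGroup.mk' Z u)) hck
        simp only [map_mul] at h2
        rw [← hks]
        exact h2
      have h3 : s⁻¹ * σ s ∈ Subgroup.center Spor.Fi22 := by
        refine Subgroup.mem_center_iff.2 fun w => ?_
        obtain ⟨v, rfl⟩ := σ.surjective w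
        have h2 : σ (s * v * s⁻¹) = s * σ v * s⁻¹ := DFunLike.congr_fun h1 v
        rw [map_mul, map_mul, map_inv] at h2
        calc σ v * (s⁻¹ * σ s) = s⁻¹ * (s * σ v * s⁻¹) * σ s := by group
          _ = s⁻¹ * σ s * σ v := by rw [← h2]; group
      rw [fi22_center, Subgroup.mem_bot, inv_mul_eq_one] at h3
      exact h3.symm
    have hm : QuotientGroup.mk' Z (⟨c, hc⟩ : ↥C) = 1 := e.injective (hσ.trans (map_one e).symm)
    exact Subgroup.mem_subgroupOf.1 ((QuotientGroup.eq_one_iff (N := Z) (⟨c, hc⟩ : ↥C)).1 hm)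
  · rw [Subgroup.zpowers_le]
    refine ⟨Subgroup.mem_centralizer_singleton_iff.2 rfl, Subgroup.mem_centralizer_iff.2 fun k hk => ?_⟩
    exact Subgroup.mem_centralizer_singleton_iff.1 (h.le_cent hk)

theorem center_map :
    (Subgroup.center ↥(dCent y)).map (dCent y).subtype = Subgroup.zpowers y := by
  refine le_antisymm ?_ (Subgroup.zpowers_le.2 ⟨⟨y, h.der⟩, Subgroup.mem_center_iff.2 fun k =>
    Subtype.ext (Subgroup.mem_centralizer_singleton_iff.1 (h.le_cent k.2)), rfl⟩)
  rintro _ ⟨c, hc, rfl⟩
  rw [← h.centralizer_inf]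
  exact ⟨h.le_cent c.2, Subgroup.mem_centralizer_iff.2 fun k hk =>
    congrArg Subtype.val (Subgroup.mem_center_iff.1 hc ⟨k, hk⟩)⟩

theorem card_center : Nat.card ↥(Subgroup.center ↥(dCent y)) = 2 := by
  rw [← Subgroup.card_map_of_injective (dCent y).subtype_injective, h.center_map, Nat.card_zpowers]
  exact orderOf_eq_prime (by rw [pow_two]; exact h.y_sq) h.y_ne

omit [Finite G] in
theorem mem_of_order_three {x : G} (hx : x ∈ Subgroup.centralizer ({y} : Set G)) (h3 : orderOf x = 3) :
    x ∈ dCent y := by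
  set C := Subgroup.centralizer ({y} : Set G)
  have h1 := Subgroup.mul_self_mem_of_index_two (H := (dCent y).subgroupOf C) h.relIndex ⟨x, hx⟩
  have h2 : x * x ∈ dCent y := Subgroup.mem_subgroupOf.1 h1
  have h4 : x * x * (x * x) ∈ dCent y := mul_mem h2 h2
  have h5 : x * x * x = 1 := by
    have := pow_orderOf_eq_one x
    rwa [h3, pow_succ, pow_two] at this
  rwa [show x * x * (x * x) = x * x * x * x by group, h5, one_mul] at h4

/-- Every automorphism of the derived subgroup is a conjugation from the centraliser. -/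
theorem realise_aut (α : ↥(dCent y) ≃* ↥(dCent y)) :
    ∃ x ∈ Subgroup.centralizer ({y} : Set G), ∀ k : ↥(dCent y), (α k : G) = x * (k : G) * x⁻¹ := by
  obtain ⟨hn, ⟨e⟩⟩ := h.quot
  haveI := hn
  set C := Subgroup.centralizer ({y} : Set G)
  set Z := (Subgroup.zpowers y).subgroupOf C
  let E := Subgroup.subgroupOfEquivOfLe h.le_cent
  have hK : commutator ↥((dCent y).subgroupOf C) = ⊤ :=
    (isQuasisimple_congr E.symm h.qs).1.commutator_eq_top
  have hZc : Z ≤ Subgroup.center ↥C := fun c hc => Subgroup.mem_center_iff.2 fun d => Subtype.ext (by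
    obtain ⟨i, hi⟩ := Subgroup.mem_zpowers_iff.1 (Subgroup.mem_subgroupOf.1 hc)
    show (d : G) * c = c * d
    rw [← hi]
    exact ((show Commute (d : G) y from Subgroup.mem_centralizer_singleton_iff.1 d.2).zpow_right i).eq)
  let β : MulAut ↥((dCent y).subgroupOf C) := (E.trans α).trans E.symm
  have hβ : ∀ k : ↥((dCent y).subgroupOf C), (k : ↥C) ∈ Z → ((β k : _) : ↥C) ∈ Z := by
    intro k hk
    have h1 : E k ∈ Subgroup.center ↥(dCent y) := by
      have h2 : ((E k : ↥(dCent y)) : G) ∈ Subgroup.zpowers y := Subgroup.mem_subgroupOf.1 hk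
      rw [← h.center_map] at h2
      obtain ⟨c, hc, hce⟩ := h2
      rwa [show c = E k from Subtype.ext hce] at hc
    have h3 : α (E k) ∈ Subgroup.center ↥(dCent y) := Subgroup.mem_center_iff.2 fun v => by
      obtain ⟨v, rfl⟩ := α.surjective v
      rw [← map_mul, ← map_mul, Subgroup.mem_center_iff.1 h1 v]
    have h4 : ((α (E k) : ↥(dCent y)) : G) ∈ Subgroup.zpowers y := h.center_map ▸ ⟨_, h3, rfl⟩
    exact Subgroup.mem_subgroupOf.2 h4
  haveI := fi22_finite
  obtain ⟨x, hx⟩ := exists_realise (K := (dCent y).subgroupOf C) fi22_center Fi22Out.card_out hZc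
    (Subgroup.comap_mono (Subgroup.zpowers_le.2 h.der)) h.relIndex hK e β hβ
  refine ⟨x, x.2, fun k => ?_⟩
  have h1 := congrArg Subtype.val (hx (E.symm k))
  simp only [β, MulEquiv.trans_apply, MulEquiv.apply_symm_apply, Subgroup.coe_mul, Subgroup.coe_inv] at h1
  exact h1.symm

end Cent22

variable [Finite G] {t z : G} {Q : Subgroup G}

/-- The facts about the centraliser of a conjugate of `t`. -/
theorem cent_facts (B : Base t z Q) {y : G} (hy : IsConj t y) :
    IsQuasisimple ↥(dCent y) ∧ y ∈ dCent y ∧
      (dCent y).relIndex (Subgroup.centralizer ({y} : Set G)) = 2 ∧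
      Subgroup.centralizer ({y} : Set G) ⊓ Subgroup.centralizer (dCent y : Set G) = Subgroup.zpowers y ∧
      ∀ x ∈ Subgroup.centralizer ({y} : Set G), orderOf x = 3 → x ∈ dCent y :=
  let h := B.cent22 hy
  ⟨h.qs, h.der, h.relIndex, h.centralizer_inf, fun _ hx h3 => h.mem_of_order_three hx h3⟩

/-- Every automorphism of the derived subgroup of such a centraliser is a conjugation there. -/
theorem realise_aut (B : Base t z Q) {y : G} (hy : IsConj t y) (α : ↥(dCent y) ≃* ↥(dCent y)) :
    ∃ x ∈ Subgroup.centralizer ({y} : Set G), ∀ k : ↥(dCent y), (α k : G) = x * (k : G) * x⁻¹ :=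
  (B.cent22 hy).realise_aut α

end Cfsg.Agent.Fi24Rec
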