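import Cfsg.Agent.Fi24Rec.Base
import Cfsg.Agent.S5450
import Cfsg.Agent.ThreeTrans.PairAutM24
import Cfsg.Agent.LargeFischerAut.Coord

/-! The facts used, from large Fischer type. -/

set_option autoImplicit false
set_option maxRecDepth 20000
set_option Elab.async false

namespace Cfsg.Agent.Fi24Rec

open Cfsg Cfsg.Agent Cfsg.Agent.LargeFischer Fi22Aut

set_option maxHeartbeats 1600000

universe v

theorem dual_v0 : bp LargeFischerAut.va v0 = 1 ∧ cls v0 = (2, 0) ∧ par v0 = 0 := by decide +kernel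

theorem exists_base {G : Type v} [Group G] [Finite G] {z : G}
    {Q₀ : Subgroup (Subgroup.centralizer ({z} : Set G))} [Q₀.Normal] (hF : IsOfLargeFischerTypeAt z Q₀) :
    ∃ t : G, Base t z (Q₀.map (Subgroup.centralizer ({z} : Set G)).subtype) := by
  obtain ⟨S⟩ := Fi22Aut.exists_setup hF
  obtain ⟨hbp, hcls, hpar⟩ := dual_v0
  let val : ↥Q₀ →* G := (Subgroup.centralizer ({z} : Set G)).subtype.comp Q₀.subtype
  have hζ : val S.ζ = z := rfl
  have hz2 : z * z = 1 := by
    rw [← sq, ← hF.1.1]; exact pow_orderOf_eq_one z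
  have hz1 : z ≠ 1 := fun h => by
    have := hF.1.1
    rw [h, orderOf_one] at this; omega
  have ht : ¬ IsConj z S.tG := S.not_conj (r := S.t) (by rw [S.cv_t]; exact hcls) (by rw [S.cv_t]; exact hpar)
  have hconj : ∀ q : ↥Q₀, val q * S.tG * (val q)⁻¹ = S.tG ∨ val q * S.tG * (val q)⁻¹ = S.tG * z := by
    intro q
    rcases (show ∀ c : ZMod 2, c = 0 ∨ c = 1 by decide) (bp (S.cv q) (S.cv S.t)) with h | h
    · left
      refine mul_inv_eq_iff_eq_mul.2 ?_
      exact congrArg val ((S.comm_cv q S.t).2 h) |> fun e => by rwa [map_mul, map_mul] at e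
    · right
      have e := congrArg val (S.conj_of_bp h)
      rwa [map_mul, map_mul, map_inv, map_mul, hζ] at e
  haveI hn := Fi22Aut.normal_zpowers_cent S.tG
  have htz : ∃ htc : S.tG ∈ Subgroup.centralizer ({z} : Set G),
      (⟨S.tG, htc⟩ : Subgroup.centralizer ({z} : Set G)) ∈ Q₀ := ⟨_, S.t.2⟩
  obtain ⟨K, hK⟩ : ∃ K : Subgroup ↥(Subgroup.centralizer ({S.tG} : Set G)),
      K = generalizedFittingSubgroup ↥(Subgroup.centralizer ({S.tG} : Set G)) := ⟨_, rfl⟩
  obtain ⟨hqs, hidx, ⟨htc, htK⟩, ⟨e⟩⟩ := Fi22Aut.centralizer_of_class S5450.recognition hF S.tG htz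
    S.tG_order ht K hK
  haveI : K.Normal := Subgroup.normal_of_index_eq_two hidx
  have hKc : commutator ↥(Subgroup.centralizer ({S.tG} : Set G)) = K := by
    refine le_antisymm ?_ ?_
    · rw [_root_.commutator_def, Subgroup.commutator_le]
      intro a _ b _
      rw [commutatorElement_def, Subgroup.mul_mem_iff_of_index_two hidx,
        Subgroup.mul_mem_iff_of_index_two hidx, Subgroup.mul_mem_iff_of_index_two hidx, inv_mem_iff,
        inv_mem_iff]
      tauto
    · have h := hqs.1.commutator_eq_top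
      have h2 := congrArg (Subgroup.map K.subtype) h
      rw [Subgroup.map_subtype_commutator, ← MonoidHom.range_eq_map, Subgroup.range_subtype] at h2
      rw [← h2, _root_.commutator_def]
      exact Subgroup.commutator_mono le_top le_top
  have hd : dCent S.tG = K.map (Subgroup.centralizer ({S.tG} : Set G)).subtype := by rw [← hKc, Subgroup.map_subtype_commutator]
  refine ⟨S.tG, ⟨?_, ?_, hz2, hz1, ?_, ?_, fun h => ht h.symm, ?_, ?_, ?_, ?_, ?_, ?_, ?_, ?_, ?_⟩⟩
  · exact congrArg val S.t_sq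
  · intro h
    have := S.tG_order
    rw [h, orderOf_one] at this; omega
  · exact ⟨_, S.ζ.2, rfl⟩
  · exact ⟨_, S.t.2, rfl⟩
  · rintro _ ⟨q, hq, rfl⟩; exact hconj ⟨q, hq⟩
  · refine ⟨val (LargeFischer.lift S.D.F LargeFischerAut.va), ⟨_, (LargeFischer.lift S.D.F _).2, rfl⟩, ?_⟩
    have e := congrArg val (S.conj_of_bp (a := LargeFischer.lift S.D.F LargeFischerAut.va) (b := S.t)
      (by rw [S.cv_lift, S.cv_t]; exact hbp))
    rwa [map_mul, map_mul, map_inv, map_mul, hζ] at e
  · rintro x hx _ ⟨q, hq, rfl⟩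
    exact ⟨⟨x, Subgroup.mem_centralizer_singleton_iff.2 hx.eq⟩ * q *
      (⟨x, Subgroup.mem_centralizer_singleton_iff.2 hx.eq⟩ : Subgroup.centralizer ({z} : Set G))⁻¹,
      (inferInstance : Q₀.Normal).conj_mem q hq _, rfl⟩
  · rw [hd]
    exact Layer.isQuasisimple_congr (K.equivMapOfInjective (Subgroup.centralizer ({S.tG} : Set G)).subtype (Subgroup.subtype_injective _)) hqs
  · rw [Subgroup.relIndex, hd, Subgroup.subgroupOf, Subgroup.comap_map_eq_self_of_injective (Subgroup.subtype_injective _)]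
    exact hidx
  · rw [hd]; exact ⟨_, htK, rfl⟩
  · rw [Subgroup.card_eq_card_quotient_mul_card_subgroup ((Subgroup.zpowers S.tG).subgroupOf (Subgroup.centralizer ({S.tG} : Set G))),
      Nat.card_congr e.toEquiv, ThreeTrans.card_mulAut_fi22,
      Nat.card_congr (Subgroup.subgroupOfEquivOfLe ((Subgroup.zpowers_le (g := S.tG)).2
        (Subgroup.mem_centralizer_singleton_iff.2 rfl))).toEquiv, Nat.card_zpowers, S.tG_order]
    ring
  · exact ⟨hn, ⟨e⟩⟩
  · exact ⟨Q₀, inferInstance, hF, rfl⟩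

end Cfsg.Agent.Fi24Rec
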