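import Cfsg.Agent.Fi24Rec.Cover22
import Cfsg.Agent.Fi24Mult.Lift

/-!
The sections of the centralisers of transpositions into the group: for a transposition `v` commuting
with `l`, the copy of `Fi₂₃` over `l` and a conjugation realised in the group give one over `v`. They
agree on the common part, so they make homomorphisms into the group of pairs.
-/

set_option autoImplicit false

namespace Cfsg.Agent.Fi24Rec

open Cfsg Cfsg.Agent
open Cfsg.Agent.Fi24 (L gen el sign H D)
open Cfsg.Agent.Fi24Mult (K fixG fixG_sign fixG_mul fixG_mem_K fixG_gen Tw comm_of_lab)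
open Cfsg.Spor.Fi24 (Gen)

/-- The element `kl` of order three. -/
noncomputable abbrev kL : GF := gen Gen.k * L

/-- A transposition commuting with `l` other than `l`. -/
structure Layer (v : GF) : Prop where
  mem : v ∈ D
  ne : v ≠ L
  comm : Commute v L

theorem L_sq : L * L = 1 := Fi24.gen_sq _

theorem kL_pow_three : kL ^ 3 = 1 := Fi24Mult.sK_pow_three

theorem mem_K_iff {v g : GF} : g ∈ K v ↔ Commute g v ∧ sign g = 1 :=
  ⟨fun h => ⟨Subgroup.mem_centralizer_singleton_iff.1 h.1, h.2⟩,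
    fun h => ⟨Subgroup.mem_centralizer_singleton_iff.2 h.1.eq, h.2⟩⟩

theorem trans_sign {v : GF} (hv : v ∈ D) : sign v = Multiplicative.ofAdd 1 := by
  obtain ⟨g, rfl⟩ := Fi24.mem_D.1 hv
  rw [map_mul, map_mul, Fi24Mult.sign_L, map_inv, mul_comm (sign g), mul_inv_cancel_right]

theorem layer_j : Layer (gen .j) := by
  refine ⟨Fi24.isConj_L .j, fun h => ?_, gen_j_comm⟩
  refine Fi24.ne_of_fwd (u := [10]) (v := [11]) (c := 3) (by decide) (by decide) (by norm_num)
    (by decide +kernel) ?_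
  rw [Fi24.el_single (by norm_num), Fi24.el_single (by norm_num)]
  exact congrArg Fi24.φ h

theorem Layer.conj_a {v : GF} (hv : Layer v) : ∃ h ∈ H, h * gen .a * h⁻¹ = v := by
  rcases Fi24.D_cases hv.mem with h | h | ⟨h, hh, he⟩
  · exact absurd h hv.ne
  · exact h
  · exfalso
    refine Fi24.k_not_comm ?_
    have e : h⁻¹ * L * h = L := by rw [mul_assoc, ← Fi24.L_comm hh, inv_mul_cancel_left]
    have hc := hv.comm.map (MulAut.conj h⁻¹).toMonoidHom
    simp only [MulEquiv.coe_toMonoidHom, MulAut.conj_apply, inv_inv] at hc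
    rw [e, ← he, show h⁻¹ * (h * gen .k * h⁻¹) * h = gen .k by group] at hc
    exact hc

theorem Layer.vL_mem {v : GF} (hv : Layer v) : v * L ∈ K L :=
  mul_L_mem (trans_sign hv.mem) hv.comm

theorem Layer.vL_mem_K {v : GF} (hv : Layer v) : v * L ∈ K v :=
  mem_K_iff.2 ⟨Commute.mul_left (Commute.refl v) hv.comm.symm, hv.vL_mem.2⟩

theorem Layer.exists_swap {v : GF} (hv : Layer v) :
    ∃ w : GF, w * w = 1 ∧ sign w = 1 ∧ w * L * w = v ∧ w * v * w = L := by
  obtain ⟨h, hh, rfl⟩ := hv.conj_a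
  have ha : gen Gen.a * L = L * gen .a := comm_of_lab (x := Gen.a) (y := .l) (by decide)
  have hT : Fi24.toA * Fi24.toA = 1 := by
    calc Fi24.toA * Fi24.toA = gen .k * (gen .a * L * (gen .k * gen .k) * (gen .a * L)) * gen .k := by
          simp only [Fi24.toA, mul_assoc]
      _ = gen .k * (gen .a * L * (L * gen .a)) * gen .k := by rw [Fi24.gen_sq, mul_one, ha]
      _ = gen .k * (gen .a * (L * L) * gen .a) * gen .k := by simp only [mul_assoc]
      _ = 1 := by rw [L_sq, mul_one, Fi24.gen_sq, mul_one, Fi24.gen_sq]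
  have hTc : Fi24.toA * L * Fi24.toA = gen .a := by
    have e := Fi24.toA_conj
    rwa [inv_eq_of_mul_eq_one_right hT] at e
  set w := h * Fi24.toA * h⁻¹ with hw
  have hw2 : w * w = 1 := by
    rw [show w * w = h * (Fi24.toA * Fi24.toA) * h⁻¹ by rw [hw]; group, hT, mul_one, mul_inv_cancel]
  have hwL : w * L * w = h * gen .a * h⁻¹ := by
    have e : h⁻¹ * L * h = L := by rw [mul_assoc, ← Fi24.L_comm hh, inv_mul_cancel_left]
    rw [show w * L * w = h * (Fi24.toA * (h⁻¹ * L * h) * Fi24.toA) * h⁻¹ by rw [hw]; group, e, hTc]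
  refine ⟨w, hw2, ?_, hwL, ?_⟩
  · rw [hw, map_mul, map_mul, map_inv, mul_comm (sign h), mul_inv_cancel_right, Fi24.toA]
    simp only [map_mul, Fi24.sign_gen]
    decide
  · rw [← hwL, show w * (w * L * w) * w = w * w * L * (w * w) by group, hw2, one_mul, mul_one]

theorem fixG_conj {g x : GF} (hx : Commute x L) : fixG g * x * (fixG g)⁻¹ = g * x * g⁻¹ := by
  unfold Fi24Mult.fixG
  split_ifs
  · rfl
  · rw [mul_assoc g L x, ← hx.eq]
    group

theorem fixG_even {g : GF} (h : sign g = 1) : fixG g = g := if_pos h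

theorem conj_mem_K (c : MulAut GF) (hs : ∀ g, sign (c g) = sign g) {v v' g : GF} (e : c v = v')
    (hg : g ∈ K v) : c g ∈ K v' :=
  e ▸ mem_K_iff.2 ⟨(mem_K_iff.1 hg).1.map c.toMonoidHom, (hs g).trans (mem_K_iff.1 hg).2⟩

theorem conj_sign {w : GF} (g : GF) : sign (MulAut.conj w g) = sign g := by
  rw [MulAut.conj_apply, map_mul, map_mul, map_inv, mul_comm (sign w), mul_inv_cancel_right]

theorem kL_mem {v : GF} (hv : Layer v) (hk : Commute (gen .k) v) : kL ∈ K v :=
  mem_K_iff.2 ⟨hk.mul_left hv.comm.symm, by rw [map_mul, Fi24.sign_gen, Fi24.sign_gen]; decide⟩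

theorem kL_inv : kL⁻¹ = L * gen .k := by rw [mul_inv_rev, Fi24.gen_inv, Fi24.gen_inv]

/-- The parity, as a bit. -/
noncomputable def oddB (g : GF) : Bool := !decide (sign g = 1)

theorem oddB_mul (a b : GF) : oddB (a * b) = xor (oddB a) (oddB b) := by
  simp only [oddB, map_mul]
  generalize sign a = u
  generalize sign b = v
  revert u v
  decide

theorem fixG_mul' (a b : GF) :
    fixG (a * b) = fixG a * (bif oddB a then L * fixG b * L else fixG b) := by
  have hLL : ∀ x : GF, L * (L * x) = x := fun x => by rw [← mul_assoc, L_sq, one_mul]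
  rcases Fi24Mult.sign_cases a with ha | ha <;> rcases Fi24Mult.sign_cases b with hb | hb <;>
    simp [fixG, oddB, map_mul, ha, hb, mul_assoc, L_sq, hLL,
      show (Multiplicative.ofAdd (1 : ZMod 2)) ≠ 1 by decide,
      show (Multiplicative.ofAdd (1 : ZMod 2)) * Multiplicative.ofAdd 1 = 1 by decide]

theorem fixG_cent {v g : GF} (hv : Commute v L) (hg : Commute g v) : fixG g ∈ K v := by
  refine mem_K_iff.2 ⟨?_, fixG_sign g⟩
  unfold Fi24Mult.fixG
  split_ifs
  exacts [hg, hg.mul_left hv.symm]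

theorem L_conj_mem {v g : GF} (hv : Commute v L) (hg : g ∈ K v) : L * g * L ∈ K v :=
  mem_K_iff.2 ⟨(hv.symm.mul_left (mem_K_iff.1 hg).1).mul_left hv.symm, by
    rw [map_mul, map_mul, (mem_K_iff.1 hg).2, Fi24Mult.sign_L]; decide⟩

variable {G : Type*} [Group G]

/-- A section over the even part of a centraliser, agreeing with the given one. -/
structure IsRho (phi : ↥(K L) →* G) (v : GF) (r : ↥(K v) →* G) : Prop where
  inj : Function.Injective r
  ext : ∀ (g : GF) (h : g ∈ K v) (h' : g ∈ K L), r ⟨g, h⟩ = phi ⟨g, h'⟩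

theorem IsRho.flip {phi : ↥(K L) →* G} {v : GF} {r : ↥(K v) →* G} (hr : IsRho phi v r) (hv : Layer v)
    (hk : Commute (gen .k) v) :
    ∃ r', IsRho phi v r' ∧ r' ⟨kL, kL_mem hv hk⟩ = (r ⟨kL, kL_mem hv hk⟩)⁻¹ := by
  let u : ↥(K v) := ⟨v * L, hv.vL_mem_K⟩
  refine ⟨r.comp (MulAut.conj u).toMonoidHom, ⟨hr.inj.comp (MulAut.conj u).injective, fun g h h' => ?_⟩, ?_⟩
  · have e : MulAut.conj u ⟨g, h⟩ = ⟨g, h⟩ := Subtype.ext (by
      show v * L * g * (v * L)⁻¹ = g
      rw [mul_inv_eq_iff_eq_mul]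
      exact (((mem_K_iff.1 h).1.mul_right (mem_K_iff.1 h').1).symm).eq)
    show r (MulAut.conj u ⟨g, h⟩) = _
    rw [e, hr.ext g h h']
  · rw [← map_inv]
    refine congrArg r (Subtype.ext ?_)
    show v * L * kL * (v * L)⁻¹ = kL⁻¹
    rw [kL_inv, show v * L * (gen Gen.k * L) * (v * L)⁻¹ = v * (L * gen .k) * v⁻¹ by group,
      (hv.comm.mul_right hk.symm).eq, mul_inv_cancel_right]

/-- The section as a homomorphism on the whole centraliser into the group of pairs. -/
noncomputable def pairHom {v : GF} (r : ↥(K v) →* G) (hv : Commute v L) :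
    ↥(Subgroup.centralizer ({v} : Set GF)) →* Tw G where
  toFun g := ⟨r ⟨fixG g, fixG_cent hv (Subgroup.mem_centralizer_singleton_iff.1 g.2)⟩,
    r ⟨L * fixG g * L, L_conj_mem hv (fixG_cent hv (Subgroup.mem_centralizer_singleton_iff.1 g.2))⟩,
    oddB g⟩
  map_one' := by
    have h1 : fixG (1 : GF) = 1 := fixG_even (map_one _)
    refine Tw.ext ?_ ?_ (by simp [oddB]) <;> (refine (congrArg r (Subtype.ext ?_)).trans (map_one r))
    · exact h1
    · show L * fixG (1 : GF) * L = 1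
      rw [h1, mul_one, L_sq]
  map_mul' a b := by
    refine Tw.ext ?_ ?_ (oddB_mul _ _)
    · show r _ = r _ * (bif oddB a then r _ else r _)
      cases h : oddB (a : GF) <;> simp only [cond_true, cond_false, ← map_mul] <;>
        refine congrArg r (Subtype.ext ?_) <;>
        simp [Subgroup.coe_mul, fixG_mul', h]
    · show r _ = r _ * (bif oddB a then r _ else r _)
      cases h : oddB (a : GF) <;> simp only [cond_true, cond_false, ← map_mul] <;>
        refine congrArg r (Subtype.ext ?_) <;>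
        simp [Subgroup.coe_mul, fixG_mul', h, mul_assoc, ← mul_assoc L L, L_sq]

/-- The given section on the subgroup on all nodes but `k`, into the group of pairs. -/
noncomputable def baseHom (phi : ↥(K L) →* G) : ↥H →* Tw G where
  toFun h := ⟨phi ⟨fixG h, fixG_mem_K (Fi24.L_comm h.2) (Fi24.L_comm h.2) rfl⟩,
    phi ⟨fixG h, fixG_mem_K (Fi24.L_comm h.2) (Fi24.L_comm h.2) rfl⟩, oddB h⟩
  map_one' := by
    refine Tw.ext ?_ ?_ (by simp [oddB]) <;>
      exact (congrArg phi (Subtype.ext (fixG_even (map_one _)))).trans (map_one phi)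
  map_mul' a b := by
    refine Tw.ext ?_ ?_ (oddB_mul _ _) <;>
      (show phi _ = phi _ * (bif oddB a then phi _ else phi _)
       cases oddB (a : GF) <;> simp only [cond_true, cond_false, ← map_mul] <;>
         exact congrArg phi (Subtype.ext (fixG_mul (Fi24.L_comm b.2))))

theorem IsRho.pairHom_eq {phi : ↥(K L) →* G} {v : GF} {r : ↥(K v) →* G} (hr : IsRho phi v r)
    (hv : Commute v L) {g : GF} (hg : g ∈ Subgroup.centralizer ({v} : Set GF)) (hH : g ∈ H) :
    pairHom r hv ⟨g, hg⟩ = baseHom phi ⟨g, hH⟩ := by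
  have hK := fixG_mem_K (Fi24.L_comm hH) (Fi24.L_comm hH) (t := L) rfl
  have e : L * fixG g * L = fixG g := by
    rw [mul_assoc, (mem_K_iff.1 hK).1.eq, ← mul_assoc, L_sq, one_mul]
  refine Tw.ext (hr.ext _ _ hK) ?_ rfl
  show r ⟨L * fixG g * L, _⟩ = _
  rw [show (⟨L * fixG g * L, _⟩ : ↥(K v)) = ⟨fixG g, fixG_cent hv (Subgroup.mem_centralizer_singleton_iff.1 hg)⟩
    from Subtype.ext e]
  exact hr.ext _ _ hK

theorem pairHom_k {v : GF} (r : ↥(K v) →* G) (hv : Layer v) (hk : Commute (gen .k) v) :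
    pairHom r hv.comm ⟨gen .k, Subgroup.mem_centralizer_singleton_iff.2 hk.eq⟩ =
      ⟨r ⟨kL, kL_mem hv hk⟩, (r ⟨kL, kL_mem hv hk⟩)⁻¹, true⟩ := by
  refine Tw.ext (congrArg r (Subtype.ext (fixG_gen _))) ?_ (by simp [pairHom, oddB, Fi24.sign_gen])
  show r _ = (r _)⁻¹
  rw [← map_inv]
  refine congrArg r (Subtype.ext ?_)
  show L * fixG (gen Gen.k) * L = kL⁻¹
  rw [fixG_gen, kL_inv, mul_assoc, mul_assoc, L_sq, mul_one]

/-- What is given: the section over `l` and the local structure. -/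
structure Setup (t z : G) (Q : Subgroup G) (phi : ↥(K L) →* G) : Prop where
  base : Base t z Q
  inj : Function.Injective phi
  jL_eq : phi jL = t
  charts : ∀ v : GF, Layer v → Nonempty (↥(M v) ≃* ↥(dCent t))

variable [Finite G] {t z : G} {Q : Subgroup G} {phi : ↥(K L) →* G}

theorem Setup.isConj_vL (P : Setup t z Q phi) {v : GF} (hv : Layer v) :
    IsConj t (phi ⟨v * L, hv.vL_mem⟩) := by
  obtain ⟨h, hh, hhv⟩ := hv.conj_a
  obtain ⟨h', hh', hhj⟩ := layer_j.conj_a
  have hg : h * h'⁻¹ ∈ H := mul_mem hh (inv_mem hh')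
  let c : ↥(K L) := ⟨fixG (h * h'⁻¹), fixG_mem_K (Fi24.L_comm hg) (Fi24.L_comm hg) rfl⟩
  refine isConj_iff.2 ⟨phi c, ?_⟩
  rw [← P.jL_eq, ← map_inv, ← map_mul, ← map_mul]
  refine congrArg phi (Subtype.ext ?_)
  show fixG (h * h'⁻¹) * (gen Gen.j * L) * (fixG (h * h'⁻¹))⁻¹ = v * L
  have hjc : Commute (gen Gen.j * L) L := (mem_K_iff.1 jL.2).1
  rw [fixG_conj hjc,
    show ∀ g x y : GF, g * (x * y) * g⁻¹ = g * x * g⁻¹ * (g * y * g⁻¹) from fun g x y => by group,
    Fi24.L_comm hg, mul_inv_cancel_right, ← hhv, ← hhj]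
  group

theorem Setup.card_dCent (P : Setup t z Q phi) {v : GF} (hv : Layer v) {y : G} (hy : IsConj t y) :
    Nat.card ↥(M v) = Nat.card ↥(dCent y) := by
  obtain ⟨x, rfl⟩ := isConj_iff.1 hy
  rw [show x * t * x⁻¹ = MulAut.conj x t from rfl, ← map_dCent,
    Subgroup.card_map_of_injective (MulAut.conj x).injective]
  exact Nat.card_congr (P.charts v hv).some.toEquiv

theorem Setup.perfect (P : Setup t z Q phi) {v : GF} (hv : Layer v) : commutator ↥(M v) = ⊤ := by
  obtain ⟨e⟩ := P.charts v hv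
  have h := congrArg (Subgroup.map e.symm.toMonoidHom) P.base.qs.1.commutator_eq_top
  rwa [_root_.commutator_def, Subgroup.map_commutator,
    Subgroup.map_top_of_surjective _ e.symm.surjective, ← _root_.commutator_def] at h

theorem range_eq_dCent {A : Type*} [Group A] (hA : commutator A = ⊤) {y : G} (f : A →* G)
    (hf : Function.Injective f) (hy : ∀ a, Commute (f a) y) (hcard : Nat.card A = Nat.card ↥(dCent y)) :
    f.range = dCent y := by
  have hle : f.range ≤ dCent y := by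
    rw [MonoidHom.range_eq_map, ← hA, _root_.commutator_def, Subgroup.map_commutator]
    have hC : (⊤ : Subgroup A).map f ≤ Subgroup.centralizer ({y} : Set G) := by
      rintro _ ⟨a, -, rfl⟩; exact Subgroup.mem_centralizer_singleton_iff.2 (hy a).eq
    exact Subgroup.commutator_mono hC hC
  refine Subgroup.eq_of_le_of_card_ge hle (le_of_eq ?_)
  rw [← hcard, Nat.card_congr (MonoidHom.ofInjective hf).toEquiv]

/-- A section over `v`, and what it is up to conjugation. -/
theorem Setup.exists_rho (P : Setup t z Q phi) {v w : GF} (hv : Layer v) (hw : w * w = 1)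
    (hwv : MulAut.conj w v = L) :
    ∃ r, IsRho phi v r ∧ ∀ (g : GF) (hg : g ∈ K v) (hg' : MulAut.conj w g ∈ K L),
      IsConj (phi ⟨MulAut.conj w g, hg'⟩) (r ⟨g, hg⟩) := by
  set c := MulAut.conj w with hc
  have hcc : ∀ g, c (c g) = g := fun g => by
    rw [hc, ← MulAut.mul_apply, ← map_mul, hw, map_one, MulAut.one_apply]
  have hwL : c L = v := by rw [← hwv, hcc]
  have hcK : ∀ g ∈ K v, c g ∈ K L := fun g hg => conj_mem_K c conj_sign hwv hg
  let cK : ↥(K v) →* ↥(K L) := (c.toMonoidHom.comp (K v).subtype).codRestrict _ fun g => hcK g g.2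
  have hcM : ∀ g : GF, g ∈ M v → c g ∈ M v := fun g hg =>
    ⟨hcK g hg.2, conj_mem_K c conj_sign hwL hg.1⟩
  let cM : ↥(M v) ≃* ↥(M v) :=
    { toFun := fun g => ⟨c g, hcM g g.2⟩
      invFun := fun g => ⟨c g, hcM g g.2⟩
      left_inv := fun g => Subtype.ext (hcc g)
      right_inv := fun g => Subtype.ext (hcc g)
      map_mul' := fun a b => Subtype.ext (map_mul c (a : GF) b) }
  let f : ↥(M v) →* G := phi.comp (Subgroup.inclusion inf_le_left)
  have hf : Function.Injective f := P.inj.comp (Subgroup.inclusion_injective _)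
  have hy := P.isConj_vL hv
  have hr : f.range = dCent (phi ⟨v * L, hv.vL_mem⟩) := range_eq_dCent (P.perfect hv) f hf
    (fun a => Commute.map (show Commute (Subgroup.inclusion inf_le_left a) ⟨v * L, hv.vL_mem⟩ from
      Subtype.ext (((mem_K_iff.1 a.2.2).1.mul_right (mem_K_iff.1 a.2.1).1).eq)) phi)
    (P.card_dCent hv hy)
  let e := (MonoidHom.ofInjective hf).trans (MulEquiv.subgroupCongr hr)
  have he : ∀ g, (e g : G) = f g := fun _ => rfl
  obtain ⟨x, -, hx⟩ := realise_aut P.base hy (e.symm.trans (cM.trans e))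
  refine ⟨(MulAut.conj x⁻¹).toMonoidHom.comp (phi.comp cK), ⟨?_, fun g h h' => ?_⟩, fun g hg hg' => ?_⟩
  · exact (MulAut.conj x⁻¹).injective.comp (P.inj.comp fun a b hab =>
      Subtype.ext (c.injective (congrArg Subtype.val hab)))
  · have h1 := hx (e ⟨g, h', h⟩)
    simp only [MulEquiv.trans_apply, MulEquiv.symm_apply_apply, he] at h1
    show x⁻¹ * phi (cK ⟨g, h⟩) * x⁻¹⁻¹ = _
    rw [show phi (cK ⟨g, h⟩) = f (cM ⟨g, h', h⟩) from congrArg phi (Subtype.ext rfl), h1]
    show x⁻¹ * (x * phi ⟨g, h'⟩ * x⁻¹) * x⁻¹⁻¹ = _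
    group
  · exact isConj_iff.2 ⟨x⁻¹, rfl⟩

theorem zpow_three {X : Type*} [Group X] {a : X} (h : a ^ 3 = 1) (n : ℤ) :
    a ^ n = 1 ∨ a ^ n = a ∨ a ^ n = a⁻¹ := by
  have e : a ^ n = a ^ (n % 3) := by
    conv_lhs => rw [← Int.emod_add_mul_ediv n 3]
    rw [zpow_add, zpow_mul, show a ^ (3 : ℤ) = 1 by exact_mod_cast h, one_zpow, mul_one]
  have h2 : a ^ (2 : ℤ) = a⁻¹ := by
    rw [eq_inv_iff_mul_eq_one, zpow_two, ← pow_two, ← pow_succ, h]
  rcases (show n % 3 = 0 ∨ n % 3 = 1 ∨ n % 3 = 2 by omega) with hm | hm | hm <;> rw [e, hm]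
  · exact Or.inl (zpow_zero a)
  · exact Or.inr (Or.inl (zpow_one a))
  · exact Or.inr (Or.inr h2)

/-- The switch: an element of order three commuting with the images of a pair and of the words is
the value of a section at `kl`. -/
theorem Setup.exists_switched (P : Setup t z Q phi) {v v' : GF} (hv : Layer v) (hv' : Layer v')
    (hne : v' ≠ v) (hvv : Commute v v') (hk : Commute (gen .k) v) (hk' : Commute (gen .k) v')
    (W : List (List Nat)) (hW : ∀ w ∈ W, el w ∈ K L ∧ Commute (el w) v ∧ Commute (el w) v')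
    (hsw : ∀ s : GF, sign s = 1 → Commute s v → Commute s v' → s ^ 3 = 1 →
      (∀ w ∈ W, Commute s (el w)) → s ∈ Subgroup.zpowers kL)
    {S : G} (h3 : S ^ 3 = 1) (h1 : S ≠ 1) (hy : ∀ h : v * v' ∈ K L, Commute S (phi ⟨v * v', h⟩))
    (hSW : ∀ w ∈ W, ∀ h : el w ∈ K L, Commute S (phi ⟨el w, h⟩)) :
    ∃ r, IsRho phi v r ∧ r ⟨kL, kL_mem hv hk⟩ = S := by
  obtain ⟨w, hw2, -, hwL, hwv⟩ := hv.exists_swap
  have winv : w⁻¹ = w := inv_eq_of_mul_eq_one_right hw2
  have hcv : MulAut.conj w v = L := by rw [MulAut.conj_apply, winv]; exact hwv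
  have hcL : MulAut.conj w L = v := by rw [MulAut.conj_apply, winv]; exact hwL
  set c := MulAut.conj w with hc
  have hcc : ∀ g, c (c g) = g := fun g => by
    rw [hc, ← MulAut.mul_apply, ← map_mul, hw2, map_one, MulAut.one_apply]
  obtain ⟨r, hr, hrc⟩ := P.exists_rho hv hw2 hcv
  -- the other member, seen from `l`
  have hu : Layer (c v') := by
    refine ⟨?_, fun h => hne (c.injective (h.trans hcv.symm)), ?_⟩
    · obtain ⟨g, hg⟩ := Fi24.mem_D.1 hv'.mem
      exact Fi24.mem_D.2 ⟨w * g, by rw [← hg, hc, MulAut.conj_apply]; group⟩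
    · rw [← hcv]; exact hvv.symm.map c.toMonoidHom
  have hsgn : sign (v * v') = 1 := by
    rw [map_mul, trans_sign hv.mem, trans_sign hv'.mem]; decide
  have hpL : v * v' ∈ K L := mem_K_iff.2 ⟨hv.comm.mul_left hv'.comm, hsgn⟩
  have hpv : v * v' ∈ K v := mem_K_iff.2 ⟨(Commute.refl v).mul_left hvv.symm, hsgn⟩
  set y := phi ⟨v * v', hpL⟩ with hy0
  have hty : IsConj t y := by
    have hcK : c (v * v') ∈ K L := conj_mem_K c conj_sign hcv hpv
    have h' := hrc _ hpv hcK
    rw [hr.ext _ hpv hpL] at h'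
    refine (P.isConj_vL hu).trans ?_
    rwa [show (⟨c v' * L, hu.vL_mem⟩ : ↥(K L)) = ⟨c (v * v'), hcK⟩ from Subtype.ext (by
      show c v' * L = c (v * v')
      rw [map_mul, hcv, hu.comm.eq])]
  let A : Subgroup GF := K v ⊓ K v'
  let cA : ↥(M (c v')) ≃* ↥A :=
    { toFun := fun g => ⟨c g, conj_mem_K c conj_sign hcL g.2.1,
        conj_mem_K c conj_sign (hcc v') g.2.2⟩
      invFun := fun g => ⟨c g, conj_mem_K c conj_sign hcv g.2.1, conj_mem_K c conj_sign rfl g.2.2⟩
      left_inv := fun g => Subtype.ext (hcc g)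
      right_inv := fun g => Subtype.ext (hcc g)
      map_mul' := fun a b => Subtype.ext (map_mul c (a : GF) b) }
  have hA : commutator ↥A = ⊤ := by
    have h := congrArg (Subgroup.map cA.toMonoidHom) (P.perfect hu)
    rwa [_root_.commutator_def, Subgroup.map_commutator,
      Subgroup.map_top_of_surjective _ cA.surjective, ← _root_.commutator_def] at h
  let f : ↥A →* G := r.comp (Subgroup.inclusion inf_le_left)
  have hf : Function.Injective f := hr.inj.comp (Subgroup.inclusion_injective _)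
  have hfr : f.range = dCent y := by
    refine range_eq_dCent hA f hf (fun a => ?_) ?_
    · rw [hy0, ← hr.ext _ hpv hpL]
      exact Commute.map (show Commute (Subgroup.inclusion inf_le_left a) ⟨v * v', hpv⟩ from
        Subtype.ext (((mem_K_iff.1 a.2.1).1.mul_right (mem_K_iff.1 a.2.2).1).eq)) r
    · rw [← Nat.card_congr cA.toEquiv, P.card_dCent hu hty]
  have hSd : S ∈ dCent y := by
    haveI : Fact (Nat.Prime 3) := ⟨Nat.prime_three⟩
    exact (cent_facts P.base hty).2.2.2.2 S (Subgroup.mem_centralizer_singleton_iff.2 (hy hpL).eq)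
      (orderOf_eq_prime h3 h1)
  rw [← hfr] at hSd
  obtain ⟨s, hs⟩ := hSd
  have hs' : r ⟨(s : GF), s.2.1⟩ = S := hs
  have hs3 : (s : GF) ^ 3 = 1 := by
    have : s ^ 3 = 1 := hf (by rw [map_pow, hs, h3, map_one])
    exact congrArg Subtype.val this
  have hmem : (s : GF) ∈ Subgroup.zpowers kL := by
    refine hsw s s.2.1.2 (mem_K_iff.1 s.2.1).1 (mem_K_iff.1 s.2.2).1 hs3 fun u hu => ?_
    obtain ⟨huL, huv, -⟩ := hW u hu
    have huK : el u ∈ K v := mem_K_iff.2 ⟨huv, huL.2⟩
    have h : (⟨(s : GF), s.2.1⟩ : ↥(K v)) * ⟨el u, huK⟩ = ⟨el u, huK⟩ * ⟨(s : GF), s.2.1⟩ :=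
      hr.inj (by rw [map_mul, map_mul, hs', hr.ext _ huK huL]; exact (hSW u hu huL).eq)
    exact congrArg Subtype.val h
  obtain ⟨n, hn⟩ := Subgroup.mem_zpowers_iff.1 hmem
  rcases zpow_three kL_pow_three n with e | e | e <;> rw [hn] at e
  · exact absurd (hs'.symm.trans ((congrArg r (Subtype.ext e)).trans (map_one r))) h1
  · exact ⟨r, hr, by rw [← hs']; exact congrArg r (Subtype.ext e.symm)⟩
  · obtain ⟨r', hr', he⟩ := hr.flip hv hk
    refine ⟨r', hr', ?_⟩
    rw [he, ← map_inv, ← hs']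
    exact congrArg r (Subtype.ext e.symm)

end Cfsg.Agent.Fi24Rec
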