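import Cfsg.Agent.Fi24.Points
import Cfsg.Agent.Fi24Mult.Lift
import Cfsg.Agent.ThreeTrans.Y542.Path

/-!
The spider of Fi24, conjugated by the reversal of the long path `i h d c b a k l`, is a word in the
nodes other than `k`, followed by `k l`.
-/

set_option autoImplicit false
set_option maxRecDepth 100000

namespace Cfsg.Agent.Fi24Rec

open Cfsg.Agent.Fi24
open Cfsg.Agent.CosetCert
open Cfsg.Agent.ThreeTrans.Y542
open Cfsg.Agent.Fi24Mult (comm_of_lab lab)

/-- The node of a place on the long path. -/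
def pathNode (s : Nat) : Nat := [6, 5, 4, 3, 2, 1, 0, 11].getD s 0

/-- The word reversing the long path. -/
def revW : List Nat := Path.wg.map pathNode

/-- The image of `e`. -/
def betaW : List Nat :=
  [7, 4, 5, 3, 4, 7, 6, 5, 4, 3, 1, 2, 1, 2, 1, 3, 4, 5, 6, 7, 4, 3, 5, 4, 7]

/-- The image of `d c b a k l d e f`. -/
def leftW : List Nat := [1, 2, 3, 4, 5, 6, 1] ++ betaW ++ [8]

/-- The image of the spider, but for the last two letters `k l`. -/
def spQ : List Nat := leftW ++ [9, 10, 1]

theorem el_cons {x : Nat} (hx : x < 12) (w : List Nat) :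
    el (x :: w) = gen (Fi24Index.dec x).1 * el w := by
  rw [show x :: w = [x] ++ w from rfl, el_append, el_single hx]

theorem el_map {n : Nat} (f : Nat → Nat) (hf : ∀ x < n, f x < 12) :
    ∀ w : List Nat, (∀ x ∈ w, x < n) →
      el (w.map f) = Path.ev (fun s => gen (Fi24Index.dec (f s)).1) w := by
  intro w
  induction w with
  | nil => exact fun _ => el_nil
  | cons x t ih =>
    intro hw
    rw [List.map_cons, el_cons (hf x (hw x (List.mem_cons_self ..))),
      ih fun y hy => hw y (List.mem_cons_of_mem _ hy), ThreeTrans.Y542.Path.ev_cons]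

theorem path_rels : Path.Rels fun s => gen (Fi24Index.dec (pathNode s)).1 where
  sq s _ := gen_sq _
  braid s hs t ht h := by
    refine braid ?_
    revert t
    revert s
    decide +kernel
  comm s hs t ht h := by
    by_cases hst : s = t
    · subst hst; exact Commute.refl _
    refine comm_of_lab ?_
    revert t
    revert s
    decide +kernel

theorem revW_lt : ∀ x ∈ revW, x < 12 := by decide +kernel

theorem revW_conj {s : Nat} (hs : s < 8) :
    el revW * gen (Fi24Index.dec (pathNode s)).1 * (el revW)⁻¹ =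
      gen (Fi24Index.dec (pathNode (7 - s))).1 := by
  rw [show el revW = _ from el_map (n := 8) pathNode (by decide) Path.wg ThreeTrans.Y542.Path.wg_lt,
    ThreeTrans.Y542.Path.wg_conj path_rels hs, mul_inv_cancel_right]

theorem commute_el {y : Nat} (hy : y < 12) : ∀ w : List Nat,
    (∀ x ∈ w, x < 12 ∧ lab (Fi24Index.dec x).1 (Fi24Index.dec y).1 = 2) →
      Commute (el w) (gen (Fi24Index.dec y).1) := by
  intro w
  induction w with
  | nil => intro _; rw [el_nil]; exact Commute.one_left _
  | cons x t ih =>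
    intro hw
    obtain ⟨hx, hl⟩ := hw x (List.mem_cons_self ..)
    rw [el_cons hx]
    exact Commute.mul_left (comm_of_lab hl) (ih fun z hz => hw z (List.mem_cons_of_mem _ hz))

theorem revW_fix {y : Nat} (hy : y = 8 ∨ y = 9 ∨ y = 10) :
    el revW * gen (Fi24Index.dec y).1 * (el revW)⁻¹ = gen (Fi24Index.dec y).1 := by
  have h : Commute (el revW) (gen (Fi24Index.dec y).1) := by
    rcases hy with rfl | rfl | rfl <;> exact commute_el (by norm_num) _ (by decide +kernel)
  rw [h.eq, mul_inv_cancel_right]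

/-- A conjugate of `l` by a word. -/
theorem el_conj_eq {u v : List Nat} (hu : ∀ x ∈ u, x < 12) (hv : ∀ x ∈ v, x < 12)
    (h : Fi24Index.data.fwd u.reverse 0 = Fi24Index.data.fwd v.reverse 0) :
    el u * L * (el u)⁻¹ = el v * L * (el v)⁻¹ := by
  have e : φ (el u) c0 = φ (el v) c0 := Fin.ext (by
    rw [φ_apply u hu c0, φ_apply v hv c0]
    exact h)
  rw [conj_L_eq, conj_L_eq, e]

theorem conj_chain {u : G} {x y : Cfsg.Spor.Fi24.Gen} (hu : u * L * u⁻¹ = gen x)
    (h : Cfsg.Spor.coxLabel Cfsg.Spor.Fi24.edges x y = 3) :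
    (gen x * gen y * u) * L * (gen x * gen y * u)⁻¹ = gen y := by
  rw [show gen x * gen y * u * L * (gen x * gen y * u)⁻¹ =
    gen x * gen y * (u * L * u⁻¹) * (gen x * gen y)⁻¹ by group, hu, ← conj_step h]

theorem gen_e_conj : el [4, 7, 3, 4, 2, 3, 1, 2, 0, 1, 11, 0] * L *
    (el [4, 7, 3, 4, 2, 3, 1, 2, 0, 1, 11, 0])⁻¹ = gen .e := by
  have h := conj_chain (conj_chain (conj_chain (conj_chain (conj_chain (conj_chain
    (u := 1) (x := .l) (y := .k) (by simp) (by decide)) (y := .a) (by decide)) (y := .b) (by decide))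
      (y := .c) (by decide)) (y := .d) (by decide)) (y := .e) (by decide)
  simp only [mul_one] at h
  have e : el [4, 7, 3, 4, 2, 3, 1, 2, 0, 1, 11, 0] = gen .d * gen .e * (gen .c * gen .d *
      (gen .b * gen .c * (gen .a * gen .b * (gen .k * gen .a * (L * gen .k))))) := by
    simp only [el_cons, el_nil, Nat.reduceLT, mul_one, mul_assoc, Fi24Index.dec]
  rw [e]
  exact h

theorem betaW_conj :
    el [7, 4, 5, 3, 4, 7, 6, 5, 4, 3, 1, 2, 0, 1, 11, 0] * L *
      (el [7, 4, 5, 3, 4, 7, 6, 5, 4, 3, 1, 2, 0, 1, 11, 0])⁻¹ = el betaW := by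
  have hs : el betaW = el [7, 4, 5, 3, 4, 7, 6, 5, 4, 3, 1, 2] * gen .a *
      (el [7, 4, 5, 3, 4, 7, 6, 5, 4, 3, 1, 2])⁻¹ := by
    rw [← el_reverse (by decide +kernel : ∀ x ∈ [7, 4, 5, 3, 4, 7, 6, 5, 4, 3, 1, 2], x < 12),
      show gen Cfsg.Spor.Fi24.Gen.a = el [1] from (el_single (x := 1) (by norm_num)).symm, ← el_append,
      ← el_append]
    rfl
  rw [hs, show [7, 4, 5, 3, 4, 7, 6, 5, 4, 3, 1, 2, 0, 1, 11, 0] =
    [7, 4, 5, 3, 4, 7, 6, 5, 4, 3, 1, 2] ++ [0, 1, 11, 0] from rfl, el_append, el_words.1, ← toA_conj]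
  group

theorem revW_e : el revW * gen .e * (el revW)⁻¹ = el betaW := by
  rw [← gen_e_conj, ← betaW_conj,
    show ∀ g u : G, g * (u * L * u⁻¹) * g⁻¹ = (g * u) * L * (g * u)⁻¹ from fun g u => by group,
    ← el_append]
  exact el_conj_eq (by decide +kernel) (by decide +kernel) (by decide +kernel)

/-- The first half of the spider under the reversal. -/
theorem revW_left :
    el revW * el [4, 3, 2, 1, 0, 11, 4, 7, 8] * (el revW)⁻¹ = el leftW := by
  have p2 := revW_conj (s := 2) (by norm_num)
  have p3 := revW_conj (s := 3) (by norm_num)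
  have p4 := revW_conj (s := 4) (by norm_num)
  have p5 := revW_conj (s := 5) (by norm_num)
  have p6 := revW_conj (s := 6) (by norm_num)
  have p7 := revW_conj (s := 7) (by norm_num)
  have p8 := revW_fix (y := 8) (by simp)
  have pe := revW_e
  simp only [pathNode, List.getD_eq_getElem?_getD, Nat.reduceSub, List.getElem?_cons_succ,
    List.getElem?_cons_zero, Option.getD_some] at p2 p3 p4 p5 p6 p7
  simp only [← MulAut.conj_apply] at p2 p3 p4 p5 p6 p7 p8 pe ⊢
  rw [leftW, el_append, el_append]
  simp only [el_cons, el_nil, Nat.reduceLT, mul_one, Fi24Index.dec] at p2 p3 p4 p5 p6 p7 p8 pe ⊢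
  simp only [map_mul, p2, p3, p4, p5, p6, p7, p8, pe, mul_assoc]

/-- The second half of the spider under the reversal. -/
theorem revW_right :
    el revW * el [10, 4, 5, 6] * (el revW)⁻¹ = el [10, 1] * gen .k * L := by
  have p0 := revW_conj (s := 0) (by norm_num)
  have p1 := revW_conj (s := 1) (by norm_num)
  have p2 := revW_conj (s := 2) (by norm_num)
  have p10 := revW_fix (y := 10) (by simp)
  simp only [pathNode, List.getD_eq_getElem?_getD, Nat.reduceSub, List.getElem?_cons_succ,
    List.getElem?_cons_zero, Option.getD_some] at p0 p1 p2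
  simp only [← MulAut.conj_apply] at p0 p1 p2 p10 ⊢
  simp only [el_cons, el_nil, Nat.reduceLT, mul_one, Fi24Index.dec] at p0 p1 p2 p10 ⊢
  simp only [map_mul, p0, p1, p2, p10, mul_assoc]

theorem spider_el : el Fi24Index.spider =
    el [4, 3, 2, 1, 0, 11, 4, 7, 8] * gen .g * el [10, 4, 5, 6] := by
  rw [show gen Cfsg.Spor.Fi24.Gen.g = el [9] from (el_single (x := 9) (by norm_num)).symm, ← el_append,
    ← el_append]
  rfl

theorem spider_pow : el Fi24Index.spider ^ 17 = 1 := by
  have h := PresentedGroup.one_of_mem (rels := R) (x := Fi24Mult.spiderRel)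
    (Or.inr (by simp [Cfsg.Spor.Fi24.extra, Fi24Mult.spiderRel]))
  rw [Fi24Mult.spiderRel, map_pow] at h
  rw [← h]
  rfl

/-- The conjugated spider. -/
theorem spQ_pow : (el spQ * gen .k * L) ^ 17 = 1 := by
  have e : el revW * el Fi24Index.spider * (el revW)⁻¹ = el spQ * gen .k * L := by
    rw [spider_el, spQ, el_append, show el [9, 10, 1] = gen .g * el [10, 1] from
      el_cons (x := 9) (by norm_num) _, ← revW_left]
    have hg := revW_fix (y := 9) (by simp)
    calc _ = (el revW * el [4, 3, 2, 1, 0, 11, 4, 7, 8] * (el revW)⁻¹) *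
          (el revW * gen .g * (el revW)⁻¹) * (el revW * el [10, 4, 5, 6] * (el revW)⁻¹) := by group
      _ = _ := by
          rw [show el revW * gen .g * (el revW)⁻¹ = gen .g from hg, revW_right]
          simp only [mul_assoc]
  rw [← e, conj_pow, spider_pow, mul_one, mul_inv_cancel]

end Cfsg.Agent.Fi24Rec
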