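import Cfsg.Agent.Fi24Rec.SwitchData

/-! Generated: kernel checks of the profiles. -/

set_option maxRecDepth 100000
set_option Elab.async false

namespace Cfsg.Agent.Fi24Rec.SwitchData

open Cfsg.Agent.CosetCert

theorem scan_at8000 : allFrom scanAt 8000 1000 = true := by decide +kernel

theorem scan_at9000 : allFrom scanAt 9000 1000 = true := by decide +kernel

theorem scan_at10000 : allFrom scanAt 10000 1000 = true := by decide +kernel

theorem scan_at11000 : allFrom scanAt 11000 1000 = true := by decide +kernel

theorem scan_at12000 : allFrom scanAt 12000 1000 = true := by decide +kernel

theorem scan_at13000 : allFrom scanAt 13000 1000 = true := by decide +kernel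

theorem scan_at14000 : allFrom scanAt 14000 1000 = true := by decide +kernel

theorem scan_at15000 : allFrom scanAt 15000 1000 = true := by decide +kernel

end Cfsg.Agent.Fi24Rec.SwitchData
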