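import Cfsg.Agent.Fi24Rec.SwitchData

/-! Generated: kernel checks of the profiles. -/

set_option maxRecDepth 100000
set_option Elab.async false

namespace Cfsg.Agent.Fi24Rec.SwitchData

open Cfsg.Agent.CosetCert

theorem scan_at16000 : allFrom scanAt 16000 1000 = true := by decide +kernel

theorem scan_at17000 : allFrom scanAt 17000 1000 = true := by decide +kernel

theorem scan_at18000 : allFrom scanAt 18000 1000 = true := by decide +kernel

theorem scan_at19000 : allFrom scanAt 19000 1000 = true := by decide +kernel

theorem scan_at20000 : allFrom scanAt 20000 1000 = true := by decide +kernel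

theorem scan_at21000 : allFrom scanAt 21000 1000 = true := by decide +kernel

theorem scan_at22000 : allFrom scanAt 22000 1000 = true := by decide +kernel

theorem scan_at23000 : allFrom scanAt 23000 1000 = true := by decide +kernel

end Cfsg.Agent.Fi24Rec.SwitchData
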