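import Cfsg.Agent.Fi24Rec.SwitchData

/-! Generated: kernel checks of the profiles. -/

set_option maxRecDepth 100000
set_option Elab.async false

namespace Cfsg.Agent.Fi24Rec.SwitchData

open Cfsg.Agent.CosetCert

theorem scan_at24000 : allFrom scanAt 24000 1000 = true := by decide +kernel

theorem scan_at25000 : allFrom scanAt 25000 1000 = true := by decide +kernel

theorem scan_at26000 : allFrom scanAt 26000 1000 = true := by decide +kernel

theorem scan_at27000 : allFrom scanAt 27000 1000 = true := by decide +kernel

theorem scan_at28000 : allFrom scanAt 28000 1000 = true := by decide +kernel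

theorem scan_at29000 : allFrom scanAt 29000 1000 = true := by decide +kernel

theorem scan_at30000 : allFrom scanAt 30000 1000 = true := by decide +kernel

theorem scan_at31000 : allFrom scanAt 31000 672 = true := by decide +kernel

end Cfsg.Agent.Fi24Rec.SwitchData
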