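import Cfsg.Agent.Fi24Rec.SwitchScan0
import Cfsg.Agent.Fi24Rec.SwitchScan1
import Cfsg.Agent.Fi24Rec.SwitchScan2
import Cfsg.Agent.Fi24Rec.SwitchScan3

/-! Generated: every place passes the check of the profiles. -/

set_option maxRecDepth 100000

namespace Cfsg.Agent.Fi24Rec.SwitchData

open Cfsg.Agent.CosetCert

theorem scan_ok : ∀ i, i < 31672 → scanAt i = true := by
  have h0 := forall_lt_step (a := 0) (b := 1000) (p := scanAt) forall_lt_zero scan_at0 rfl
  have h1 := forall_lt_step (b := 2000) h0 scan_at1000 rfl
  have h2 := forall_lt_step (b := 3000) h1 scan_at2000 rfl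
  have h3 := forall_lt_step (b := 4000) h2 scan_at3000 rfl
  have h4 := forall_lt_step (b := 5000) h3 scan_at4000 rfl
  have h5 := forall_lt_step (b := 6000) h4 scan_at5000 rfl
  have h6 := forall_lt_step (b := 7000) h5 scan_at6000 rfl
  have h7 := forall_lt_step (b := 8000) h6 scan_at7000 rfl
  have h8 := forall_lt_step (b := 9000) h7 scan_at8000 rfl
  have h9 := forall_lt_step (b := 10000) h8 scan_at9000 rfl
  have h10 := forall_lt_step (b := 11000) h9 scan_at10000 rfl
  have h11 := forall_lt_step (b := 12000) h10 scan_at11000 rfl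
  have h12 := forall_lt_step (b := 13000) h11 scan_at12000 rfl
  have h13 := forall_lt_step (b := 14000) h12 scan_at13000 rfl
  have h14 := forall_lt_step (b := 15000) h13 scan_at14000 rfl
  have h15 := forall_lt_step (b := 16000) h14 scan_at15000 rfl
  have h16 := forall_lt_step (b := 17000) h15 scan_at16000 rfl
  have h17 := forall_lt_step (b := 18000) h16 scan_at17000 rfl
  have h18 := forall_lt_step (b := 19000) h17 scan_at18000 rfl
  have h19 := forall_lt_step (b := 20000) h18 scan_at19000 rfl
  have h20 := forall_lt_step (b := 21000) h19 scan_at20000 rfl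
  have h21 := forall_lt_step (b := 22000) h20 scan_at21000 rfl
  have h22 := forall_lt_step (b := 23000) h21 scan_at22000 rfl
  have h23 := forall_lt_step (b := 24000) h22 scan_at23000 rfl
  have h24 := forall_lt_step (b := 25000) h23 scan_at24000 rfl
  have h25 := forall_lt_step (b := 26000) h24 scan_at25000 rfl
  have h26 := forall_lt_step (b := 27000) h25 scan_at26000 rfl
  have h27 := forall_lt_step (b := 28000) h26 scan_at27000 rfl
  have h28 := forall_lt_step (b := 29000) h27 scan_at28000 rfl
  have h29 := forall_lt_step (b := 30000) h28 scan_at29000 rfl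
  have h30 := forall_lt_step (b := 31000) h29 scan_at30000 rfl
  have h31 := forall_lt_step (b := 31672) h30 scan_at31000 rfl
  exact h31

end Cfsg.Agent.Fi24Rec.SwitchData
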