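import Cfsg.Agent.Fi24Rec.SwitchFacts
import Cfsg.Agent.Fi24Rec.SwitchScan

/-!
An element of order dividing three that fixes a pair of commuting transpositions `t, u` and five more
transpositions is a power of `kl`.
-/

set_option maxRecDepth 100000
set_option autoImplicit false

namespace Cfsg.Agent.Fi24Rec

open Cfsg.Agent.CosetCert Cfsg.Agent.Fi24
open SwitchData

/-- The row of a point. -/
def row (x : Nat) : Nat × List Nat := (rows.find? fun e => Nat.beq e.1 x).getD (0, [])

theorem row_ok (x : Nat) : wordOk (row x) = true := by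
  unfold row
  cases h : rows.find? fun e => Nat.beq e.1 x with
  | none => decide +kernel
  | some e => exact rows_ok (List.mem_of_find?_eq_some h)

/-- Is this a row? -/
noncomputable def inRows (x : Nat) : Bool := Nat.beq (row x).1 x

/-- The end of a path. -/
noncomputable def pathEnd (pa : List Nat) (p : Nat) : Nat :=
  pa.foldr (fun x q => Fi24Index.data.fwd (pal (row x).2) q) p

theorem seven_checks : ((ten.take 7).all fun e =>
    ([10790, 306473, 36964] : List Nat).all fun a => fixB (pal e.2) a) = true := by decide +kernel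

theorem class_checks : (classes.all fun e => decide (e.2.length ≤ 2) && e.2.all fun q =>
    decide (q < 306936) && fixB [1] q && fixB [11] q && Nat.beq (mask tenP q 0) e.1) = true := by decide +kernel

theorem row_checks : (rows.all fun r => (ten.any fun e => Nat.beq e.1 r.1) ||
    classes.any fun e => e.2.any fun q => Nat.beq q r.1) = true := by decide +kernel

theorem path_checks : (paths.all fun e => decide (e.2.2 < 306936) && inRows e.2.2 &&
    (e.2.1.all fun x => inRows x) && Nat.beq (pathEnd e.2.1 e.2.2) e.1) = true := by decide +kernel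

theorem chk_zero : chk 0 = true := by decide +kernel

/-- The check holds wherever the two base reflections fix. -/
theorem chk_all (q : Fin 306936) (hL : φ L q = q) (hA : φ (gen .a) q = q) : chk (q : Nat) = true := by
  have hA' : fixB [1] (q : Nat) = true := by
    have h := φ_word (w := [1]) (by decide) q
    rw [el_single (by norm_num), show gen (Fi24Index.dec 1).1 = gen .a from rfl, hA] at h
    rw [fixB, show ([1] : List Nat) = [1].reverse from rfl, ← h]
    exact Nat.beq_refl _
  rcases Fi24Suborbits.cls_cases (q : Nat) with h | h | h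
  · rw [Fi24Suborbits.cls_zero q.2 h]; exact chk_zero
  · obtain ⟨-, hget, -⟩ := Fi24Suborbits.place_spec q.2
    have hlt : Fi24Suborbits.place (q : Nat) < 31672 := by
      have h' : Fi24Suborbits.start (Fi24Suborbits.place (q : Nat)) = 1 := h
      rcases Fi24Suborbits.start_cases (Fi24Suborbits.place (q : Nat)) with ⟨-, e⟩ | ⟨-, e, -⟩ | ⟨-, e⟩
      · exact absurd (h'.symm.trans e) (by decide)
      · exact e
      · exact absurd (h'.symm.trans e) (by decide)
    have hs := scan_ok _ hlt
    rwa [scanAt, force_eq, hget, hA'] at hs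
  · exfalso
    obtain ⟨u, hu, hug⟩ := exists_root q (φ toK c0) (by rw [h]; exact root_points.2)
    have h3 : φ toK c0 = pt 3 := Fin.ext (root_points.2.trans rfl)
    rw [h3] at hug
    rw [← hug, ← Equiv.Perm.mul_apply, ← map_mul, ← L_comm hu, map_mul, Equiv.Perm.mul_apply] at hL
    have h' := congrArg Fin.val ((φ u).injective hL)
    have hw := φ_word (w := [11]) (by decide) (pt 3)
    rw [el_single (by norm_num), show gen (Fi24Index.dec 11).1 = L from rfl, h'] at hw
    revert hw
    decide +kernel

/-- Twice permuting three points and back at the third step. -/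
theorem three_perm {α : Type*} (f : α ≃ α) (h : ∀ x, f (f (f x)) = x) {a b c : α}
    (ha : f a = a ∨ f a = b ∨ f a = c) (hb : f b = a ∨ f b = b ∨ f b = c) (hc : f c = a ∨ f c = b ∨ f c = c)
    (hab : a ≠ b) (hac : a ≠ c) (hbc : b ≠ c) :
    (f a = a ∧ f b = b ∧ f c = c) ∨ (f a = b ∧ f b = c ∧ f c = a) ∨ (f a = c ∧ f b = a ∧ f c = b) := by
  have inj : ∀ {x y z : α}, f x = z → f y = z → x = y := fun hx hy => f.injective (hx.trans hy.symm)
  rcases ha with ha | ha | ha <;> rcases hb with hb | hb | hb <;> rcases hc with hc | hc | hc <;>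
    first
    | exact absurd (inj ha hb) hab
    | exact absurd (inj ha hc) hac
    | exact absurd (inj hb hc) hbc
    | exact Or.inl ⟨ha, hb, hc⟩
    | exact Or.inr (Or.inl ⟨ha, hb, hc⟩)
    | exact Or.inr (Or.inr ⟨ha, hb, hc⟩)
    | (have h0 := h a; rw [ha] at h0; simp only [ha, hb, hc] at h0; exact absurd h0 (by
        first | exact hab | exact hab.symm | exact hac | exact hac.symm | exact hbc | exact hbc.symm))
    | (have h0 := h b; simp only [ha, hb, hc] at h0; exact absurd h0 (by
        first | exact hab | exact hab.symm | exact hac | exact hac.symm | exact hbc | exact hbc.symm))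

theorem fix_pow {g : G} (h3 : g ^ 3 = 1) (x : Fin 306936) : φ g (φ g (φ g x)) = x := by
  rw [← Equiv.Perm.mul_apply, ← Equiv.Perm.mul_apply, ← map_mul, ← map_mul, ← pow_two, ← pow_succ, h3, map_one,
    Equiv.Perm.one_apply]

theorem move_fix {s r : G} {q : Fin 306936} (hc : Commute s r) (h : φ r q = q) : φ r (φ s q) = φ s q := by
  rw [← Equiv.Perm.mul_apply, ← map_mul, ← hc.eq, map_mul, Equiv.Perm.mul_apply, h]

/-- An element fixing the ten points is trivial. -/
theorem eq_one_of_ten {s : G} (h3 : s ^ 3 = 1) (hten : ∀ e ∈ ten, φ s (pt e.1) = pt e.1) : s = 1 := by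
  have hc : ∀ e ∈ ten, Commute s (T (pt e.1)) := fun e he => (commute_T_iff _ _).2 (hten e he)
  have hcA : Commute s (gen .a) := T_eight ▸ hc (8, _) (List.mem_cons_of_mem _ (List.mem_cons_of_mem _ (List.mem_cons_self ..)))
  have hcL : Commute s L := by
    have := hc (0, []) (List.mem_cons_self ..)
    rwa [show pt 0 = c0 from Fin.ext rfl, T_c0] at this
  have hmask : ∀ q : Fin 306936, mask tenP (φ s q : Nat) 0 = mask tenP (q : Nat) 0 := fun q => by
    refine mask_congr tenP (fun w hw => ?_) 0
    rw [tenP_eq, List.mem_map] at hw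
    obtain ⟨e, he, rfl⟩ := hw
    rw [Bool.eq_iff_iff, fixB_iff (ten_ok he), fixB_iff (ten_ok he)]
    refine ⟨fun h => ?_, fun h => move_fix (hc e he) h⟩
    have := move_fix (q := φ s q) (hc e he).inv_left h
    rwa [← Equiv.Perm.mul_apply (φ s⁻¹), ← map_mul, inv_mul_cancel, map_one, Equiv.Perm.one_apply] at this
  have hclass : ∀ e ∈ classes, ∀ q ∈ e.2, φ s (pt q) = pt q := by
    intro e he
    have h := List.all_eq_true.1 class_checks e he
    simp only [Bool.and_eq_true, decide_eq_true_eq, List.all_eq_true] at h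
    obtain ⟨hlen, hmem⟩ := h
    have himg : ∀ q ∈ e.2, ∃ q' ∈ e.2, φ s (pt q) = pt q' := by
      intro q hq
      obtain ⟨⟨⟨hlt, hA⟩, hL⟩, hm⟩ := hmem q hq
      have hfix : ∀ x, x < 12 → fixB [x] q = true → φ (gen (Fi24Index.dec x).1) (pt q) = pt q := fun x hx hb => by
        refine Fin.ext ?_
        rw [← el_single hx, φ_word (fun y hy => by rw [List.mem_singleton] at hy; omega), pt_val hlt]
        exact Nat.eq_of_beq_eq_true hb
      have hA' : φ (gen .a) (pt q) = pt q := hfix 1 (by norm_num) hA
      have hL' : φ L (pt q) = pt q := hfix 11 (by norm_num) hL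
      have hk := chk_all (φ s (pt q)) (move_fix hcL hL') (move_fix hcA hA')
      simp only [chk, force_eq, Bool.and_eq_true, List.all_eq_true] at hk
      have hk2 := hk.2 e he
      have heq : Nat.beq (mask tenP (φ s (pt q) : Nat) 0) e.1 = true := by rw [hmask, pt_val hlt]; exact hm
      rw [heq, cond_true, List.any_eq_true] at hk2
      obtain ⟨q', hq', hb⟩ := hk2
      exact ⟨q', hq', Fin.ext (by rw [pt_val (hmem q' hq').1.1.1]; exact Nat.eq_of_beq_eq_true hb)⟩
    intro q hq
    obtain ⟨q', hq', h1⟩ := himg q hq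
    by_contra hne
    rw [h1] at hne
    obtain ⟨q'', hq'', h2⟩ := himg q' hq'
    have htwo : q'' = q ∨ q'' = q' := by
      rcases hl : e.2 with _ | ⟨x, _ | ⟨y, _ | ⟨z, t⟩⟩⟩
      · simp [hl] at hq
      · simp [hl] at hq hq' hq''; exact Or.inl (hq''.trans hq.symm)
      · simp [hl] at hq hq' hq''
        rcases hq with rfl | rfl <;> rcases hq' with rfl | rfl <;> rcases hq'' with rfl | rfl <;>
          first | exact Or.inl rfl | exact Or.inr rfl | exact absurd rfl hne
      · simp [hl] at hlen
    rcases htwo with rfl | rfl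
    · have h0 := fix_pow h3 (pt q'')
      rw [h1, h2, h1] at h0
      exact hne h0
    · exact hne ((φ s).injective (h2.trans h1.symm))
  have hrow : ∀ x, inRows x = true → φ s (pt x) = pt x := by
    intro x hx
    have hx' : (row x).1 = x := Nat.eq_of_beq_eq_true hx
    unfold row at hx'
    cases hf : rows.find? fun e => Nat.beq e.1 x with
    | none =>
      rw [hf] at hx'
      simp only [Option.getD_none] at hx'
      exact hx' ▸ hten (0, []) (List.mem_cons_self ..)
    | some r =>
      have hr := List.all_eq_true.1 row_checks r (List.mem_of_find?_eq_some hf)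
      rw [hf] at hx'
      simp only [Option.getD_some] at hx'
      simp only [Bool.or_eq_true, List.any_eq_true] at hr
      rcases hr with ⟨e, he, hb⟩ | ⟨e, he, q, hq, hb⟩
      · rw [← hx', ← Nat.eq_of_beq_eq_true hb]; exact hten e he
      · rw [← hx', ← Nat.eq_of_beq_eq_true hb]; exact hclass e he q hq
  have hpath : ∀ (pa : List Nat) (p : Nat), p < 306936 → inRows p = true → (∀ x ∈ pa, inRows x = true) →
      pathEnd pa p < 306936 ∧ φ s (pt (pathEnd pa p)) = pt (pathEnd pa p) := by
    intro pa p hp hpr
    induction pa with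
    | nil => exact fun _ => ⟨hp, hrow p hpr⟩
    | cons x t ih =>
      intro h
      obtain ⟨hlt, hfix⟩ := ih fun y hy => h y (List.mem_cons_of_mem _ hy)
      have hx := h x (List.mem_cons_self ..)
      have hcomm : Commute s (T (pt x)) := (commute_T_iff _ _).2 (hrow x hx)
      have hv := (T_word (row_ok x) (pt (pathEnd t p))).2
      rw [pt_val hlt, show (row x).1 = x from Nat.eq_of_beq_eq_true hx] at hv
      have he : pathEnd (x :: t) p = (φ (T (pt x)) (pt (pathEnd t p)) : Nat) := hv
      refine ⟨he ▸ Fin.is_lt _, ?_⟩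
      rw [he, pt_eq, ← Equiv.Perm.mul_apply, ← map_mul, hcomm.eq, map_mul, Equiv.Perm.mul_apply, hfix]
  refine eq_one_of_central (fun x hx => ?_) h3
  obtain ⟨n, hn, hT⟩ := gen_points x hx
  obtain ⟨e, he, rfl⟩ := List.mem_map.1 hn
  have h := List.all_eq_true.1 path_checks e he
  simp only [Bool.and_eq_true, decide_eq_true_eq, List.all_eq_true] at h
  obtain ⟨⟨⟨h1, h2⟩, h3'⟩, h4⟩ := h
  have hfix := (hpath _ _ h1 h2 h3').2
  rw [Nat.eq_of_beq_eq_true h4] at hfix
  rw [← hT]
  exact ((commute_T_iff _ _).2 hfix).eq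

/-- The switch certificate in the frame of the base point. -/
theorem switch_frame {s : G} (h3 : s ^ 3 = 1) (hs : ∀ e ∈ ten.take 7, φ s (pt e.1) = pt e.1) :
    s ∈ Subgroup.zpowers (T (pt 306473) * T (pt 10790)) := by
  set a := pt 10790 with ha0
  set b := pt 306473 with hb0
  set c := pt 36964 with hc0
  have hne : a ≠ b ∧ a ≠ c ∧ b ≠ c := by
    refine ⟨?_, ?_, ?_⟩ <;> intro e <;> exact absurd (congrArg Fin.val e) (by decide)
  have hTe : ∀ {e : Nat × List Nat}, e ∈ ten.take 7 → ∀ n ∈ ([10790, 306473, 36964] : List Nat),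
      φ (T (pt e.1)) (pt n) = pt n := fun {e} he n hn => by
    have h := List.all_eq_true.1 (List.all_eq_true.1 seven_checks e he) n hn
    exact (fixB_iff (ten_ok (List.mem_of_mem_take he)) (pt n)).1 (by
      rw [pt_val (by fin_cases hn <;> norm_num)]; exact h)
  have hsc : ∀ e ∈ ten.take 7, Commute s (T (pt e.1)) := fun e he => (commute_T_iff _ _).2 (hs e he)
  have himg : ∀ n ∈ ([10790, 306473, 36964] : List Nat), φ s (pt n) = a ∨ φ s (pt n) = b ∨ φ s (pt n) = c := by
    intro n hn
    have hf : ∀ e ∈ ten.take 7, φ (T (pt e.1)) (φ s (pt n)) = φ s (pt n) :=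
      fun e he => move_fix (hsc e he) (hTe he n hn)
    have h0 := hf (0, []) (List.mem_cons_self ..)
    rw [show pt 0 = c0 from Fin.ext rfl, T_c0] at h0
    have h8 := hf (8, [0, 1, 11, 0]) (by decide)
    rw [T_eight] at h8
    have hk := chk_all _ h0 h8
    have hbit : ∀ x ∈ tenP.take 7, fixB x (φ s (pt n) : Nat) = fixB x 10790 := by
      intro x hx
      rw [tenP_eq, ← List.map_take, List.mem_map] at hx
      obtain ⟨e, he, rfl⟩ := hx
      rw [(fixB_iff (ten_ok (List.mem_of_mem_take he)) _).2 (hf e he)]
      exact ((fixB_iff (ten_ok (List.mem_of_mem_take he)) (pt 10790)).2 (hTe he 10790 (by decide))).symm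
    have hmask : Nat.land (mask tenP (φ s (pt n) : Nat) 0) 1016 = 1016 := by
      have hsplit : ∀ (u v : List (List Nat)) (q m : Nat), mask (u ++ v) q m = mask v q (mask u q m) := by
        intro u v q
        induction u with
        | nil => intro m; rfl
        | cons w t ih =>
          intro m
          show force _ (mask (t ++ v) q) = mask v q (force _ (mask t q))
          rw [force_eq, force_eq, ih]
      rw [← List.take_append_drop 7 tenP, hsplit, mask_congr (q' := 10790) _ hbit]
      rw [show mask (tenP.take 7) 10790 0 = 127 by decide +kernel]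
      rw [show tenP.drop 7 = [tenP[7]'(by decide), tenP[8]'(by decide), tenP[9]'(by decide)] by decide +kernel]
      simp only [mask, force_eq]
      cases fixB tenP[7] (φ s (pt n) : Nat) <;> cases fixB tenP[8] (φ s (pt n) : Nat) <;>
        cases fixB tenP[9] (φ s (pt n) : Nat) <;> decide
    simp only [chk, force_eq, Bool.and_eq_true] at hk
    have hk1 := hk.1
    rw [show Nat.beq (Nat.land (mask tenP (φ s (pt n) : Nat) 0) 1016) 1016 = true by rw [hmask]; rfl,
      cond_true, List.any_eq_true] at hk1
    obtain ⟨m, hm, hb⟩ := hk1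
    have hval : φ s (pt n) = pt m := by
      rw [← Nat.eq_of_beq_eq_true hb, pt_eq]
    have hn' : ∀ {e : Nat × List Nat}, e ∈ ten.take 7 → pt n ≠ pt e.1 → φ s (pt n) ≠ pt e.1 :=
      fun {e} he hne' h => hne' ((φ s).injective (h.trans (hs e he).symm))
    simp only [five, List.mem_cons, List.not_mem_nil, or_false] at hm
    rcases hm with rfl | rfl | rfl | rfl | rfl
    · exact absurd hval (hn' (e := (0, [])) (List.mem_cons_self ..) (by
        fin_cases hn <;> intro e <;> exact absurd (congrArg Fin.val e) (by decide)))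
    · exact absurd hval (hn' (e := ten[1]) (by decide) (by
        fin_cases hn <;> intro e <;> exact absurd (congrArg Fin.val e) (by decide)))
    · exact Or.inl hval
    · exact Or.inr (Or.inr hval)
    · exact Or.inr (Or.inl hval)
  have hall : ∀ {g : G}, g ^ 3 = 1 → (∀ e ∈ ten.take 7, φ g (pt e.1) = pt e.1) → φ g a = a → φ g b = b →
      φ g c = c → g = 1 := fun {g} hg h1 h2 h3' h4 => eq_one_of_ten hg fun e he => by
    rw [← List.take_append_drop 7 ten, List.mem_append] at he
    rcases he with he | he
    · exact h1 e he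
    · simp [ten] at he
      rcases he with rfl | rfl | rfl
      exacts [h2, h3', h4]
  set z := T b * T a with hz
  have hzv : φ z a = c ∧ φ z b = a ∧ φ z c = b ∧ φ (T b) a = c ∧ φ (T a) b = c := by
    have hv : ∀ (e : Nat × List Nat), e ∈ ten → ∀ n m, n < 306936 → m < 306936 →
        Fi24Index.data.fwd (pal e.2) n = m → φ (T (pt e.1)) (pt n) = pt m := by
      intro e he n m hn hm h
      exact Fin.ext (by rw [← (T_word (ten_ok he) (pt n)).2, pt_val hn, pt_val hm, h])
    have hA := hv ten[7] (List.getElem_mem _)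
    have hB := hv ten[8] (List.getElem_mem _)
    have e7 : pt (ten[7]).1 = a := rfl
    have e8 : pt (ten[8]).1 = b := rfl
    rw [e7] at hA
    rw [e8] at hB
    have a1 : φ (T a) a = a := hA 10790 10790 (by norm_num) (by norm_num) (by decide +kernel)
    have a2 : φ (T a) b = c := hA 306473 36964 (by norm_num) (by norm_num) (by decide +kernel)
    have a3 : φ (T a) c = b := hA 36964 306473 (by norm_num) (by norm_num) (by decide +kernel)
    have b1 : φ (T b) a = c := hB 10790 36964 (by norm_num) (by norm_num) (by decide +kernel)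
    have b2 : φ (T b) b = b := hB 306473 306473 (by norm_num) (by norm_num) (by decide +kernel)
    have b3 : φ (T b) c = a := hB 36964 10790 (by norm_num) (by norm_num) (by decide +kernel)
    refine ⟨?_, ?_, ?_, b1, a2⟩ <;>
      simp only [hz, map_mul, Equiv.Perm.mul_apply, a1, a2, a3, b1, b2, b3]
  obtain ⟨za, zb, zc, hTc, hTc'⟩ := hzv
  have hTc1 : T c = T b * T a * T b := by rw [← hTc, ← conj_T, T_inv]
  have hTc2 : T c = T a * T b * T a := by rw [← hTc', ← conj_T, T_inv]
  have hz3 : z ^ 3 = 1 := by
    calc z ^ 3 = (T b * T a * T b) * (T a * T b * T a) := by rw [hz]; simp only [pow_succ, pow_zero, one_mul, mul_assoc]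
      _ = 1 := by rw [← hTc1, ← hTc2, T_sq]
  have hz7 : ∀ e ∈ ten.take 7, φ z (pt e.1) = pt e.1 := fun e he => by
    rw [← commute_T_iff]
    exact ((commute_T_iff _ _).2 (hTe he 306473 (by decide))).symm.mul_left
      ((commute_T_iff _ _).2 (hTe he 10790 (by decide))).symm
  have hcz : (φ s a = b ∧ φ s b = c) ∨ (φ s a = c ∧ φ s b = a) → Commute s z := fun h => by
    show s * z = z * s
    rw [← mul_inv_eq_iff_eq_mul, hz, show s * (T b * T a) * s⁻¹ = s * T b * s⁻¹ * (s * T a * s⁻¹) by group,
      conj_T, conj_T]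
    rcases h with ⟨h1, h2⟩ | ⟨h1, h2⟩ <;> rw [h1, h2]
    · rw [hTc1, mul_assoc, T_sq, mul_one]
    · rw [hTc2, ← mul_assoc, ← mul_assoc, T_sq, one_mul]
  have hzz : z ∈ Subgroup.zpowers z := Subgroup.mem_zpowers z
  rcases three_perm (φ s) (fix_pow h3) (himg 10790 (by decide)) (himg 306473 (by decide)) (himg 36964 (by decide))
    hne.1 hne.2.1 hne.2.2 with ⟨h1, h2, h3'⟩ | ⟨h1, h2, h3'⟩ | ⟨h1, h2, h3'⟩
  · rw [hall h3 hs h1 h2 h3']; exact one_mem _
  · have hcm := hcz (Or.inl ⟨h1, h2⟩)
    have e : z * s = 1 := hall (by rw [hcm.symm.mul_pow, hz3, h3, one_mul])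
      (fun e he => by rw [map_mul, Equiv.Perm.mul_apply, hs e he, hz7 e he])
      (by rw [map_mul, Equiv.Perm.mul_apply, h1, zb]) (by rw [map_mul, Equiv.Perm.mul_apply, h2, zc])
      (by rw [map_mul, Equiv.Perm.mul_apply, h3', za])
    rw [eq_inv_of_mul_eq_one_right e]; exact inv_mem hzz
  · replace h1 : φ s a = c := h1
    replace h2 : φ s b = a := h2
    have hcm := hcz (Or.inr ⟨h1, h2⟩)
    have e : z * z * s = 1 := hall
      (by rw [(hcm.symm.mul_left hcm.symm).mul_pow, (Commute.refl z).mul_pow, hz3, h3, one_mul, one_mul])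
      (fun e he => by simp only [map_mul, Equiv.Perm.mul_apply, hs e he, hz7 e he])
      (by simp only [map_mul, Equiv.Perm.mul_apply, h1, zc, zb])
      (by simp only [map_mul, Equiv.Perm.mul_apply, h2, za, zc])
      (by simp only [map_mul, Equiv.Perm.mul_apply, h3', zb, za])
    rw [eq_inv_of_mul_eq_one_right e]; exact inv_mem (mul_mem hzz hzz)

/-- The seven transpositions `t, u` and five more, by their points. -/
def seven : List Nat := [306342, 306845, 285132, 306871, 302333, 302670, 306254]

theorem frame_checks : (seven.map fun n => Fi24Index.data.fwd gW.reverse n) = (ten.take 7).map Prod.fst ∧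
    Fi24Index.data.fwd gW.reverse 3 = 306473 ∧ Fi24Index.data.fwd gW.reverse 0 = 10790 ∧
    (gW.all fun x => decide (x < 12)) = true := by decide +kernel

/-- An element of order dividing three fixing the seven is a power of `kl`. -/
theorem switch {s : G} (h3 : s ^ 3 = 1) (hs : ∀ n ∈ seven, φ s (pt n) = pt n) :
    s ∈ Subgroup.zpowers (gen .k * L) := by
  obtain ⟨h7, hk, hl, hw⟩ := frame_checks
  set u := el gW with hu
  have hval : ∀ n m, n < 306936 → Fi24Index.data.fwd gW.reverse n = m → φ u (pt n) = pt m := by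
    intro n m hn h
    have h' := φ_word (lt_of_all hw) (pt n)
    rw [pt_val hn, h] at h'
    exact Fin.ext (by rw [h', pt_val (h' ▸ Fin.is_lt _)])
  have hmem := switch_frame (s := u * s * u⁻¹) (by rw [conj_pow, h3, mul_one, mul_inv_cancel]) fun e he => by
    have : e.1 ∈ seven.map fun n => Fi24Index.data.fwd gW.reverse n := h7 ▸ List.mem_map_of_mem he
    obtain ⟨n, hn, hne⟩ := List.mem_map.1 this
    have h1 := hval n e.1 (by
      simp only [seven, List.mem_cons, List.not_mem_nil, or_false] at hn
      rcases hn with rfl | rfl | rfl | rfl | rfl | rfl | rfl <;> norm_num) hne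
    rw [← h1, ← Equiv.Perm.mul_apply, ← map_mul, show u * s * u⁻¹ * u = u * s by group, map_mul,
      Equiv.Perm.mul_apply, hs n hn]
  rw [← hval 3 306473 (by norm_num) hk, ← hval 0 10790 (by norm_num) hl, ← conj_T, ← conj_T,
    show pt 0 = c0 from Fin.ext rfl, T_c0, T_three] at hmem
  obtain ⟨i, hi⟩ := Subgroup.mem_zpowers_iff.1 hmem
  refine Subgroup.mem_zpowers_iff.2 ⟨i, ?_⟩
  rw [show u * gen .k * u⁻¹ * (u * L * u⁻¹) = u * (gen .k * L) * u⁻¹ by group, conj_zpow] at hi
  exact mul_left_cancel (mul_right_cancel hi)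

/-- The same by commutation. -/
theorem switch_comm {s : G} (h3 : s ^ 3 = 1) (hs : ∀ n ∈ seven, Commute s (T (pt n))) :
    s ∈ Subgroup.zpowers (gen .k * L) :=
  switch h3 fun n hn => (commute_T_iff _ _).1 (hs n hn)

end Cfsg.Agent.Fi24Rec
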