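import Cfsg.Agent.Fi24Rec.SwitchData

/-! Generated: the words for the switch at `t, u` and at `i, j`. -/

set_option autoImplicit false
set_option maxRecDepth 100000

namespace Cfsg.Agent.Fi24Rec.SwitchData

/-- The point of `t`. -/
def tN : Nat := 306342

/-- The point of `u`. -/
def uN : Nat := 306845

/-- The point of `m`. -/
def mN : Nat := 285197

/-- The word `tu`. -/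
def rE : List Nat := [4, 7, 4, 8, 10, 5, 4, 9, 3, 6, 4, 7, 4, 8, 10, 5, 4, 9, 3, 6, 4, 7, 4, 8, 10, 5, 4, 9, 3, 6, 4, 7, 4, 8, 10, 5, 4, 9, 3, 6, 4, 7, 4, 8, 10, 5, 4, 9, 3, 6, 4, 7, 4, 8, 10, 5, 4, 9, 3, 6]

/-- The word carrying `t` to `m`. -/
def cE : List Nat := [5, 8, 7, 4, 3, 2]

/-- The word `q`. -/
def qE : List Nat := [1, 2, 3, 4, 5, 6, 1, 7, 4, 5, 3, 4, 7, 6, 5, 4, 3, 1, 2, 1, 2, 1, 3, 4, 5, 6, 7, 4, 3, 5, 4, 7, 8, 9, 10, 1]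

/-- Commuting pairs and the words carrying `t, u` to them. -/
def pairs : List ((Nat × Nat) × List Nat) :=
  [((285132, 245994), [9, 10, 5, 4, 7, 5, 6, 5, 3, 4, 3, 2]),
    ((306254, 285882), [7, 4, 5, 2, 3, 4, 7, 2]),
    ((302333, 295310), [7, 8, 9, 8, 2, 3, 4, 7, 3, 2]),
    ((302084, 302670), [9, 4, 7, 6, 3, 4, 5, 2, 3, 2]),
    ((306871, 306473), [8, 4, 7, 6])]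

/-- The word carrying `t, u` to `i, j`. -/
def gIJ : List Nat := [9, 8, 7, 5, 6, 2, 2, 3, 4, 5, 1, 2, 3, 4, 7, 8, 9, 10, 4, 5, 6, 3, 4, 5, 2, 3, 4, 7, 8, 9, 3, 4, 5, 2, 3, 4, 7, 8, 3, 4, 5, 2, 3, 4, 7, 6, 5, 4, 3, 2, 1, 2, 3, 4, 5, 6, 7, 4, 3, 2, 5, 4, 3, 8, 7, 4, 3, 2, 5, 4, 3, 9, 8, 7, 4, 3, 2, 5, 4, 3, 6, 5, 4, 10, 9, 8, 7, 4, 3, 2, 1, 5, 4, 3, 2, 2, 5, 2]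

/-- Words for the points used. -/
def pointWords : List (Nat × List Nat) :=
  [(316, [0, 1, 2, 3, 4, 5, 6, 11, 0, 1, 2, 3, 4, 5]),
    (1307, [0, 1, 2, 3, 4, 7, 8, 9, 10, 11, 0, 1, 2, 3, 4, 7, 8, 9]),
    (245994, [0, 1, 2, 3, 4, 5, 6, 7, 4, 3, 2, 1, 0, 5, 4, 7, 8, 7, 4, 3, 2, 1, 5, 4, 7, 9, 8, 7, 4, 3, 5, 4, 6, 5, 10, 9, 8, 7, 4, 3, 2, 1]),
    (285132, [0, 1, 2, 3, 4, 5, 6, 7, 4, 3, 2, 1, 0, 5, 4, 3, 8, 7, 4, 3, 2, 5, 4, 7, 9, 8, 7, 4, 3, 2, 5, 4, 6, 5, 10, 9, 8, 7, 4, 3, 2, 1, 5, 4]),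
    (285197, [0, 1, 2, 3, 4, 5, 6, 7, 4, 3, 2, 1, 0, 5, 4, 3, 8, 7, 4, 3, 2, 5, 4, 9, 8, 7, 4, 3, 2, 1, 5, 4, 3, 2, 6, 5, 10, 9, 8, 7, 4, 3, 2, 1]),
    (285882, [0, 1, 2, 3, 4, 5, 6, 7, 4, 3, 2, 1, 0, 5, 4, 8, 7, 4, 3, 2, 5, 4, 3, 9, 8, 7, 4, 3, 5, 4, 6, 5, 7, 10, 9, 8, 7, 4, 3, 2, 1, 5, 4, 6]),
    (295310, [0, 1, 2, 3, 4, 5, 6, 7, 4, 3, 2, 5, 4, 8, 7, 4, 3, 2, 5, 4, 9, 8, 7, 4, 3, 2, 5, 4, 3, 6, 5, 7, 10, 9, 8, 7, 4, 3, 2, 5, 6, 11, 0, 1]),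
    (302084, [0, 1, 2, 3, 4, 5, 6, 7, 4, 3, 2, 1, 0, 5, 4, 3, 8, 7, 4, 3, 2, 1, 5, 4, 9, 8, 7, 4, 3, 2, 5, 4, 3, 6, 5, 10, 9, 8, 7, 4, 3, 2, 1, 5, 4, 3]),
    (302333, [0, 1, 2, 3, 4, 5, 6, 7, 4, 3, 2, 1, 0, 5, 4, 7, 8, 7, 4, 3, 2, 1, 5, 4, 7, 9, 8, 7, 4, 3, 5, 4, 6, 5, 10, 9, 8, 7, 4, 3, 2, 1, 5, 4, 6, 5]),
    (302670, [0, 1, 2, 3, 4, 5, 6, 7, 4, 3, 2, 1, 0, 5, 4, 8, 7, 4, 3, 2, 5, 4, 3, 9, 8, 7, 4, 3, 5, 4, 6, 5, 10, 9, 8, 7, 4, 3, 2, 1, 5, 4, 3, 6, 7, 8]),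
    (306254, [0, 1, 2, 3, 4, 5, 6, 7, 4, 3, 2, 1, 0, 5, 4, 3, 8, 7, 4, 3, 2, 5, 4, 6, 7, 9, 8, 7, 4, 3, 5, 4, 6, 5, 10, 9, 8, 7, 4, 3, 2, 1, 5, 4, 7, 8, 9, 10]),
    (306342, [0, 1, 2, 3, 4, 5, 6, 7, 4, 3, 2, 1, 0, 5, 4, 7, 8, 7, 4, 3, 2, 5, 4, 3, 9, 8, 7, 4, 3, 2, 5, 4, 3, 6, 5, 4, 10, 9, 8, 7, 4, 3, 2, 1, 5, 4, 3, 2]),
    (306473, [0, 1, 2, 3, 4, 5, 6, 7, 4, 3, 2, 1, 0, 5, 4, 8, 7, 4, 3, 2, 5, 4, 3, 9, 8, 7, 4, 3, 2, 5, 4, 6, 5, 7, 4, 3, 10, 9, 8, 7, 4, 3, 2, 1, 5, 4, 3, 2]),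
    (306845, [0, 1, 2, 3, 4, 5, 6, 7, 4, 3, 2, 1, 0, 5, 4, 3, 8, 7, 4, 3, 2, 1, 5, 4, 9, 8, 7, 4, 3, 5, 4, 6, 5, 10, 9, 8, 7, 4, 3, 2, 1, 5, 4, 3, 6, 5, 7, 4, 3, 2]),
    (306871, [0, 1, 2, 3, 4, 5, 6, 7, 4, 3, 2, 1, 0, 5, 4, 3, 8, 7, 4, 3, 2, 5, 4, 7, 9, 8, 7, 4, 3, 5, 4, 6, 5, 7, 4, 10, 9, 8, 7, 4, 3, 2, 1, 5, 4, 3, 2, 7, 4, 5])]

end Cfsg.Agent.Fi24Rec.SwitchData
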