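import Cfsg.Agent.Fi24Rec.Base
import Cfsg.Agent.Fi24Rec.Switch
import Cfsg.Agent.Fi24Rec.SwitchWordsData
import Cfsg.Agent.Fi24Out.Pairs

/-!
The switch at the pair `t, u` and at the pair `i, j`: an element of order dividing three commuting with
the pair and with a few words is a power of `kl`.
-/

set_option maxRecDepth 100000
set_option autoImplicit false

namespace Cfsg.Agent.Fi24Rec

open Cfsg.Agent.CosetCert Cfsg.Agent.Fi24
open SwitchData

/-- The letters of the nine nodes commuting with `k` and `l`. -/
def nineLetters : List Nat := [2, 3, 4, 5, 6, 7, 8, 9, 10]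

/-- The transposition `t`. -/
noncomputable def tE : GF := T (pt tN)

/-- The transposition `u`. -/
noncomputable def uE : GF := T (pt uN)

/-- The transposition `m`. -/
noncomputable def mE : GF := T (pt mN)

/-- The element `kl`. -/
noncomputable abbrev sK : GF := gen .k * L

/-- The words for the switch at `t, u`. -/
def tuWords : List (List Nat) := pairs.map fun e => e.2 ++ rE ++ e.2.reverse

/-- The words for the switch at `i, j`. -/
def ijWords : List (List Nat) := tuWords.map fun w => gIJ ++ w ++ gIJ.reverse

/-- The points of the twelve generators. -/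
def genPts : List Nat := 3 :: paths.map Prod.fst

/-- An element is known by its values at the points of the generators. -/
theorem ext_points {g h : GF} (hp : ∀ n ∈ genPts, φ g (pt n) = φ h (pt n)) : g = h := by
  refine inv_mul_eq_one.1 ?_
  set c := g⁻¹ * h with hc0
  have hfix : ∀ n ∈ genPts, φ c (pt n) = pt n := fun n hn => by
    rw [hc0, map_mul, Equiv.Perm.mul_apply, ← hp n hn, ← Equiv.Perm.mul_apply, ← map_mul,
      inv_mul_cancel, map_one, Equiv.Perm.one_apply]
  have hgen : ∀ x, Commute c (gen x) := fun x => by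
    by_cases hx : x = .k
    · subst hx
      exact T_three ▸ (commute_T_iff _ _).2 (hfix 3 (List.mem_cons_self ..))
    · obtain ⟨n, hn, hT⟩ := gen_points x hx
      exact hT ▸ (commute_T_iff _ _).2 (hfix n (List.mem_cons_of_mem _ hn))
  have hall : ∀ u : GF, Commute c u := fun u => by
    have hu : u ∈ Subgroup.closure (Set.range (gen : _ → GF)) :=
      (PresentedGroup.closure_range_of Fi24.R).symm ▸ Subgroup.mem_top u
    induction hu using Subgroup.closure_induction with
    | mem v hv => obtain ⟨x, rfl⟩ := hv; exact hgen x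
    | one => exact Commute.one_right _
    | mul a b _ _ ha hb => exact ha.mul_right hb
    | inv a _ ha => exact ha.inv_right
  have h0 : φ c c0 = c0 := (commute_T_iff _ _).1 (by rw [T_c0]; exact hall _)
  refine φ_injective (Equiv.ext fun q => ?_)
  obtain ⟨u, rfl⟩ := transitive q
  rw [← Equiv.Perm.mul_apply, ← map_mul, (hall u).eq, map_mul, Equiv.Perm.mul_apply, h0, map_one,
    Equiv.Perm.one_apply]

/-- Does a word fix a point, or carry it to another? -/
noncomputable def carries (w : List Nat) (a b : Nat) : Bool :=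
  (w.all fun x => decide (x < 12)) && decide (a < 306936) && Nat.beq (Fi24Index.data.fwd w.reverse a) b

theorem φ_carries {w : List Nat} {a b : Nat} (h : carries w a b = true) : φ (el w) (pt a) = pt b := by
  simp only [carries, Bool.and_eq_true, decide_eq_true_eq] at h
  obtain ⟨⟨h1, h2⟩, h3⟩ := h
  have h' := φ_word (lt_of_all h1) (pt a)
  rw [pt_val h2, Nat.eq_of_beq_eq_true h3] at h'
  rw [← h', pt_eq]

theorem conj_carries {w : List Nat} {a b : Nat} (h : carries w a b = true) :
    el w * T (pt a) * (el w)⁻¹ = T (pt b) := by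
  rw [conj_T, φ_carries h]

theorem commute_carries {w : List Nat} {a : Nat} (h : carries w a a = true) : Commute (el w) (T (pt a)) :=
  (commute_T_iff _ _).2 (φ_carries h)

/-- The word of a point used. -/
def wordOf (p : Nat) : List Nat := ((pointWords.find? fun e => Nat.beq e.1 p).getD (0, [])).2

theorem T_carries {p : Nat} {a : Nat} {b : Nat} (hp : wordOk (p, wordOf p) = true)
    (h : carries (pal (wordOf p)) a b = true) : φ (T (pt p)) (pt a) = pt b := by
  rw [(T_word hp (pt a)).1]; exact φ_carries h

theorem points_ok : (([tN, uN, mN, 316, 1307] : List Nat).all fun p => wordOk (p, wordOf p)) = true := by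
  decide +kernel

theorem point_ok {p : Nat} (h : p ∈ ([tN, uN, mN, 316, 1307] : List Nat)) : wordOk (p, wordOf p) = true :=
  List.all_eq_true.1 points_ok p h

/-- A transposition is a word. -/
theorem T_eq_word {p : Nat} {w : List Nat} (hp : wordOk (p, wordOf p) = true)
    (h : (genPts.all fun n => carries (pal (wordOf p)) n (Fi24Index.data.fwd w.reverse n) &&
      carries w n (Fi24Index.data.fwd w.reverse n)) = true) : T (pt p) = el w :=
  ext_points fun n hn => by
    have h' := List.all_eq_true.1 h n hn
    simp only [Bool.and_eq_true] at h'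
    rw [T_carries hp h'.1, φ_carries h'.2]

theorem T_i : T (pt 316) = gen .i := by
  rw [T_eq_word (w := [6]) (point_ok (by simp)) (by decide +kernel), el_single (by norm_num)]
  rfl

theorem T_j : T (pt 1307) = gen .j := by
  rw [T_eq_word (w := [10]) (point_ok (by simp)) (by decide +kernel), el_single (by norm_num)]
  rfl

theorem tE_mem : tE ∈ D := T_mem _
theorem uE_mem : uE ∈ D := T_mem _
theorem mE_mem : mE ∈ D := T_mem _

theorem kl_checks : (([tN, uN, mN] : List Nat).all fun p =>
    carries (pal (wordOf p)) 0 0 && carries (pal (wordOf p)) 3 3) = true := by decide +kernel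

theorem comm_L_k {p : Nat} (h : p ∈ ([tN, uN, mN] : List Nat)) :
    Commute (T (pt p)) L ∧ Commute (T (pt p)) (gen .k) := by
  have h' := List.all_eq_true.1 kl_checks p h
  simp only [Bool.and_eq_true] at h'
  have hp : wordOk (p, wordOf p) = true := point_ok (by
    simp only [List.mem_cons, List.not_mem_nil, or_false] at h ⊢
    rcases h with rfl | rfl | rfl <;> simp)
  refine ⟨?_, ?_⟩
  · rw [← T_c0, show c0 = pt 0 from Fin.ext rfl]
    exact (commute_T_iff _ _).2 (T_carries hp h'.1)
  · rw [← T_three]
    exact (commute_T_iff _ _).2 (T_carries hp h'.2)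

theorem tE_comm_L : Commute tE L := (comm_L_k (p := tN) (by simp)).1
theorem tE_comm_k : Commute tE (gen .k) := (comm_L_k (p := tN) (by simp)).2
theorem uE_comm_L : Commute uE L := (comm_L_k (p := uN) (by simp)).1
theorem uE_comm_k : Commute uE (gen .k) := (comm_L_k (p := uN) (by simp)).2
theorem mE_comm_L : Commute mE L := (comm_L_k (p := mN) (by simp)).1
theorem mE_comm_k : Commute mE (gen .k) := (comm_L_k (p := mN) (by simp)).2

theorem T_ne {a b : Nat} (ha : a < 306936) (hb : b < 306936) (h : a ≠ b) : T (pt a) ≠ T (pt b) := fun e => h (by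
  rw [← pt_val ha, T_injective e, pt_val hb])

theorem T_ne_L' {a : Nat} (ha : a < 306936) (h : a ≠ 0) : T (pt a) ≠ L := by
  rw [← T_c0, show c0 = pt 0 from Fin.ext rfl]; exact T_ne ha (by norm_num) h

theorem tE_ne_L : tE ≠ L := T_ne_L' (a := tN) (by decide) (by decide)
theorem uE_ne_L : uE ≠ L := T_ne_L' (a := uN) (by decide) (by decide)
theorem mE_ne_L : mE ≠ L := T_ne_L' (a := mN) (by decide) (by decide)
theorem tE_ne_uE : tE ≠ uE := T_ne (a := tN) (b := uN) (by decide) (by decide) (by decide)

theorem tE_comm_uE : Commute tE uE :=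
  (commute_T_iff _ _).2 (T_carries (p := tN) (a := uN) (b := uN) (point_ok (by simp)) (by decide +kernel))

theorem r_checks : (genPts.all fun n =>
    carries (pal (wordOf uN)) n (Fi24Index.data.fwd (pal (wordOf uN)).reverse n) &&
    carries (pal (wordOf tN)) (Fi24Index.data.fwd (pal (wordOf uN)).reverse n) (Fi24Index.data.fwd rE.reverse n) &&
    carries rE n (Fi24Index.data.fwd rE.reverse n)) = true := by decide +kernel

theorem el_rE : el rE = tE * uE := ext_points fun n hn => by
  have h := List.all_eq_true.1 r_checks n hn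
  simp only [Bool.and_eq_true] at h
  rw [map_mul, Equiv.Perm.mul_apply, uE, tE, T_carries (p := uN) (point_ok (by simp)) h.1.1,
    T_carries (p := tN) (point_ok (by simp)) h.1.2, φ_carries h.2]

theorem rE_letters : ∀ x ∈ rE, x ∈ nineLetters := by decide
theorem rE_even : rE.length % 2 = 0 := by decide
theorem cE_letters : ∀ x ∈ cE, x ∈ nineLetters := by decide

theorem cE_conj : el cE * tE * (el cE)⁻¹ = mE :=
  conj_carries (w := cE) (a := tN) (b := mN) (by decide +kernel)

theorem qE_letters : ∀ x ∈ qE, 1 ≤ x ∧ x < 12 := by decide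

theorem qE_comm : Commute (el qE) mE := commute_carries (w := qE) (a := mN) (by decide +kernel)

theorem sign_el_even : ∀ {w : List Nat}, (∀ x ∈ w, x < 12) → w.length % 2 = 0 → sign (el w) = 1
  | [], _, _ => by rw [el_nil, map_one]
  | [_], _, h => absurd h (by simp)
  | x :: y :: t, hw, h => by
    rw [show x :: y :: t = [x] ++ ([y] ++ t) from rfl, el_append, el_append, el_single (hw x (by simp)),
      el_single (hw y (by simp)), map_mul, map_mul, sign_gen, sign_gen,
      sign_el_even (w := t) (fun z hz => hw z (by simp [hz])) (by simp only [List.length_cons] at h; omega)]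
    decide

theorem tuWords_checks : (tuWords.all fun w => (w.all fun x => nineLetters.contains x) &&
    decide (w.length % 2 = 0) && carries w tN tN && carries w uN uN) = true := by decide +kernel

theorem tuWords_spec {w : List Nat} (hw : w ∈ tuWords) : (∀ x ∈ w, x ∈ nineLetters) ∧ w.length % 2 = 0 ∧
    Commute (el w) tE ∧ Commute (el w) uE := by
  have h := List.all_eq_true.1 tuWords_checks w hw
  simp only [Bool.and_eq_true, decide_eq_true_eq, List.all_eq_true, List.contains_iff_mem] at h
  exact ⟨h.1.1.1, h.1.1.2, commute_carries h.1.2, commute_carries h.2⟩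

theorem pairs_checks : (pairs.all fun e => carries e.2 tN e.1.1 && carries e.2 uN e.1.2 &&
    decide (e.1.1 < 306936 ∧ e.1.2 < 306936 ∧ e.1.1 ≠ e.1.2)) = true := by decide +kernel

theorem seven_cover : (seven.all fun n => Nat.beq n tN || Nat.beq n uN ||
    pairs.any fun e => Nat.beq n e.1.1 || Nat.beq n e.1.2) = true := by decide +kernel

/-- An element of order dividing three commuting with the product of two commuting transpositions fixes
them. -/
theorem fix_of_comm_prod {s : GF} (h3 : s ^ 3 = 1) {a b : Fin 306936} (hab : a ≠ b)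
    (hc : Commute (T a) (T b)) (h : Commute s (T a * T b)) : φ s a = a ∧ φ s b = b := by
  have e : T (φ s a) * T (φ s b) = T a * T b := by
    rw [← conj_T, ← conj_T, show s * T a * s⁻¹ * (s * T b * s⁻¹) = s * (T a * T b) * s⁻¹ by group, h.eq,
      mul_inv_cancel_right]
  have hc' : Commute (T (φ s a)) (T (φ s b)) := by
    rw [← conj_T, ← conj_T, Commute.conj_iff]; exact hc
  have nab : T a ≠ T b := fun e => hab (T_injective e)
  have ha := Fi24Out.pair_unique (T_mem _) (T_mem _) (T_mem a) (T_mem b) hc' hc nab e
  have hb := Fi24Out.pair_unique (T_mem _) (T_mem _) (T_mem a) (T_mem b) hc'.symm hc nab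
    (hc'.eq.symm.trans e)
  have hs := fix_pow h3
  rcases ha with ha | ha <;> rcases hb with hb | hb
  · exact absurd ((φ s).injective (T_injective (ha.trans hb.symm))) hab
  · exact ⟨T_injective ha, T_injective hb⟩
  · have h0 := hs a
    rw [T_injective ha, T_injective hb, T_injective ha] at h0
    exact absurd h0.symm hab
  · exact absurd ((φ s).injective (T_injective (ha.trans hb.symm))) hab

/-- The switch at `t, u`. -/
theorem switch_tu : ∀ s : GF, sign s = 1 → Commute s tE → Commute s uE → s ^ 3 = 1 →
    (∀ w ∈ tuWords, Commute s (el w)) → s ∈ Subgroup.zpowers sK := by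
  intro s _ ht hu h3 hw
  refine switch h3 fun n hn => ?_
  have hpair : ∀ e ∈ pairs, φ s (pt e.1.1) = pt e.1.1 ∧ φ s (pt e.1.2) = pt e.1.2 := by
    intro e he
    have h := List.all_eq_true.1 pairs_checks e he
    simp only [Bool.and_eq_true, decide_eq_true_eq] at h
    obtain ⟨⟨h1, h2⟩, ha, hb, hne⟩ := h
    have hl : ∀ x ∈ e.2, x < 12 := by
      simp only [carries, Bool.and_eq_true] at h1; exact lt_of_all h1.1.1
    refine fix_of_comm_prod h3 (fun e' => hne (by rw [← pt_val ha, e', pt_val hb])) ?_ ?_
    · rw [← conj_carries h1, ← conj_carries h2, Commute.conj_iff]; exact tE_comm_uE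
    · have h' := hw _ (List.mem_map_of_mem (f := fun e : (Nat × Nat) × List Nat => e.2 ++ rE ++ e.2.reverse) he)
      rwa [el_append, el_append, el_reverse hl, el_rE,
        show el e.2 * (tE * uE) * (el e.2)⁻¹ = el e.2 * tE * (el e.2)⁻¹ * (el e.2 * uE * (el e.2)⁻¹) by group,
        show el e.2 * tE * (el e.2)⁻¹ = _ from conj_carries h1,
        show el e.2 * uE * (el e.2)⁻¹ = _ from conj_carries h2] at h'
  have h := List.all_eq_true.1 seven_cover n hn
  simp only [Bool.or_eq_true, List.any_eq_true] at h
  rcases h with (h | h) | ⟨e, he, h | h⟩ <;> rw [Nat.eq_of_beq_eq_true h]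
  · exact (commute_T_iff _ _).1 ht
  · exact (commute_T_iff _ _).1 hu
  · exact (hpair e he).1
  · exact (hpair e he).2

theorem gIJ_checks : (gIJ.all fun x => decide (1 ≤ x ∧ x < 12)) = true ∧
    carries gIJ tN 316 = true ∧ carries gIJ uN 1307 = true ∧
    carries gIJ 0 0 = true ∧ carries gIJ 3 3 = true := by decide +kernel

theorem ijWords_checks : (ijWords.all fun w => (w.all fun x => decide (1 ≤ x ∧ x < 12)) &&
    decide (w.length % 2 = 0) && carries w 316 316 && carries w 1307 1307 &&
    carries w 0 0 && carries w 3 3) = true := by decide +kernel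

theorem ijWords_spec {w : List Nat} (hw : w ∈ ijWords) : (∀ x ∈ w, 1 ≤ x ∧ x < 12) ∧ sign (el w) = 1 ∧
    Commute (el w) (gen .i) ∧ Commute (el w) (gen .j) ∧ Commute (el w) L ∧ Commute (el w) (gen .k) := by
  have h := List.all_eq_true.1 ijWords_checks w hw
  simp only [Bool.and_eq_true, decide_eq_true_eq, List.all_eq_true] at h
  obtain ⟨⟨⟨⟨⟨hl, he⟩, hi⟩, hj⟩, h0⟩, h3⟩ := h
  exact ⟨hl, sign_el_even (fun x hx => (hl x hx).2) he, T_i ▸ commute_carries hi,
    T_j ▸ commute_carries hj,
    by rw [← T_c0, show c0 = pt 0 from Fin.ext rfl]; exact commute_carries h0,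
    T_three ▸ commute_carries h3⟩

/-- The switch at `i, j`. -/
theorem switch_ij : ∀ s : GF, sign s = 1 → Commute s (gen .i) → Commute s (gen .j) → s ^ 3 = 1 →
    (∀ w ∈ ijWords, Commute s (el w)) → s ∈ Subgroup.zpowers sK := by
  intro s hs hi hj h3 hw
  obtain ⟨hl, ht, hu, h0, hk⟩ := gIJ_checks
  have hl' : ∀ x ∈ gIJ, x < 12 := fun x hx => (of_decide_eq_true (List.all_eq_true.1 hl x hx)).2
  set g := el gIJ with hg
  have hgK : Commute g sK := by
    refine Commute.mul_right (T_three ▸ commute_carries hk) ?_
    rw [← T_c0, show c0 = pt 0 from Fin.ext rfl]; exact commute_carries h0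
  set s' := g⁻¹ * s * g with hs'
  have hback : s = g * s' * g⁻¹ := by rw [hs']; group
  have hconj : ∀ {x : GF}, Commute s (g * x * g⁻¹) → Commute s' x := fun {x} h => by
    rwa [hback, Commute.conj_iff] at h
  have hmem := switch_tu s' (by rw [hs', map_mul, map_mul, hs, mul_one, ← map_mul, inv_mul_cancel, map_one])
    (hconj (by rw [show g * tE * g⁻¹ = _ from conj_carries ht, T_i]; exact hi))
    (hconj (by rw [show g * uE * g⁻¹ = _ from conj_carries hu, T_j]; exact hj))
    (by rw [hback, conj_pow] at h3
        simpa [mul_inv_eq_one] using h3)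
    fun w hw' => hconj (by
      have h := hw _ (List.mem_map_of_mem (f := fun w => gIJ ++ w ++ gIJ.reverse) hw')
      rwa [el_append, el_append, el_reverse hl'] at h)
  obtain ⟨n, hn⟩ := Subgroup.mem_zpowers_iff.1 hmem
  refine Subgroup.mem_zpowers_iff.2 ⟨n, ?_⟩
  rw [hback, ← hn, (hgK.zpow_right n).eq, mul_inv_cancel_right]

end Cfsg.Agent.Fi24Rec
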