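import Cfsg.Agent.Fi24Rec.Glue
import Cfsg.Agent.Fi24Rec.SwitchWords
import Cfsg.Agent.Fi24Rec.SpiderWord

/-!
The sections over `l`, `j`, `i` and a member of a second class of common partners of `l` and `k`
make lifts of the twelve generators into the group of pairs satisfying every relation of Fi24, so the
section over `l` extends to the whole even part.
-/

set_option autoImplicit false
set_option maxRecDepth 100000

namespace Cfsg.Agent.Fi24Rec

open Cfsg Cfsg.Agent
open Cfsg.Agent.Fi24 (L gen el sign H D R)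
open Cfsg.Agent.Fi24Mult (K fixG fixG_sign fixG_mul fixG_mem_K fixG_gen Tw comm_of_lab lab gen_rel)
open Cfsg.Agent.CosetCert
open Cfsg.Spor.Fi24 (Gen)

/-- The generator of a number. -/
abbrev letter (x : Nat) : Gen := (Fi24Index.dec x).1

theorem nine_spec : ∀ x ∈ nineLetters,
    lab (letter x) .k = 2 ∧ lab (letter x) .l = 2 ∧ letter x ≠ .k ∧ x < 12 := by decide

theorem letter_ne {x : Nat} (hx : x < 12) : (x ≠ 9 → letter x ≠ .g) ∧ (1 ≤ x → letter x ≠ .k) := by
  revert x; decide

theorem revW_g : ∀ x ∈ revW, lab (letter x) .g = 2 := by decide +kernel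

theorem comm_j {x : Gen} (hx : x ≠ .g) : Commute (gen x) (gen .j) := by
  by_cases hj : x = .j
  · subst hj; exact Commute.refl _
  exact comm_of_lab (by cases x <;> first | exact absurd rfl hx | exact absurd rfl hj | decide)

theorem comm_i {x : Gen} (hx : x ≠ .h) : Commute (gen x) (gen .i) := by
  by_cases hi : x = .i
  · subst hi; exact Commute.refl _
  exact comm_of_lab (by cases x <;> first | exact absurd rfl hx | exact absurd rfl hi | decide)

theorem gen_i_ne_j : gen Gen.i ≠ gen .j := fun h =>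
  T_ne (a := 316) (b := 1307) (by norm_num) (by norm_num) (by norm_num) (by rw [T_i, T_j, h])

theorem layer_i : Layer (gen .i) :=
  ⟨Fi24.isConj_L .i, T_i ▸ T_ne_L' (a := 316) (by norm_num) (by norm_num),
    comm_of_lab (x := Gen.i) (y := .l) (by decide)⟩

theorem layer_t : Layer tE := ⟨tE_mem, tE_ne_L, tE_comm_L⟩
theorem layer_u : Layer uE := ⟨uE_mem, uE_ne_L, uE_comm_L⟩
theorem layer_m : Layer mE := ⟨mE_mem, mE_ne_L, mE_comm_L⟩

theorem kL_ne_one : kL ≠ 1 := fun h => Fi24.k_not_comm (by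
  rw [mul_eq_one_iff_eq_inv.1 h, Fi24.gen_inv])

theorem el_mem_H : ∀ {w : List Nat}, (∀ x ∈ w, 1 ≤ x ∧ x < 12) → el w ∈ H := by
  intro w
  induction w with
  | nil => intro _; rw [Fi24.el_nil]; exact one_mem _
  | cons x t ih =>
    intro hw
    obtain ⟨h1, h12⟩ := hw x (List.mem_cons_self ..)
    rw [el_cons h12]
    exact mul_mem (Fi24.gen_mem (by interval_cases x <;> decide))
      (ih fun y hy => hw y (List.mem_cons_of_mem _ hy))

theorem oddB_false {g : GF} (h : sign g = 1) : oddB g = false := by simp [oddB, h]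

theorem oddB_gen (x : Gen) : oddB (gen x) = true := by simp [oddB, Fi24.sign_gen]

theorem oddB_inv (g : GF) : oddB g⁻¹ = oddB g := by
  have h := oddB_mul g⁻¹ g
  rw [inv_mul_cancel, oddB_false (map_one _)] at h
  revert h
  cases oddB g⁻¹ <;> cases oddB g <;> decide

variable {G : Type*} [Group G] {phi : ↥(K L) →* G}

theorem IsRho.conj_kL {v : GF} {r : ↥(K v) →* G} (hr : IsRho phi v r) (hv : Layer v)
    (hk : Commute (gen .k) v) {g : GF} (hL : g ∈ K L) (hg : g ∈ K v) {s : GF} (hs : s ∈ K v)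
    (e : g * kL * g⁻¹ = s) :
    phi ⟨g, hL⟩ * r ⟨kL, kL_mem hv hk⟩ * (phi ⟨g, hL⟩)⁻¹ = r ⟨s, hs⟩ := by
  rw [← hr.ext g hg hL, ← map_inv, ← map_mul, ← map_mul]
  exact congrArg r (Subtype.ext e)

theorem IsRho.comm_kL {v : GF} {r : ↥(K v) →* G} (hr : IsRho phi v r) (hv : Layer v)
    (hk : Commute (gen .k) v) {g : GF} (hL : g ∈ K L) (hg : g ∈ K v) (hc : Commute g kL) :
    Commute (r ⟨kL, kL_mem hv hk⟩) (phi ⟨g, hL⟩) :=
  (mul_inv_eq_iff_eq_mul.1
    (hr.conj_kL hv hk hL hg (kL_mem hv hk) (mul_inv_eq_iff_eq_mul.2 hc.eq))).symm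

/-- The value at `kl` of a section. -/
def Good (phi : ↥(K L) →* G) (S : G) (v : GF) : Prop :=
  ∃ (hv : Layer v) (hk : Commute (gen .k) v) (r : ↥(K v) →* G),
    IsRho phi v r ∧ r ⟨kL, kL_mem hv hk⟩ = S

/-- A word in the nine nodes commuting with `k` and `l`, and what its image does to the element. -/
def Flips (phi : ↥(K L) →* G) (S : G) (u : GF) : Prop :=
  u ∈ H ∧ Commute u (gen .k) ∧ ∀ h : fixG u ∈ K L,
    phi ⟨fixG u, h⟩ * S * (phi ⟨fixG u, h⟩)⁻¹ = bif oddB u then S⁻¹ else S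

theorem flips_gen {S : G} (hgj : Good phi S (gen .j)) (hgi : Good phi S (gen .i)) {x : Gen}
    (hxk : lab x .k = 2) (hxl : lab x .l = 2) (hx : x ≠ .k) : Flips phi S (gen x) := by
  have ck : Commute (gen x) (gen .k) := comm_of_lab hxk
  have cl : Commute (gen x) L := comm_of_lab hxl
  refine ⟨Fi24.gen_mem hx, ck, fun h => ?_⟩
  rw [oddB_gen, cond_true]
  obtain ⟨v, ⟨hv, hk, r, hr, hS⟩, hxv⟩ : ∃ v, Good phi S v ∧ Commute (gen x) v := by
    by_cases hg : x = .g
    · subst hg; exact ⟨_, hgi, comm_i (by decide)⟩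
    · exact ⟨_, hgj, comm_j hg⟩
  have hgv : fixG (gen x) ∈ K v := fixG_cent hv.comm hxv
  have e : fixG (gen x) * kL * (fixG (gen x))⁻¹ = kL⁻¹ := by
    rw [fixG_gen, kL_inv,
      show gen x * L * (gen Gen.k * L) * (gen x * L)⁻¹ = gen x * (L * gen .k) * (gen x)⁻¹ by group,
      (cl.mul_right ck).eq, mul_inv_cancel_right]
  rw [← hS, hr.conj_kL hv hk h hgv (inv_mem (kL_mem hv hk)) e, ← map_inv]
  rfl

theorem flips_el {S : G} (hgj : Good phi S (gen .j)) (hgi : Good phi S (gen .i)) :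
    ∀ {w : List Nat}, (∀ x ∈ w, x ∈ nineLetters) → Flips phi S (el w) := by
  intro w
  induction w with
  | nil =>
    intro _
    rw [Fi24.el_nil]
    refine ⟨one_mem _, Commute.one_left _, fun h => ?_⟩
    rw [show (⟨fixG (1 : GF), h⟩ : ↥(K L)) = 1 from Subtype.ext (fixG_even (map_one _)), map_one,
      oddB_false (map_one _), cond_false, one_mul, inv_one, mul_one]
  | cons x t ih =>
    intro hw
    obtain ⟨hH, hk, hu⟩ := ih fun y hy => hw y (List.mem_cons_of_mem _ hy)
    have hx := hw x (List.mem_cons_self ..)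
    obtain ⟨hxk, hxl, hne, h12⟩ := nine_spec x hx
    obtain ⟨gH, gk, gu⟩ := flips_gen hgj hgi hxk hxl hne
    rw [el_cons h12]
    refine ⟨mul_mem gH hH, gk.mul_left hk, fun h => ?_⟩
    have hK1 : fixG (gen (letter x)) ∈ K L := fixG_mem_K (Fi24.L_comm gH) (Fi24.L_comm gH) rfl
    have hK2 : fixG (el t) ∈ K L := fixG_mem_K (Fi24.L_comm hH) (Fi24.L_comm hH) rfl
    rw [show (⟨fixG (gen (letter x) * el t), h⟩ : ↥(K L)) = ⟨_, hK1⟩ * ⟨_, hK2⟩ from
      Subtype.ext (fixG_mul (Fi24.L_comm hH)), map_mul, mul_inv_rev,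
      show ∀ a b : G, a * b * S * (b⁻¹ * a⁻¹) = a * (b * S * b⁻¹) * a⁻¹ from fun a b => by group,
      hu hK2, oddB_mul, oddB_gen]
    have e := gu hK1
    rw [oddB_gen, cond_true] at e
    cases oddB (el t)
    · simpa using e
    · simpa [mul_assoc] using congrArg (·⁻¹) e

variable [Finite G] {t z : G} {Q : Subgroup G}

/-- One element is the value at `kl` of sections over `j`, `i` and the further member. -/
theorem Setup.exists_good (P : Setup t z Q phi) :
    ∃ S : G, Good phi S (gen .j) ∧ Good phi S (gen .i) ∧ Good phi S mE := by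
  obtain ⟨w, hw2, -, -, hwv⟩ := layer_j.exists_swap
  have hkj : Commute (gen Gen.k) (gen .j) := comm_j (by decide)
  have hki : Commute (gen Gen.k) (gen .i) := comm_i (by decide)
  obtain ⟨rj, hrj, -⟩ := P.exists_rho layer_j hw2
    (by rw [MulAut.conj_apply, inv_eq_of_mul_eq_one_right hw2]; exact hwv)
  set S := rj ⟨kL, kL_mem layer_j hkj⟩ with hS
  have hgj : Good phi S (gen .j) := ⟨layer_j, hkj, rj, hrj, rfl⟩
  have h3 : S ^ 3 = 1 := by
    rw [hS, ← map_pow, ← map_one rj]; exact congrArg rj (Subtype.ext kL_pow_three)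
  have h1 : S ≠ 1 := fun h => kL_ne_one (congrArg Subtype.val (hrj.inj (h.trans (map_one rj).symm)))
  -- the section over `i`
  have cij : Commute (gen Gen.i) (gen .j) := comm_j (by decide)
  have hgi : Good phi S (gen .i) := by
    obtain ⟨r, hr, hrS⟩ := P.exists_switched layer_i layer_j gen_i_ne_j.symm cij hki hkj ijWords
      (fun w hw => by
        obtain ⟨-, hs, hi, hj, hl, -⟩ := ijWords_spec hw
        exact ⟨mem_K_iff.2 ⟨hl, hs⟩, hi, hj⟩)
      switch_ij h3 h1
      (fun h => hrj.comm_kL layer_j hkj h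
        (mem_K_iff.2 ⟨cij.mul_left (Commute.refl _), h.2⟩)
        ((hki.symm.mul_left hkj.symm).mul_right (layer_i.comm.mul_left layer_j.comm)))
      (fun w hw h => by
        obtain ⟨-, hs, -, hj, hl, hk⟩ := ijWords_spec hw
        exact hrj.comm_kL layer_j hkj h (mem_K_iff.2 ⟨hj, hs⟩) (hk.mul_right hl))
    exact ⟨layer_i, hki, r, hr, hrS⟩
  -- even words in the nine nodes
  have heven : ∀ w : List Nat, (∀ x ∈ w, x ∈ nineLetters) → w.length % 2 = 0 →
      el w ∈ K L ∧ ∀ h : el w ∈ K L, Commute S (phi ⟨el w, h⟩) := by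
    intro w hw hl
    obtain ⟨hH, -, hf⟩ := flips_el hgj hgi hw
    have hs : sign (el w) = 1 := sign_el_even (fun x hx => (nine_spec x (hw x hx)).2.2.2) hl
    have hfix := fixG_even hs
    refine ⟨mem_K_iff.2 ⟨Fi24.L_comm hH, hs⟩, fun h => ?_⟩
    have e := hf (hfix.symm ▸ h)
    rw [oddB_false hs, cond_false, show (⟨fixG (el w), hfix.symm ▸ h⟩ : ↥(K L)) = ⟨el w, h⟩ from
      Subtype.ext hfix] at e
    exact (mul_inv_eq_iff_eq_mul.1 e).symm
  -- the section over `t`, then over `m`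
  obtain ⟨rt, hrt, hrtS⟩ := P.exists_switched layer_t layer_u tE_ne_uE.symm tE_comm_uE tE_comm_k.symm
    uE_comm_k.symm tuWords
    (fun w hw => by
      obtain ⟨hl, he, ht, hu⟩ := tuWords_spec hw
      exact ⟨(heven w hl he).1, ht, hu⟩)
    switch_tu h3 h1
    (fun h => by
      obtain ⟨hK, hc⟩ := heven SwitchData.rE rE_letters rE_even
      rw [show (⟨tE * uE, h⟩ : ↥(K L)) = ⟨el SwitchData.rE, hK⟩ from Subtype.ext el_rE.symm]
      exact hc hK)
    (fun w hw => by
      obtain ⟨hl, he, -, -⟩ := tuWords_spec hw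
      exact (heven w hl he).2)
  refine ⟨S, hgj, hgi, layer_m, mE_comm_k.symm, ?_⟩
  obtain ⟨hH, hk, hf⟩ := flips_el hgj hgi cE_letters
  set c := fixG (el SwitchData.cE) with hc
  have hcL : c ∈ K L := fixG_mem_K (Fi24.L_comm hH) (Fi24.L_comm hH) rfl
  have hct : MulAut.conj c⁻¹ mE = tE := by
    rw [← cE_conj, ← fixG_conj (g := el SwitchData.cE) tE_comm_L, ← hc, MulAut.conj_apply]
    group
  let cK : ↥(K mE) →* ↥(K tE) := ((MulAut.conj c⁻¹).toMonoidHom.comp (K mE).subtype).codRestrict _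
    fun g => conj_mem_K _ conj_sign hct g.2
  refine ⟨(MulAut.conj (phi ⟨c, hcL⟩)).toMonoidHom.comp (rt.comp cK), ⟨?_, fun g h h' => ?_⟩, ?_⟩
  · exact (MulAut.conj _).injective.comp (hrt.inj.comp fun a b hab =>
      Subtype.ext ((MulAut.conj c⁻¹).injective (congrArg Subtype.val hab)))
  · show phi ⟨c, hcL⟩ * rt (cK ⟨g, h⟩) * (phi ⟨c, hcL⟩)⁻¹ = _
    have hm : c⁻¹ * g * c⁻¹⁻¹ ∈ K L := mul_mem (mul_mem (inv_mem hcL) h') (inv_mem (inv_mem hcL))
    rw [show rt (cK ⟨g, h⟩) = phi ⟨_, hm⟩ from hrt.ext _ (cK ⟨g, h⟩).2 hm, ← map_inv, ← map_mul,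
      ← map_mul]
    refine congrArg phi (Subtype.ext ?_)
    show c * (c⁻¹ * g * c⁻¹⁻¹) * c⁻¹ = g
    group
  · show phi ⟨c, hcL⟩ * rt (cK ⟨kL, _⟩) * (phi ⟨c, hcL⟩)⁻¹ = S
    have e := hf hcL
    have hcl : Commute (el SwitchData.cE) L := Fi24.L_comm hH
    cases ho : oddB (el SwitchData.cE)
    · rw [ho, cond_false] at e
      have hce : c = el SwitchData.cE := fixG_even (by simpa [oddB] using ho)
      rw [show cK ⟨kL, kL_mem layer_m mE_comm_k.symm⟩ = ⟨kL, kL_mem layer_t tE_comm_k.symm⟩ from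
        Subtype.ext (by
          show c⁻¹ * kL * c⁻¹⁻¹ = kL
          rw [inv_inv, mul_assoc, hce, ← (hk.mul_right hcl).eq, inv_mul_cancel_left]), hrtS]
      exact e
    · rw [ho, cond_true] at e
      have hce : c = el SwitchData.cE * L := if_neg (by simpa [oddB] using ho)
      rw [show cK ⟨kL, kL_mem layer_m mE_comm_k.symm⟩ = (⟨kL, kL_mem layer_t tE_comm_k.symm⟩ : ↥(K tE))⁻¹
        from Subtype.ext (by
          show c⁻¹ * kL * c⁻¹⁻¹ = kL⁻¹
          rw [inv_inv, hce, mul_inv_rev, Fi24.gen_inv,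
            show L * (el SwitchData.cE)⁻¹ * kL * (el SwitchData.cE * L) =
              L * ((el SwitchData.cE)⁻¹ * (kL * el SwitchData.cE)) * L by group,
            ← (hk.mul_right hcl).eq, inv_mul_cancel_left, kL_inv, mul_assoc, mul_assoc, L_sq, mul_one]),
        map_inv, hrtS]
      simpa [mul_assoc] using congrArg (·⁻¹) e

/-- The section over `l` extends to the even part. -/
theorem Setup.exists_hom (P : Setup t z Q phi) :
    ∃ chi : ↥sign.ker →* G, Function.Injective chi ∧ chi jL' = t := by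
  classical
  obtain ⟨S, hgj, hgi, hgm⟩ := P.exists_good
  set e := baseHom phi with he
  let X : Gen → Tw G := fun x => if h : x = .k then ⟨S, S⁻¹, true⟩ else e ⟨gen x, Fi24.gen_mem h⟩
  have hXH : ∀ x (hx : x ≠ Gen.k), X x = e ⟨gen x, Fi24.gen_mem hx⟩ := fun x hx => dif_neg hx
  have hXk : X .k = ⟨S, S⁻¹, true⟩ := dif_pos rfl
  let ev : List Nat → Tw G := fun w => (w.map fun x => X (letter x)).prod
  have ev_app : ∀ u v, ev (u ++ v) = ev u * ev v := fun u v => by simp [ev]
  have ev_H : ∀ (w : List Nat) (hw : ∀ x ∈ w, 1 ≤ x ∧ x < 12), ev w = e ⟨el w, el_mem_H hw⟩ := by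
    intro w
    induction w with
    | nil => intro _; exact (map_one e).symm.trans (congrArg e (Subtype.ext Fi24.el_nil.symm))
    | cons x t ih =>
      intro hw
      obtain ⟨h1, h12⟩ := hw x (List.mem_cons_self ..)
      show X (letter x) * ev t = _
      rw [ih fun y hy => hw y (List.mem_cons_of_mem _ hy), hXH _ ((letter_ne h12).2 h1),
        ← map_mul]
      exact congrArg e (Subtype.ext (el_cons h12 t).symm)
  -- over a member
  have hgood : ∀ {v : GF}, Good phi S v →
      ∃ ev' : ↥(Subgroup.centralizer ({v} : Set GF)) →* Tw G,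
        (∀ x (hm : gen x ∈ Subgroup.centralizer ({v} : Set GF)), X x = ev' ⟨gen x, hm⟩) ∧
        ∀ g (hm : g ∈ Subgroup.centralizer ({v} : Set GF)) (hH : g ∈ H), ev' ⟨g, hm⟩ = e ⟨g, hH⟩ := by
    rintro v ⟨hv, hk, r, hr, hS⟩
    refine ⟨pairHom r hv.comm, fun x hm => ?_, fun g hm hH => hr.pairHom_eq hv.comm hm hH⟩
    by_cases hx : x = .k
    · subst hx
      rw [hXk, ← hS]
      exact (pairHom_k r hv hk).symm
    · rw [hXH x hx]
      exact (hr.pairHom_eq hv.comm hm _).symm
  obtain ⟨ej, hej, -⟩ := hgood hgj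
  obtain ⟨ei, hei, -⟩ := hgood hgi
  obtain ⟨em, hem, hemH⟩ := hgood hgm
  have hmem : ∀ {v g : GF}, Commute g v → g ∈ Subgroup.centralizer ({v} : Set GF) := fun h =>
    Subgroup.mem_centralizer_singleton_iff.2 h.eq
  -- the pairs
  have hrelv : ∀ {v : GF} (f : ↥(Subgroup.centralizer ({v} : Set GF)) →* Tw G),
      (∀ x (hm : gen x ∈ Subgroup.centralizer ({v} : Set GF)), X x = f ⟨gen x, hm⟩) →
      ∀ x y, Commute (gen x) v → Commute (gen y) v → (X x * X y) ^ lab x y = 1 := by
    intro v f hf x y hx hy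
    rw [hf x (hmem hx), hf y (hmem hy), ← map_mul, ← map_pow, ← map_one f]
    exact congrArg f (Subtype.ext (gen_rel x y))
  have hpair : ∀ x y, (X x * X y) ^ lab x y = 1 := by
    intro x y
    by_cases hg : x ≠ .g ∧ y ≠ .g
    · exact hrelv ej hej x y (comm_j hg.1) (comm_j hg.2)
    by_cases hh : x ≠ .h ∧ y ≠ .h
    · exact hrelv ei hei x y (comm_i hh.1) (comm_i hh.2)
    have hk : x ≠ .k ∧ y ≠ .k := by
      revert hg hh
      cases x <;> cases y <;> decide
    rw [hXH x hk.1, hXH y hk.2, ← map_mul, ← map_pow, ← map_one e]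
    exact congrArg e (Subtype.ext (gen_rel x y))
  have hsq : ∀ x, X x * X x = 1 := fun x => by
    have h := hpair x x
    rwa [show lab x x = 1 by cases x <;> decide, pow_one] at h
  have ev_j : ∀ (w : List Nat), (∀ x ∈ w, x < 12 ∧ x ≠ 9) →
      ∃ hm : el w ∈ Subgroup.centralizer ({gen Gen.j} : Set GF), ev w = ej ⟨el w, hm⟩ := by
    intro w
    induction w with
    | nil =>
      intro _
      exact ⟨by rw [Fi24.el_nil]; exact one_mem _,
        (map_one ej).symm.trans (congrArg ej (Subtype.ext Fi24.el_nil.symm))⟩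
    | cons x t ih =>
      intro hw
      obtain ⟨h12, h9⟩ := hw x (List.mem_cons_self ..)
      obtain ⟨hm, ht⟩ := ih fun y hy => hw y (List.mem_cons_of_mem _ hy)
      have hx := hmem (comm_j (x := letter x) ((letter_ne h12).1 h9))
      refine ⟨by rw [el_cons h12]; exact mul_mem hx hm, ?_⟩
      show X (letter x) * ev t = _
      rw [ht, hej _ hx, ← map_mul]
      exact congrArg ej (Subtype.ext (el_cons h12 t).symm)
  -- the spider
  have hcg : Commute (ev revW) (X .g) := by
    refine Commute.list_prod_left _ _ fun a ha => ?_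
    obtain ⟨x, hx, rfl⟩ := List.mem_map.1 ha
    have hl : lab (letter x) .g = 2 := revW_g x hx
    have h := hpair (letter x) .g
    rw [hl, pow_two] at h
    have h' := eq_inv_of_mul_eq_one_left h
    rwa [mul_inv_rev, inv_eq_of_mul_eq_one_right (hsq _), inv_eq_of_mul_eq_one_right (hsq _)] at h'
  have hj : ∀ a b : List Nat, (∀ x ∈ a, x < 12 ∧ x ≠ 9) → (∀ x ∈ b, x < 12 ∧ x ≠ 9) →
      el revW * el a * (el revW)⁻¹ = el b → ev revW * ev a * (ev revW)⁻¹ = ev b := by
    intro a b ha hb hab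
    obtain ⟨m0, e0⟩ := ev_j revW (by decide +kernel)
    obtain ⟨m1, e1⟩ := ev_j a ha
    obtain ⟨m2, e2⟩ := ev_j b hb
    rw [e0, e1, e2, ← map_inv, ← map_mul, ← map_mul]
    exact congrArg ej (Subtype.ext hab)
  have hspid : ev Fi24Index.spider ^ 17 = 1 := by
    have e1 := hj [4, 3, 2, 1, 0, 11, 4, 7, 8] leftW (by decide) (by decide) revW_left
    have e2 := hj [10, 4, 5, 6] [10, 1, 0, 11] (by decide) (by decide) (by
      rw [revW_right, show [10, 1, 0, 11] = [10, 1] ++ [0] ++ [11] from rfl, Fi24.el_append,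
        Fi24.el_append, Fi24.el_single (by norm_num), Fi24.el_single (by norm_num)]
      rfl)
    have e : ev revW * ev Fi24Index.spider * (ev revW)⁻¹ = ev spQ * X .k * X .l := by
      rw [show Fi24Index.spider = [4, 3, 2, 1, 0, 11, 4, 7, 8] ++ [9] ++ [10, 4, 5, 6] from rfl,
        ev_app, ev_app]
      have eg : ev revW * ev [9] * (ev revW)⁻¹ = ev [9] := by
        rw [show ev [9] = X .g by simp [ev, letter, Fi24Index.dec], hcg.eq, mul_inv_cancel_right]
      calc _ = (ev revW * ev [4, 3, 2, 1, 0, 11, 4, 7, 8] * (ev revW)⁻¹) *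
            (ev revW * ev [9] * (ev revW)⁻¹) * (ev revW * ev [10, 4, 5, 6] * (ev revW)⁻¹) := by group
        _ = ev leftW * ev [9] * ev [10, 1, 0, 11] := by rw [e1, eg, e2]
        _ = ev spQ * X .k * X .l := by
          simp only [spQ, ev, List.map_append, List.prod_append, List.map_cons, List.map_nil,
            List.prod_cons, List.prod_nil, mul_one, letter, Fi24Index.dec, mul_assoc]
    have hq : ∀ x ∈ spQ, 1 ≤ x ∧ x < 12 := by decide
    have hqm : el spQ ∈ Subgroup.centralizer ({mE} : Set GF) := by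
      rw [show spQ = SwitchData.qE by decide +kernel]
      exact hmem qE_comm
    rw [ev_H spQ hq, ← hemH _ hqm, hem .k (hmem mE_comm_k.symm), hem .l (hmem mE_comm_L.symm),
      ← map_mul, ← map_mul] at e
    have e' := congrArg (fun u => u ^ 17) e
    simp only [conj_pow] at e'
    rw [← map_pow] at e'
    have h1 : (⟨el spQ, hqm⟩ * ⟨gen Gen.k, hmem mE_comm_k.symm⟩ * ⟨gen Gen.l, hmem mE_comm_L.symm⟩ :
        ↥(Subgroup.centralizer ({mE} : Set GF))) ^ 17 = 1 := Subtype.ext spQ_pow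
    rw [h1, map_one, conj_eq_one_iff] at e'
    exact e'
  -- the homomorphism
  have hrels : ∀ r ∈ R, FreeGroup.lift X r = 1 := by
    rintro r (⟨x, -, y, -, rfl⟩ | hr)
    · rw [map_pow, map_mul, FreeGroup.lift_apply_of, FreeGroup.lift_apply_of]
      exact hpair x y
    · simp only [Cfsg.Spor.Fi24.extra, List.mem_cons, List.not_mem_nil, or_false,
        Set.mem_ofPred_eq] at hr
      rcases hr with rfl | rfl
      · simp only [map_mul, map_inv, map_pow, FreeGroup.lift_apply_of]
        rw [hXH .l (by decide), hXH .a (by decide), hXH .b (by decide), hXH .c (by decide),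
          hXH .d (by decide), hXH .e (by decide), hXH .f (by decide), hXH .h (by decide)]
        simp only [← map_mul, ← map_pow, ← map_inv]
        rw [← map_one e]
        refine congrArg e (Subtype.ext ?_)
        simp only [Subgroup.coe_mul, Subgroup.coe_inv, Subgroup.coe_pow, Subgroup.coe_one]
        rw [mul_inv_eq_one]
        exact Fi24.L_eq
      · rw [map_pow, ← hspid]
        congr 1
  let Φ : GF →* Tw G := PresentedGroup.toGroup hrels
  have hΦ : ∀ x, Φ (gen x) = X x := fun x => PresentedGroup.toGroup.of hrels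
  have hodd : ∀ g, (Φ g).odd = oddB g := by
    intro g
    have hg : g ∈ Subgroup.closure (Set.range (gen : _ → GF)) :=
      (PresentedGroup.closure_range_of R).symm ▸ Subgroup.mem_top g
    induction hg using Subgroup.closure_induction with
    | mem u hu =>
      obtain ⟨x, rfl⟩ := hu
      rw [hΦ, oddB_gen]
      by_cases hx : x = .k
      · rw [hx, hXk]
      · rw [hXH x hx]; exact oddB_gen x
    | one => rw [map_one, oddB_false (map_one _)]; rfl
    | mul a b _ _ ha hb => rw [map_mul, oddB_mul, ← ha, ← hb]; rfl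
    | inv a _ ha =>
      rw [map_inv, oddB_inv, ← ha, Tw.inv_def]
      cases (Φ a).odd <;> rfl
  let chi : ↥sign.ker →* G :=
    { toFun := fun g => (Φ g).p
      map_one' := by simp
      map_mul' := fun a b => by
        show (Φ ((a : GF) * b)).p = _
        rw [map_mul, Tw.mul_def, hodd, oddB_false (MonoidHom.mem_ker.1 a.2)]
        rfl }
  have hchi : chi jL' = t := by
    show (Φ (gen .j * L)).p = t
    rw [map_mul, hΦ, hΦ, hXH .j (by decide), hXH .l (by decide), ← map_mul, ← P.jL_eq]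
    exact congrArg phi (Subtype.ext (fixG_even jL.2.2))
  refine ⟨chi, ?_, hchi⟩
  haveI := Fi24.ker_simple
  rw [← MonoidHom.ker_eq_bot_iff]
  refine (chi.normal_ker.eq_bot_or_eq_top).resolve_right fun h => P.base.t_ne ?_
  rw [← hchi, ← MonoidHom.mem_ker, h]
  trivial

end Cfsg.Agent.Fi24Rec
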