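import Cfsg.Agent.CosetCert.Fi24Suborbits.Main

/-! Generated: words and profiles for the switch at a pair of commuting transpositions. -/

set_option autoImplicit false
set_option maxRecDepth 100000

namespace Cfsg.Agent.Fi24Rec.SwitchData

open Cfsg.Agent.CosetCert

/-- Ten points and words reaching them from the base point. -/
def ten : List (Nat × List Nat) :=
  [(0, []), (10508, [0, 1, 2, 3, 4, 5, 6, 7, 4, 3, 2, 1, 0, 5, 4, 3, 8, 7, 4, 3, 9, 8, 7, 4, 5, 6]), (8, [0, 1, 11, 0]), (9949, [0, 1, 2, 3, 4, 5, 6, 7, 4, 3, 5, 4, 8, 7, 4, 3, 5, 9, 8, 7, 4, 3, 2, 11, 0]), (171788, [0, 1, 2, 3, 4, 5, 6, 7, 4, 3, 2, 1, 0, 5, 4, 7, 8, 7, 4, 3, 2, 9, 8, 7, 4, 3, 5, 4, 6, 7, 8, 9, 10, 9, 8, 7, 4, 3, 5]), (28944, [0, 1, 2, 3, 4, 5, 6, 7,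 4, 3, 2, 1, 0, 5, 4, 3, 8, 7, 4, 3, 2, 5, 9, 8, 7, 4, 3, 2, 5, 4]), (220695, [0, 1, 2, 3, 4, 5, 6, 7, 4, 3, 2, 1, 0, 5, 4, 3, 8, 7, 4, 3, 2, 5, 4, 6, 5, 9, 8, 7, 4, 3, 2, 5, 4, 6, 10, 9, 8, 7, 4, 5, 6]), (10790, [0, 1, 2, 3, 4, 5, 6, 7, 4, 3, 2, 1, 0, 8, 7, 4, 3, 9, 8, 7, 4, 5, 10, 9, 8, 7]), (306473, [0, 1, 2, 3, 4, 5, 6, 7, 4, 3, 2, 1, 0, 5, 4, 8, 7, 4, 3, 2, 5, 4, 3, 9, 8, 7, 4, 3, 2, 5, 4, 6, 5, 7, 4, 3, 10, 9, 8, 7, 4, 3, 2, 1, 5, 4, 3, 2]), (36964, [0, 1, 2, 3, 4, 5, 6, 7, 4, 3, 2, 1, 0, 5, 4, 3, 8, 7, 4, 3, 5, 4, 7, 9, 8, 7, 4, 3, 5, 4, 6])]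

/-- Their transpositions as words. -/
def tenP : List (List Nat) :=
  [[11],
    [6, 5, 4, 7, 8, 9, 3, 4, 7, 8, 3, 4, 5, 0, 1, 2, 3, 4, 7, 6, 5, 4, 3, 2, 1, 0, 11, 0, 1, 2, 3, 4, 5, 6, 7, 4, 3, 2, 1, 0, 5, 4, 3, 8, 7, 4, 3, 9, 8, 7, 4, 5, 6],
    [0, 11, 1, 0, 11, 0, 1, 11, 0],
    [0, 11, 2, 3, 4, 7, 8, 9, 5, 3, 4, 7, 8, 4, 5, 3, 4, 7, 6, 5, 4, 3, 2, 1, 0, 11, 0, 1, 2, 3, 4, 5, 6, 7, 4, 3, 5, 4, 8, 7, 4, 3, 5, 9, 8, 7, 4, 3, 2, 11, 0],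
    [5, 3, 4, 7, 8, 9, 10, 9, 8, 7, 6, 4, 5, 3, 4, 7, 8, 9, 2, 3, 4, 7, 8, 7, 4, 5, 0, 1, 2, 3, 4, 7, 6, 5, 4, 3, 2, 1, 0, 11, 0, 1, 2, 3, 4, 5, 6, 7, 4, 3, 2, 1, 0, 5, 4, 7, 8, 7, 4, 3, 2, 9, 8, 7, 4, 3, 5, 4, 6, 7, 8, 9, 10, 9, 8, 7, 4, 3, 5],
    [4, 5, 2, 3, 4, 7, 8, 9, 5, 2, 3, 4, 7, 8, 3, 4, 5, 0, 1, 2, 3, 4, 7, 6, 5, 4, 3, 2, 1, 0, 11, 0, 1, 2, 3, 4, 5, 6, 7, 4, 3, 2, 1, 0, 5, 4, 3, 8, 7, 4, 3, 2, 5, 9, 8, 7, 4, 3, 2, 5, 4],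
    [6, 5, 4, 7, 8, 9, 10, 6, 4, 5, 2, 3, 4, 7, 8, 9, 5, 6, 4, 5, 2, 3, 4, 7, 8, 3, 4, 5, 0, 1, 2, 3, 4, 7, 6, 5, 4, 3, 2, 1, 0, 11, 0, 1, 2, 3, 4, 5, 6, 7, 4, 3, 2, 1, 0, 5, 4, 3, 8, 7, 4, 3, 2, 5, 4, 6, 5, 9, 8, 7, 4, 3, 2, 5, 4, 6, 10, 9, 8, 7, 4, 5, 6],
    [7, 8, 9, 10, 5, 4, 7, 8, 9, 3, 4, 7, 8, 0, 1, 2, 3, 4, 7, 6, 5, 4, 3, 2, 1, 0, 11, 0, 1, 2, 3, 4, 5, 6, 7, 4, 3, 2, 1, 0, 8, 7, 4, 3, 9, 8, 7, 4, 5, 10, 9, 8, 7],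
    [2, 3, 4, 5, 1, 2, 3, 4, 7, 8, 9, 10, 3, 4, 7, 5, 6, 4, 5, 2, 3, 4, 7, 8, 9, 3, 4, 5, 2, 3, 4, 7, 8, 4, 5, 0, 1, 2, 3, 4, 7, 6, 5, 4, 3, 2, 1, 0, 11, 0, 1, 2, 3, 4, 5, 6, 7, 4, 3, 2, 1, 0, 5, 4, 8, 7, 4, 3, 2, 5, 4, 3, 9, 8, 7, 4, 3, 2, 5, 4, 6, 5, 7, 4, 3, 10, 9, 8, 7, 4, 3, 2, 1, 5, 4, 3, 2],
    [6, 4, 5, 3, 4, 7, 8, 9, 7, 4, 5, 3, 4, 7, 8, 3, 4, 5, 0, 1, 2, 3, 4, 7, 6, 5, 4, 3, 2, 1, 0, 11, 0, 1, 2, 3, 4, 5, 6, 7, 4, 3, 2, 1, 0, 5, 4, 3, 8, 7, 4, 3, 5, 4, 7, 9, 8, 7, 4, 3, 5, 4, 6]]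

/-- Profiles shared by at most two points, with those points. -/
def classes : List (Nat × List Nat) :=
  [(700, [643, 2452]), (959, [789]), (698, [1779, 22603]), (951, [1952, 15686]), (975, [4491, 29844]), (986, [8003, 13829]), (985, [8005, 29187]), (735, [8213, 73936]), (956, [11995, 29019]), (732, [13657, 58368]), (983, [37452, 59986]), (953, [47135, 73276]), (943, [37307, 58705])]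

/-- Words for the points used. -/
def rows : List (Nat × List Nat) :=
  [(0, []),
    (8, [0, 1, 11, 0]),
    (643, [0, 1, 2, 3, 4, 5, 6, 7, 4, 5, 8, 7, 11, 0, 1, 2]),
    (789, [0, 1, 2, 3, 4, 5, 6, 7, 4, 3, 2, 8, 7, 4, 5, 11, 0]),
    (1779, [0, 1, 2, 3, 4, 5, 6, 7, 4, 3, 2, 1, 0, 5, 4, 8, 7, 4, 3, 5]),
    (1952, [0, 1, 2, 3, 4, 5, 6, 7, 4, 3, 2, 5, 4, 8, 7, 4, 3, 9, 11, 0]),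
    (2452, [0, 1, 2, 3, 4, 5, 6, 7, 4, 3, 2, 1, 0, 8, 7, 4, 3, 9, 8, 7, 4]),
    (4491, [0, 1, 2, 3, 4, 5, 6, 7, 4, 3, 2, 1, 0, 5, 4, 8, 7, 4, 3, 5, 4, 6, 9]),
    (8003, [0, 1, 2, 3, 4, 5, 6, 7, 4, 3, 2, 1, 0, 5, 4, 3, 8, 7, 4, 5, 6, 9, 8, 7, 4]),
    (8005, [0, 1, 2, 3, 4, 5, 6, 7, 4, 3, 2, 1, 0, 5, 4, 3, 8, 7, 4, 5, 6, 9, 8, 10, 9]),
    (8213, [0, 1, 2, 3, 4, 5, 6, 7, 4, 3, 2, 1, 0, 8, 7, 4, 3, 5, 9, 8, 7, 4, 10, 9, 8]),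
    (9949, [0, 1, 2, 3, 4, 5, 6, 7, 4, 3, 5, 4, 8, 7, 4, 3, 5, 9, 8, 7, 4, 3, 2, 11, 0]),
    (10508, [0, 1, 2, 3, 4, 5, 6, 7, 4, 3, 2, 1, 0, 5, 4, 3, 8, 7, 4, 3, 9, 8, 7, 4, 5, 6]),
    (10790, [0, 1, 2, 3, 4, 5, 6, 7, 4, 3, 2, 1, 0, 8, 7, 4, 3, 9, 8, 7, 4, 5, 10, 9, 8, 7]),
    (11995, [0, 1, 2, 3, 4, 5, 6, 7, 4, 3, 2, 5, 4, 8, 7, 4, 3, 9, 8, 7, 4, 5, 10, 9, 11, 0]),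
    (13657, [0, 1, 2, 3, 4, 5, 6, 7, 4, 3, 2, 1, 0, 5, 4, 3, 8, 7, 4, 5, 6, 9, 8, 7, 4, 5, 10]),
    (13829, [0, 1, 2, 3, 4, 5, 6, 7, 4, 3, 2, 1, 0, 5, 4, 8, 7, 4, 3, 5, 4, 9, 8, 7, 4, 3, 5]),
    (15686, [0, 1, 2, 3, 4, 5, 6, 7, 4, 3, 2, 5, 4, 8, 7, 4, 3, 9, 8, 7, 4, 5, 10, 9, 8, 11, 0]),
    (22603, [0, 1, 2, 3, 4, 5, 6, 7, 4, 3, 2, 1, 0, 5, 4, 3, 8, 7, 4, 3, 5, 4, 6, 5, 9, 8, 7, 4, 3]),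
    (28944, [0, 1, 2, 3, 4, 5, 6, 7, 4, 3, 2, 1, 0, 5, 4, 3, 8, 7, 4, 3, 2, 5, 9, 8, 7, 4, 3, 2, 5, 4]),
    (29019, [0, 1, 2, 3, 4, 5, 6, 7, 4, 3, 2, 1, 0, 5, 4, 3, 8, 7, 4, 3, 5, 6, 9, 8, 7, 4, 5, 10, 9, 8]),
    (29187, [0, 1, 2, 3, 4, 5, 6, 7, 4, 3, 2, 1, 0, 5, 4, 7, 8, 7, 4, 3, 5, 4, 6, 9, 8, 7, 4, 3, 5, 10]),
    (29844, [0, 1, 2, 3, 4, 5, 6, 7, 4, 3, 2, 1, 0, 5, 8, 7, 4, 3, 5, 6, 9, 8, 7, 4, 5, 6, 10, 9, 8, 7]),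
    (36964, [0, 1, 2, 3, 4, 5, 6, 7, 4, 3, 2, 1, 0, 5, 4, 3, 8, 7, 4, 3, 5, 4, 7, 9, 8, 7, 4, 3, 5, 4, 6]),
    (37307, [0, 1, 2, 3, 4, 5, 6, 7, 4, 3, 2, 1, 0, 5, 4, 7, 8, 7, 4, 5, 6, 9, 8, 7, 4, 5, 10, 9, 8, 7, 4]),
    (37452, [0, 1, 2, 3, 4, 5, 6, 7, 4, 3, 2, 1, 0, 5, 4, 8, 7, 4, 3, 2, 1, 9, 8, 7, 4, 3, 2, 10, 9, 8, 7]),
    (47135, [0, 1, 2, 3, 4, 5, 6, 7, 4, 3, 2, 1, 0, 5, 4, 7, 8, 7, 4, 3, 5, 4, 7, 9, 8, 7, 4, 3, 10, 9, 8, 7]),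
    (58368, [0, 1, 2, 3, 4, 5, 6, 7, 4, 3, 5, 8, 7, 4, 3, 2, 5, 9, 8, 7, 4, 3, 5, 10, 9, 8, 7, 4, 3, 2, 1, 0]),
    (58705, [0, 1, 2, 3, 4, 5, 6, 7, 4, 3, 2, 1, 0, 5, 4, 3, 8, 7, 4, 3, 5, 9, 8, 7, 4, 3, 10, 9, 8, 7, 4, 5, 6]),
    (59986, [0, 1, 2, 3, 4, 5, 6, 7, 4, 3, 2, 1, 0, 5, 8, 7, 4, 3, 2, 1, 9, 8, 7, 4, 3, 2, 5, 4, 10, 9, 8, 7, 4]),
    (73276, [0, 1, 2, 3, 4, 5, 6, 7, 4, 3, 2, 1, 0, 5, 4, 7, 8, 7, 4, 3, 5, 4, 7, 9, 8, 7, 4, 5, 6, 10, 9, 8, 7, 4]),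
    (73936, [0, 1, 2, 3, 4, 5, 6, 7, 4, 3, 2, 1, 0, 5, 4, 8, 7, 4, 3, 5, 4, 7, 9, 8, 7, 4, 5, 6, 10, 9, 8, 7, 4, 5]),
    (171788, [0, 1, 2, 3, 4, 5, 6, 7, 4, 3, 2, 1, 0, 5, 4, 7, 8, 7, 4, 3, 2, 9, 8, 7, 4, 3, 5, 4, 6, 7, 8, 9, 10, 9, 8, 7, 4, 3, 5]),
    (220695, [0, 1, 2, 3, 4, 5, 6, 7, 4, 3, 2, 1, 0, 5, 4, 3, 8, 7, 4, 3, 2, 5, 4, 6, 5, 9, 8, 7, 4, 3, 2, 5, 4, 6, 10, 9, 8, 7, 4, 5, 6]),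
    (306473, [0, 1, 2, 3, 4, 5, 6, 7, 4, 3, 2, 1, 0, 5, 4, 8, 7, 4, 3, 2, 5, 4, 3, 9, 8, 7, 4, 3, 2, 5, 4, 6, 5, 7, 4, 3, 10, 9, 8, 7, 4, 3, 2, 1, 5, 4, 3, 2])]

/-- A generator, the points reflecting a start to its point, and the start. -/
def paths : List (Nat × List Nat × Nat) :=
  [(8, [], 8), (16, [15686, 47135, 29844, 1952, 1779], 9949), (34, [59986, 8213], 643), (75, [8003, 789, 58705, 15686], 643), (165, [4491, 29187, 29019], 1952), (316, [59986, 13657, 4491], 643), (169, [1779, 15686, 29844], 8005), (360, [15686], 11995), (706, [15686, 59986, 29844], 643), (1307, [2452, 37452], 4491), (0, [], 0)]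

/-- The word moving to this frame. -/
def gW : List Nat := [2, 3, 4, 7, 5, 6, 4, 5, 3, 4, 7, 8, 9, 10, 7, 8, 9, 2, 3, 4, 7, 8, 3, 4, 5, 2, 3, 4, 7, 3, 4, 3, 2, 0, 1, 2, 3, 4, 5, 6, 7, 4, 3, 2, 1, 0, 5, 4, 7, 8, 7, 4, 3, 2, 5, 4, 3, 9, 8, 7, 4, 3, 2, 5, 4, 3, 6, 5, 4, 10, 9, 8, 7, 4, 3, 2, 1, 5, 4, 3, 2]

/-- The members of the centraliser of the seven. -/
def five : List Nat := [0, 10508, 10790, 36964, 306473]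

/-- Does the word fix the point? -/
noncomputable def fixB (w : List Nat) (q : Nat) : Bool := Nat.beq (Fi24Index.data.fwd w q) q

/-- The profile of a point. -/
noncomputable def mask (ws : List (List Nat)) (q m : Nat) : Nat :=
  List.rec (fun m => m)
    (fun w _ ih m => force (cond (fixB w q) (Nat.add (Nat.mul 2 m) 1) (Nat.mul 2 m)) ih) ws m

/-- The check at a point fixed by the two base reflections. -/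
noncomputable def chk (q : Nat) : Bool :=
  force (mask tenP q 0) fun m =>
    (cond (Nat.beq (Nat.land m 1016) 1016) (five.any (Nat.beq q)) true) &&
      classes.all fun e => cond (Nat.beq m e.1) (e.2.any (Nat.beq q)) true

/-- The check at a place. -/
noncomputable def scanAt (i : Nat) : Bool :=
  force (get48 Fi24Suborbits.pointStore i) fun q => cond (fixB [1] q) (chk q) true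

end Cfsg.Agent.Fi24Rec.SwitchData
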