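import Cfsg.Agent.Fi24.Points
import Cfsg.Agent.Fi24Rec.SwitchData

/-!
Words and points of the switch certificate, read in the group.
-/

set_option maxRecDepth 100000
set_option autoImplicit false

namespace Cfsg.Agent.Fi24Rec

open Cfsg.Agent.CosetCert Cfsg.Agent.Fi24
open SwitchData

/-- The point of a number. -/
def pt (n : Nat) : Fin 306936 := ⟨n % 306936, Nat.mod_lt _ (by norm_num)⟩

theorem pt_val {n : Nat} (h : n < 306936) : (pt n : Nat) = n := Nat.mod_eq_of_lt h

theorem pt_eq (q : Fin 306936) : pt (q : Nat) = q := Fin.ext (pt_val q.2)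

/-- A palindrome. -/
def pal (w : List Nat) : List Nat := w.reverse ++ [11] ++ w

theorem lt_of_all {w : List Nat} (h : (w.all fun x => decide (x < 12)) = true) : ∀ x ∈ w, x < 12 :=
  fun x hx => of_decide_eq_true (List.all_eq_true.1 h x hx)

/-- A word reaches its point. -/
noncomputable def wordOk (e : Nat × List Nat) : Bool :=
  decide (e.1 < 306936) && (e.2.all fun x => decide (x < 12)) && Nat.beq (Fi24Index.data.fwd e.2 0) e.1

theorem T_word {e : Nat × List Nat} (h : wordOk e = true) (q : Fin 306936) :
    T (pt e.1) = el (pal e.2) ∧ Fi24Index.data.fwd (pal e.2) (q : Nat) = (φ (T (pt e.1)) q : Nat) := by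
  simp only [wordOk, Bool.and_eq_true, decide_eq_true_eq] at h
  obtain ⟨⟨h1, h2⟩, h3⟩ := h
  have hw := lt_of_all h2
  have hT : T (pt e.1) = el (pal e.2) :=
    T_eq_el hw (by rw [pt_val h1]; exact Nat.eq_of_beq_eq_true h3)
  refine ⟨hT, ?_⟩
  have hp : ∀ x ∈ pal e.2, x < 12 := fun x hx => by
    simp only [pal, List.mem_append, List.mem_reverse, List.mem_singleton] at hx
    rcases hx with (hx | rfl) | hx
    exacts [hw x hx, by norm_num, hw x hx]
  rw [hT, φ_apply _ hp, show (pal e.2).reverse = pal e.2 by simp [pal, List.append_assoc]]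

theorem fixB_iff {e : Nat × List Nat} (h : wordOk e = true) (q : Fin 306936) :
    fixB (pal e.2) q = true ↔ φ (T (pt e.1)) q = q := by
  rw [fixB, (T_word h q).2]
  exact ⟨fun e' => Fin.ext (Nat.eq_of_beq_eq_true e'), fun e' => by rw [e']; exact Nat.beq_refl _⟩

theorem φ_word {w : List Nat} (hw : ∀ x ∈ w, x < 12) (q : Fin 306936) :
    (φ (el w) q : Nat) = Fi24Index.data.fwd w.reverse q := φ_apply w hw q

theorem words_ok : ((ten ++ rows).all wordOk) = true := by decide +kernel

theorem ten_ok {e : Nat × List Nat} (h : e ∈ ten) : wordOk e = true :=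
  List.all_eq_true.1 words_ok e (List.mem_append_left _ h)

theorem rows_ok {e : Nat × List Nat} (h : e ∈ rows) : wordOk e = true :=
  List.all_eq_true.1 words_ok e (List.mem_append_right _ h)

theorem tenP_eq : tenP = ten.map fun e => pal e.2 := by decide +kernel

theorem mask_congr {q q' : Nat} : ∀ (ws : List (List Nat)), (∀ w ∈ ws, fixB w q = fixB w q') →
    ∀ m, mask ws q m = mask ws q' m := by
  intro ws
  induction ws with
  | nil => intro _ m; rfl
  | cons w t ih =>
    intro h m
    show force _ (mask t q) = force _ (mask t q')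
    rw [force_eq, force_eq, h w (List.mem_cons_self ..)]
    exact ih (fun v hv => h v (List.mem_cons_of_mem _ hv)) _

theorem T_eight : T (pt 8) = gen .a := by
  rw [show pt 8 = φ toA c0 from Fin.ext ?_, ← conj_L_eq, toA_conj]
  rw [root_points.1]
  rfl

theorem T_three : T (pt 3) = gen .k := by
  rw [show pt 3 = φ toK c0 from Fin.ext ?_, ← conj_L_eq, toK_conj]
  rw [root_points.2]
  rfl

theorem gen_step {x y : Cfsg.Spor.Fi24.Gen} {X Y p q : Nat} (hX : X < 12) (hY : Y < 12)
    (hx : (Fi24Index.dec X).1 = x) (hy : (Fi24Index.dec Y).1 = y)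
    (h : Cfsg.Spor.coxLabel Cfsg.Spor.Fi24.edges x y = 3)
    (hf : Fi24Index.data.fwd [Y, X] (pt p) = (pt q : Nat)) (hT : T (pt p) = gen x) : T (pt q) = gen y := by
  have he : el [X, Y] = gen x * gen y := by
    rw [show ([X, Y] : List Nat) = [X] ++ [Y] from rfl, el_append, el_single hX, el_single hY, hx, hy]
  have hq : φ (gen x * gen y) (pt p) = pt q := Fin.ext (by
    rw [← he, φ_word (by simp [hX, hY])]; exact hf)
  have hb := braid h
  rw [← hq, ← conj_T, hT, _root_.mul_inv_rev, gen_inv, gen_inv]
  calc gen x * gen y * gen x * (gen y * gen x) = gen y * gen x * gen y * (gen y * gen x) := by rw [hb]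
    _ = gen y * gen x * (gen y * gen y) * gen x := by simp only [mul_assoc]
    _ = gen y := by rw [gen_sq, mul_one, mul_assoc, gen_sq, mul_one]

theorem gen_points : ∀ x : Cfsg.Spor.Fi24.Gen, x ≠ .k →
    ∃ n ∈ paths.map Prod.fst, T (pt n) = gen x := by
  have hb := gen_step (X := 1) (Y := 2) (x := .a) (y := .b) (q := 16) (by norm_num) (by norm_num) rfl rfl
    (by decide) (by decide +kernel) T_eight
  have hc := gen_step (X := 2) (Y := 3) (x := .b) (y := .c) (q := 34) (by norm_num) (by norm_num) rfl rfl
    (by decide) (by decide +kernel) hb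
  have hd := gen_step (X := 3) (Y := 4) (x := .c) (y := .d) (q := 75) (by norm_num) (by norm_num) rfl rfl
    (by decide) (by decide +kernel) hc
  have hh := gen_step (X := 4) (Y := 5) (x := .d) (y := .h) (q := 165) (by norm_num) (by norm_num) rfl rfl
    (by decide) (by decide +kernel) hd
  have hi := gen_step (X := 5) (Y := 6) (x := .h) (y := .i) (q := 316) (by norm_num) (by norm_num) rfl rfl
    (by decide) (by decide +kernel) hh
  have he := gen_step (X := 4) (Y := 7) (x := .d) (y := .e) (q := 169) (by norm_num) (by norm_num) rfl rfl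
    (by decide) (by decide +kernel) hd
  have hf := gen_step (X := 7) (Y := 8) (x := .e) (y := .f) (q := 360) (by norm_num) (by norm_num) rfl rfl
    (by decide) (by decide +kernel) he
  have hg := gen_step (X := 8) (Y := 9) (x := .f) (y := .g) (q := 706) (by norm_num) (by norm_num) rfl rfl
    (by decide) (by decide +kernel) hf
  have hj := gen_step (X := 9) (Y := 10) (x := .g) (y := .j) (q := 1307) (by norm_num) (by norm_num) rfl rfl
    (by decide) (by decide +kernel) hg
  intro x hx
  cases x
  case k => exact absurd rfl hx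
  case a => exact ⟨8, by decide, T_eight⟩
  case b => exact ⟨16, by decide, hb⟩
  case c => exact ⟨34, by decide, hc⟩
  case d => exact ⟨75, by decide, hd⟩
  case e => exact ⟨169, by decide, he⟩
  case f => exact ⟨360, by decide, hf⟩
  case g => exact ⟨706, by decide, hg⟩
  case j => exact ⟨1307, by decide, hj⟩
  case h => exact ⟨165, by decide, hh⟩
  case i => exact ⟨316, by decide, hi⟩
  case l => exact ⟨0, by decide, (congrArg T (Fin.ext rfl)).trans T_c0⟩

/-- Only `l` and the identity centralise the subgroup on all nodes but `k`. -/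
theorem eq_one_of_central {s : G} (hs : ∀ x : Cfsg.Spor.Fi24.Gen, x ≠ .k → s * gen x = gen x * s)
    (h3 : s ^ 3 = 1) : s = 1 := by
  have hH : s ∈ H := by
    rw [← centralizer_L]
    exact Subgroup.mem_centralizer_singleton_iff.2 (hs .l (by decide))
  have hall : ∀ h ∈ H, s * h = h * s := fun h hh => H_induction (p := fun h => s * h = h * s) hs (by simp)
    (fun u v hu hv => by rw [← mul_assoc, hu, mul_assoc, hv, mul_assoc])
    (fun u hu => (Commute.inv_right (show Commute s u from hu))) hh
  haveI := Fi23Order.order_and_simple.1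
  obtain ⟨y, hy⟩ := θ_surjective (QuotientGroup.mk' Z ⟨s, hH⟩)
  have hy' : y ∈ Subgroup.center Cfsg.Spor.Fi23 := Subgroup.mem_center_iff.2 fun w => by
    apply kernel_H.1
    obtain ⟨v, hv⟩ := QuotientGroup.mk'_surjective Z (θ w)
    rw [map_mul, map_mul, hy, ← hv, ← map_mul, ← map_mul,
      show (v * ⟨s, hH⟩ : H) = ⟨s, hH⟩ * v from Subtype.ext (hall v v.2).symm]
  have hc : Subgroup.center Cfsg.Spor.Fi23 = ⊥ := by
    refine (Subgroup.Normal.eq_bot_or_eq_top inferInstance).resolve_right fun htop => ?_
    have hmem : ∀ x : Cfsg.Spor.Fi24.Gen, x ≠ .k → gen x ∈ H := fun x hx => gen_mem hx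
    let A : H := ⟨gen .a, hmem _ (by decide)⟩
    let B : H := ⟨gen .b, hmem _ (by decide)⟩
    obtain ⟨u, hu⟩ := θ_surjective (QuotientGroup.mk' Z A)
    obtain ⟨v, hv⟩ := θ_surjective (QuotientGroup.mk' Z B)
    have hcomm : u * v = v * u :=
      Subgroup.mem_center_iff.1 (htop ▸ Subgroup.mem_top v : v ∈ Subgroup.center _) u
    have h1 := congrArg θ hcomm
    rw [map_mul, map_mul, hu, hv, ← map_mul, ← map_mul] at h1
    have hA : el [1] = gen .a := el_single (by norm_num)
    have hB : el [2] = gen .b := el_single (by norm_num)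
    have hne : ∀ w w' : List Nat, (∀ x ∈ w, x < 12) → (∀ x ∈ w', x < 12) →
        Fi24Index.data.fwd w.reverse 8 ≠ Fi24Index.data.fwd w'.reverse 8 → el w ≠ el w' :=
      fun w w' hw hw' hd e => hd (by
        have h2 : (φ (el w) (pt 8) : Nat) = (φ (el w') (pt 8) : Nat) := by rw [e]
        rwa [φ_word hw, φ_word hw'] at h2)
    rcases mem_Z (QuotientGroup.eq.1 h1) with e | e
    · have e' := congrArg Subtype.val (inv_mul_eq_one.1 e)
      simp only [Subgroup.coe_mul, A, B] at e'
      refine hne [1, 2] [2, 1] (by decide) (by decide) (by decide +kernel) ?_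
      rw [show ([1, 2] : List Nat) = [1] ++ [2] from rfl, show ([2, 1] : List Nat) = [2] ++ [1] from rfl, el_append,
        el_append, hA, hB]
      exact e'
    · simp only [Subgroup.coe_mul, Subgroup.coe_inv, A, B, _root_.mul_inv_rev, gen_inv] at e
      refine hne [2, 1, 2, 1] [11] (by decide) (by decide) (by decide +kernel) ?_
      rw [show ([2, 1, 2, 1] : List Nat) = [2] ++ [1] ++ ([2] ++ [1]) from rfl, el_append, el_append, hA, hB,
        el_single (by norm_num)]
      rw [show gen (Fi24Index.dec 11).1 = L from rfl]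
      simpa [mul_assoc] using e
  rw [hc, Subgroup.mem_bot] at hy'
  rw [hy', map_one] at hy
  rcases mem_Z ((QuotientGroup.eq_one_iff _).1 hy.symm) with e | e
  · exact congrArg Subtype.val e
  · exfalso
    have e' : s = L := e
    rw [e', pow_succ, pow_two, gen_sq, one_mul] at h3
    exact L_ne_one h3

end Cfsg.Agent.Fi24Rec
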