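import Cfsg.Agent.Fi24Rec.SwitchData

/-! Generated: kernel checks of the profiles. -/

set_option maxRecDepth 100000
set_option Elab.async false

namespace Cfsg.Agent.Fi24Rec.SwitchData

open Cfsg.Agent.CosetCert

theorem scan_at0 : allFrom scanAt 0 1000 = true := by decide +kernel

theorem scan_at1000 : allFrom scanAt 1000 1000 = true := by decide +kernel

theorem scan_at2000 : allFrom scanAt 2000 1000 = true := by decide +kernel

theorem scan_at3000 : allFrom scanAt 3000 1000 = true := by decide +kernel

theorem scan_at4000 : allFrom scanAt 4000 1000 = true := by decide +kernel

theorem scan_at5000 : allFrom scanAt 5000 1000 = true := by decide +kernel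

theorem scan_at6000 : allFrom scanAt 6000 1000 = true := by decide +kernel

theorem scan_at7000 : allFrom scanAt 7000 1000 = true := by decide +kernel

end Cfsg.Agent.Fi24Rec.SwitchData
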